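import Groth.Agent.L19.Limit.Immersion
import Groth.Agent.S12442
import Mathlib.AlgebraicGeometry.ZariskisMainTheorem
import Mathlib.AlgebraicGeometry.Morphisms.FormallyUnramified
import Mathlib.AlgebraicGeometry.Morphisms.UniversallyOpen

/-!
# Unramified and quasi-finite morphisms along cofiltered limits
-/

universe u

open CategoryTheory CategoryTheory.Limits AlgebraicGeometry Topology MorphismProperty

namespace Groth.L19.Limit

set_option backward.isDefEq.respectTransparency.types false
set_option backward.isDefEq.respectTransparency false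
set_option backward.defeqAttrib.useBackward true
set_option linter.style.haveILetI false

theorem quasiFiniteAt_iff_isOpen {X Y : Scheme.{u}} (f : X ⟶ Y) [LocallyOfFiniteType f] {y : Y}
    (x : X) (hx : f x = y) : f.QuasiFiniteAt x ↔ IsOpen {(⟨x, hx⟩ : f ⁻¹' {y})} := by
  subst hx
  rw [Scheme.Hom.quasiFiniteAt_iff_isOpen_singleton_asFiber, ← (f.fiberHomeo (f x)).isOpen_image,
    Set.image_singleton]
  simp [Scheme.Hom.asFiber]

/-- The image of a quasi-finite point of a base change is a quasi-finite point. -/
theorem quasiFiniteAt_fst {P X Y Z : Scheme.{u}} {fst : P ⟶ X} {snd : P ⟶ Y} {f : X ⟶ Z}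
    {g : Y ⟶ Z} (h : IsPullback fst snd f g) [LocallyOfFiniteType f] {p : P}
    (hp : snd.QuasiFiniteAt p) : f.QuasiFiniteAt (fst p) := by
  haveI : LocallyOfFiniteType snd := MorphismProperty.of_isPullback h ‹_›
  let y := snd p
  have hsq := isPullback_fiberToSpecResidueField_of_isPullback h y
  let π : snd.fiber y ⟶ f.fiber (g y) :=
    pullback.map _ _ _ _ fst (Spec.map (g.residueFieldMap y)) g h.w.symm (by simp)
  haveI : UniversallyOpen π := MorphismProperty.of_isPullback hsq.flip inferInstance
  let w : snd.fiber y := (snd.fiberHomeo y).symm ⟨p, rfl⟩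
  have hw : IsOpen ({w} : Set (snd.fiber y)) := by
    rw [← (snd.fiberHomeo y).isOpen_image, Set.image_singleton]
    simpa [w] using (quasiFiniteAt_iff_isOpen snd p rfl).mp hp
  have hz : IsOpen ({π w} : Set (f.fiber (g y))) := by
    rw [← Set.image_singleton]
    exact π.isOpenMap _ hw
  have e : f.fiberι (g y) (π w) = fst p := by
    exact (apply_comm (show π ≫ f.fiberι (g y) = snd.fiberι y ≫ fst by
      simp [π, Scheme.Hom.fiberι]) w).trans (congrArg (fun q => fst q)
        (snd.fiberι_fiberHomeo_symm y ⟨p, rfl⟩))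
  rw [← (f.fiberHomeo (g y)).isOpen_image, Set.image_singleton] at hz
  rw [← e]
  exact (quasiFiniteAt_iff_isOpen f _ ((f.fiberHomeo (g y)) (π w)).2).mpr hz

theorem locallyQuasiFinite_of_forall {X Y : Scheme.{u}} (f : X ⟶ Y) [LocallyOfFiniteType f]
    (h : ∀ x, f.QuasiFiniteAt x) : LocallyQuasiFinite f := by
  refine locallyQuasiFinite_iff_isDiscrete_preimage_singleton.mpr fun y => ⟨?_⟩
  exact discreteTopology_iff_isOpen_singleton.mpr fun x =>
    (quasiFiniteAt_iff_isOpen f x.1 x.2).mp (h x.1)

theorem descends_locallyQuasiFinite : Descends @LocallyQuasiFinite qcqsft.{u} := by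
  intro I _ _ D c _ hc i _ X a ha hP
  haveI : QuasiCompact a := ha.1.1
  haveI : LocallyOfFiniteType a := ha.2
  haveI : LocallyQuasiFinite (pullback.fst (c.π.app i) a) := hP
  let U : X.Opens := a.quasiFiniteLocus
  haveI : ∀ k : Over i, CompactSpace ((bcDiagram D a).obj k) := fun k =>
    haveI := compactSpace_stage (D := D) k.hom
    QuasiCompact.compactSpace_of_compactSpace (pullback.fst (D.map k.hom) a)
  let J : Over i := Over.mk (𝟙 i)
  obtain ⟨k, m, hk⟩ := exists_map_eq_top (bcDiagram D a) (bcCone D c a) (isLimitBcCone a hc)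
    (i := J) (pullback.snd (D.map J.hom) a ⁻¹ᵁ U) (by
      refine eq_top_iff.mpr fun x _ => ?_
      show pullback.snd (D.map J.hom) a ((bcCone D c a).π.app J x) ∈ U
      have e : pullback.snd (D.map J.hom) a ((bcCone D c a).π.app J x) =
          pullback.snd (c.π.app i) a x :=
        (Scheme.Hom.comp_apply ((bcCone D c a).π.app J) (pullback.snd (D.map J.hom) a) x).symm.trans
          (congrArg (fun m : pullback (c.π.app i) a ⟶ X => m x)
            (show (bcCone D c a).π.app J ≫ pullback.snd (D.map J.hom) a = pullback.snd (c.π.app i) a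
              from (pullback.lift_snd ..).trans (Category.comp_id _)))
      rw [e]
      exact quasiFiniteAt_fst (IsPullback.of_hasPullback (c.π.app i) a).flip
        ((pullback.fst (c.π.app i) a).quasiFiniteAt x))
  refine ⟨k.left, k.hom, locallyQuasiFinite_of_forall _ fun x => ?_⟩
  have hx : pullback.snd (D.map k.hom) a x ∈ U := by
    have hx : x ∈ (bcDiagram D a).map m ⁻¹ᵁ (pullback.snd (D.map J.hom) a ⁻¹ᵁ U) := by rw [hk]; trivial
    rw [← Scheme.Hom.comp_preimage,
      show (bcDiagram D a).map m ≫ pullback.snd (D.map J.hom) a = pullback.snd _ _ from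
        (pullback.lift_snd ..).trans (Category.comp_id _)] at hx
    exact hx
  haveI : LocallyQuasiFinite (U.ι ≫ a) := by
    refine locallyQuasiFinite_of_forall _ fun y => ?_
    exact Scheme.Hom.quasiFiniteAt_comp_iff_of_isOpenImmersion.mpr y.2
  let V : (pullback (D.map k.hom) a).Opens := pullback.snd (D.map k.hom) a ⁻¹ᵁ U
  have hsq : IsPullback (pullback.snd (D.map k.hom) a ∣_ U) (V.ι ≫ pullback.fst (D.map k.hom) a)
      (U.ι ≫ a) (D.map k.hom) :=
    (isPullback_morphismRestrict (pullback.snd (D.map k.hom) a) U).paste_vert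
      (IsPullback.of_hasPullback (D.map k.hom) a).flip
  haveI : LocallyQuasiFinite (V.ι ≫ pullback.fst (D.map k.hom) a) :=
    MorphismProperty.of_isPullback hsq inferInstance
  exact (Scheme.Hom.quasiFiniteAt_comp_iff_of_isOpenImmersion (f := V.ι)
    (g := pullback.fst (D.map k.hom) a) (x := ⟨x, hx⟩)).mp
    ((V.ι ≫ pullback.fst (D.map k.hom) a).quasiFiniteAt ⟨x, hx⟩)

theorem descends_formallyUnramified :
    Descends @FormallyUnramified qcqsft.{u} := by
  intro I _ _ D c _ hc i _ X a ha hP
  haveI : QuasiCompact a := ha.1.1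
  haveI : QuasiSeparated a := ha.1.2
  haveI : LocallyOfFiniteType a := ha.2
  haveI : FormallyUnramified (pullback.fst (c.π.app i) a) := hP
  haveI : LocallyOfFiniteType (pullback.fst (c.π.app i) a) :=
    MorphismProperty.pullback_fst (P := @LocallyOfFiniteType) _ _ ha.2
  haveI : LocallyOfFinitePresentation (pullback.diagonal a ≫ pullback.fst a a) := by
    rw [pullback.diagonal_fst]; infer_instance
  haveI : LocallyOfFiniteType (pullback.fst a a) :=
    MorphismProperty.pullback_fst (P := @LocallyOfFiniteType) _ _ ha.2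
  haveI : LocallyOfFinitePresentation (pullback.diagonal a) :=
    Groth.Agent.S12442.result (pullback.diagonal a) (pullback.fst a a)
  obtain ⟨j, φ, hj⟩ := descends_isOpenImmersion.diagonal hc a
    ⟨⟨⟨QuasiSeparated.quasiCompact_diagonal, inferInstance⟩, inferInstance⟩, inferInstance⟩
    (inferInstanceAs (IsOpenImmersion (pullback.diagonal (pullback.fst (c.π.app i) a))))
  haveI : IsOpenImmersion (pullback.diagonal (pullback.fst (D.map φ) a)) := hj
  exact ⟨j, φ, inferInstanceAs (FormallyUnramified (pullback.fst (D.map φ) a))⟩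

end Groth.L19.Limit
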