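import Groth.Agent.L19.Limit.Model
import Mathlib.RingTheory.Smooth.NoetherianDescent
import Mathlib.AlgebraicGeometry.Morphisms.Smooth
import Mathlib.AlgebraicGeometry.Morphisms.Etale
import Mathlib.RingTheory.Etale.Basic

/-!
# Smooth and etale morphisms along cofiltered limits
-/

universe u

open CategoryTheory CategoryTheory.Limits AlgebraicGeometry MorphismProperty TensorProduct

namespace Groth.L19.Limit

set_option backward.isDefEq.respectTransparency.types false
set_option backward.isDefEq.respectTransparency false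
set_option backward.defeqAttrib.useBackward true
set_option linter.style.haveILetI false

theorem lfp_toTerminal (R : Type u) [CommRing R] [Algebra.FiniteType ℤ R] :
    LocallyOfFinitePresentation (specULiftZIsTerminal.from (Spec (CommRingCat.of R))) := by
  let φ : CommRingCat.of (ULift.{u} ℤ) ⟶ CommRingCat.of R :=
    CommRingCat.ofHom ((algebraMap ℤ R).comp (ULift.ringEquiv : ULift.{u} ℤ ≃+* ℤ).toRingHom)
  rw [specULiftZIsTerminal.hom_ext (specULiftZIsTerminal.from _) (Spec.map φ),
    LocallyOfFinitePresentation.SpecMap_iff]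
  exact ((RingHom.finitePresentation_algebraMap (A := ℤ) (B := R)).mpr
    (Algebra.FinitePresentation.of_finiteType.mp inferInstance)).comp
    (RingHom.FinitePresentation.of_bijective (ULift.ringEquiv : ULift.{u} ℤ ≃+* ℤ).bijective)

variable {I : Type u} [Category.{u} I] [IsCofiltered I] {D : I ⥤ Scheme.{u}} {c : Cone D}
  [∀ {i j} (f : i ⟶ j), IsAffineHom (D.map f)]

/-- Descent from a ring-theoretic model. -/
theorem exists_stage_of_ringModel {P : MorphismProperty Scheme.{u}} [P.IsStableUnderBaseChange]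
    [∀ j, IsAffine (D.obj j)] (hc : IsLimit c) {i : I} {X : Scheme.{u}} [IsAffine X]
    (a : X ⟶ D.obj i) [LocallyOfFinitePresentation a]
    {A' B' : Type u} [CommRing A'] [Algebra.FiniteType ℤ A'] [CommRing B'] [Algebra A' B']
    [Algebra.FinitePresentation A' B']
    (hP : P (Spec.map (CommRingCat.ofHom (algebraMap A' B'))))
    [Algebra A' Γ(c.pt, ⊤)]
    (hB : letI : Algebra Γ(c.pt, ⊤) Γ(pullback (c.π.app i) a, ⊤) :=
        (pullback.fst (c.π.app i) a).appTop.hom.toAlgebra
      Nonempty (Γ(pullback (c.π.app i) a, ⊤) ≃ₐ[Γ(c.pt, ⊤)] Γ(c.pt, ⊤) ⊗[A'] B')) :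
    ∃ (j : I) (φ : j ⟶ i), Pb P a (D.map φ) := by
  haveI : IsAffine c.pt := Scheme.isAffine_of_isLimit c hc
  haveI : IsAffine (((Functor.const I).obj c.pt).obj i) := inferInstanceAs (IsAffine c.pt)
  let p : pullback (c.π.app i) a ⟶ c.pt := pullback.fst (c.π.app i) a
  haveI : IsAffine (pullback (c.π.app i) a) := inferInstance
  letI : Algebra Γ(c.pt, ⊤) Γ(pullback (c.π.app i) a, ⊤) := p.appTop.hom.toAlgebra
  obtain ⟨e⟩ := hB
  haveI := lfp_toTerminal A'
  let w := Spec.map (CommRingCat.ofHom (algebraMap A' B'))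
  haveI : LocallyOfFinitePresentation w := (LocallyOfFinitePresentation.SpecMap_iff _).mpr
    ((RingHom.finitePresentation_algebraMap (A := A') (B := B')).mpr inferInstance)
  let εE : CommRingCat.of (Γ(c.pt, ⊤) ⊗[A'] B') ≅ Γ(pullback (c.π.app i) a, ⊤) :=
    e.toRingEquiv.toCommRingCatIso.symm
  refine exists_stage_of_model hc a w hP
    (c.pt.isoSpec.hom ≫ Spec.map (CommRingCat.ofHom (algebraMap A' Γ(c.pt, ⊤))))
    (p := p) (qa := pullback.snd _ _)
    (qw := (pullback (c.π.app i) a).isoSpec.hom ≫ Spec.map εE.hom ≫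
      Spec.map (CommRingCat.ofHom Algebra.TensorProduct.includeRight.toRingHom))
    (IsPullback.of_hasPullback _ _).flip ?_
  have h := (isPullback_SpecMap_of_isPushout _ _ _ _
    (CommRingCat.isPushout_tensorProduct A' Γ(c.pt, ⊤) B')).flip
  refine h.of_iso ((Scheme.Spec.mapIso εE.symm.op) ≪≫ (pullback (c.π.app i) a).isoSpec.symm)
    (Iso.refl _) c.pt.isoSpec.symm (Iso.refl _) ?_ ?_ (by simp [w]) (by simp)
  · simp [← Spec.map_comp_assoc, ← Spec.map_comp]
  · have hcomp : CommRingCat.ofHom Algebra.TensorProduct.includeLeftRingHom ≫ εE.hom = p.appTop := by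
      ext x
      exact e.symm.commutes x
    show Spec.map (CommRingCat.ofHom Algebra.TensorProduct.includeLeftRingHom) ≫ c.pt.isoSpec.inv =
      (Spec.map εE.inv ≫ (pullback (c.π.app i) a).isoSpec.inv) ≫ p
    rw [Category.assoc, ← Scheme.isoSpec_inv_naturality p, ← hcomp, Spec.map_comp, Category.assoc,
      ← Spec.map_comp_assoc, εE.hom_inv_id, Spec.map_id, Category.id_comp]

theorem descendsAffine_smooth : DescendsAffine @Smooth qcqsfp.{u} := by
  refine descendsAffine_of_source fun {I} _ _ {D} {c} _ _ hc {i} {X} _ a _ hP => ?_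
  haveI : IsAffine c.pt := Scheme.isAffine_of_isLimit c hc
  haveI : IsAffine (((Functor.const I).obj c.pt).obj i) := inferInstanceAs (IsAffine c.pt)
  let p : pullback (c.π.app i) a ⟶ c.pt := pullback.fst (c.π.app i) a
  haveI : IsAffine (pullback (c.π.app i) a) := inferInstance
  have hsm : p.appTop.hom.Smooth := HasRingHomProperty.appTop @Smooth p hP
  letI : Algebra Γ(c.pt, ⊤) Γ(pullback (c.π.app i) a, ⊤) := p.appTop.hom.toAlgebra
  haveI : Algebra.Smooth Γ(c.pt, ⊤) Γ(pullback (c.π.app i) a, ⊤) := hsm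
  obtain ⟨A', B', _, _, hA', hB', he⟩ :=
    Algebra.Smooth.exists_subalgebra_fg ℤ Γ(c.pt, ⊤) Γ(pullback (c.π.app i) a, ⊤)
  haveI : Algebra.FiniteType ℤ A' := A'.fg_iff_finiteType.mp hA'
  haveI := hB'
  refine exists_stage_of_ringModel (P := @Smooth) hc a (A' := A') (B' := B') ?_ he
  exact (HasRingHomProperty.Spec_iff (P := @Smooth)).mpr (RingHom.smooth_algebraMap.mpr hB')

theorem descends_smooth : Descends @Smooth qcqsfp.{u} :=
  descends_of_affine descendsAffine_smooth

theorem descendsAffine_etale : DescendsAffine @Etale qcqsfp.{u} := by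
  refine descendsAffine_of_source fun {I} _ _ {D} {c} _ _ hc {i} {X} _ a _ hP => ?_
  haveI : IsAffine c.pt := Scheme.isAffine_of_isLimit c hc
  haveI : IsAffine (((Functor.const I).obj c.pt).obj i) := inferInstanceAs (IsAffine c.pt)
  let p : pullback (c.π.app i) a ⟶ c.pt := pullback.fst (c.π.app i) a
  haveI : IsAffine (pullback (c.π.app i) a) := inferInstance
  have hsm : p.appTop.hom.Etale := HasRingHomProperty.appTop @Etale p hP
  letI : Algebra Γ(c.pt, ⊤) Γ(pullback (c.π.app i) a, ⊤) := p.appTop.hom.toAlgebra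
  haveI : Algebra.Etale Γ(c.pt, ⊤) Γ(pullback (c.π.app i) a, ⊤) := hsm
  obtain ⟨A', B', _, _, hA', hB', he⟩ :=
    Algebra.Etale.exists_subalgebra_fg ℤ Γ(c.pt, ⊤) Γ(pullback (c.π.app i) a, ⊤)
  haveI : Algebra.FiniteType ℤ A' := A'.fg_iff_finiteType.mp hA'
  haveI := hB'
  refine exists_stage_of_ringModel (P := @Etale) hc a (A' := A') (B' := B') ?_ he
  exact (HasRingHomProperty.Spec_iff (P := @Etale)).mpr (RingHom.etale_algebraMap.mpr hB')

theorem descends_etale : Descends @Etale qcqsfp.{u} :=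
  descends_of_affine descendsAffine_etale

end Groth.L19.Limit
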