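import Mathlib.AlgebraicGeometry.AffineTransitionLimit
import Mathlib.AlgebraicGeometry.ResidueField
import Mathlib.Topology.Category.TopCat.Limits.Basic
import Mathlib.Topology.Sets.Opens

/-!
# Points of cofiltered limits of schemes with affine transition maps
-/

universe u

open CategoryTheory CategoryTheory.Limits AlgebraicGeometry

namespace Groth.L19.Limit

set_option backward.isDefEq.respectTransparency.types false

variable {I : Type u} [Category.{u} I] [IsCofiltered I] (D : I ⥤ Scheme.{u}) (c : Cone D)

variable {D c}

/-- Every compatible family of points comes from a point of the limit. -/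
theorem exists_apply_eq (hc : IsLimit c) (x : ∀ j, D.obj j)
    (hx : ∀ ⦃j k : I⦄ (f : j ⟶ k), D.map f (x j) = x k) :
    ∃ p : c.pt, ∀ j, c.π.app j p = x j := by
  have hφ : ∀ ⦃j k : I⦄ (f : j ⟶ k), ∃ φ : (D.obj k).residueField (x k) ⟶ (D.obj j).residueField (x j),
      Spec.map φ ≫ (D.obj k).fromSpecResidueField (x k) =
        (D.obj j).fromSpecResidueField (x j) ≫ D.map f := fun j k f =>
    ⟨((D.obj k).residueFieldCongr (hx f).symm).hom ≫ (D.map f).residueFieldMap (x j), by
      rw [Spec.map_comp, Category.assoc, Scheme.residueFieldCongr_fromSpecResidueField,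
        Scheme.Hom.SpecMap_residueFieldMap_fromSpecResidueField]⟩
  choose φ hφ using hφ
  let G : Iᵒᵖ ⥤ CommRingCat.{u} :=
    { obj j := (D.obj j.unop).residueField (x j.unop)
      map f := φ f.unop
      map_id j := by
        apply Spec.map_injective
        rw [← cancel_mono ((D.obj j.unop).fromSpecResidueField (x j.unop))]
        simp [hφ]
      map_comp {j k l} f g := by
        apply Spec.map_injective
        rw [← cancel_mono ((D.obj j.unop).fromSpecResidueField (x j.unop))]
        simp [hφ, reassoc_of% hφ] }
  haveI : ∀ j, Nontrivial (G.obj j) := fun j =>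
    inferInstanceAs (Nontrivial ((D.obj j.unop).residueField (x j.unop)))
  let cG := colimit.cocone G
  haveI : Nontrivial cG.pt := CommRingCat.FilteredColimits.nontrivial (colimit.isColimit G)
  let s : Cone D :=
    { pt := Spec cG.pt
      π :=
        { app := fun j => Spec.map (cG.ι.app (Opposite.op j)) ≫ (D.obj j).fromSpecResidueField (x j)
          naturality := fun j k f => by
            dsimp
            rw [Category.id_comp, Category.assoc, ← hφ f, ← Category.assoc, ← Spec.map_comp]
            congr 2
            exact (cG.w f.op).symm } }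
  obtain ⟨q⟩ : Nonempty (PrimeSpectrum cG.pt) := inferInstance
  refine ⟨hc.lift s q, fun j => ?_⟩
  rw [← Scheme.Hom.comp_apply, hc.fac]
  change (Spec.map (cG.ι.app (Opposite.op j)) ≫ (D.obj j).fromSpecResidueField (x j)) q = x j
  rw [Scheme.Hom.comp_apply, Scheme.fromSpecResidueField_apply]

variable [∀ {i j} (f : i ⟶ j), IsAffineHom (D.map f)]

/-- Two points of the limit with the same images in every stage are equal. -/
theorem ext_of_forall_apply_eq (hc : IsLimit c) {p q : c.pt}
    (h : ∀ j, c.π.app j p = c.π.app j q) : p = q := by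
  refine ((isBasis_preimage_isAffineOpen D c hc).inseparable_iff.mpr ?_).eq
  rintro _ ⟨U, ⟨i, V, -, rfl⟩, rfl⟩
  change c.π.app i p ∈ V ↔ c.π.app i q ∈ V
  rw [h i]

/-- The topology of the limit is induced by the projections. -/
theorem eq_induced (hc : IsLimit c) :
    (inferInstance : TopologicalSpace c.pt) =
      ⨅ j, (inferInstance : TopologicalSpace (D.obj j)).induced (c.π.app j) := by
  refine le_antisymm (le_iInf fun j => continuous_iff_le_induced.mp (c.π.app j).continuous) ?_
  rw [(TopologicalSpace.Opens.isBasis_iff_nbhd.mpr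
    (TopologicalSpace.Opens.isBasis_iff_nbhd.mp (isBasis_preimage_isAffineOpen D c hc))).eq_generateFrom]
  refine le_generateFrom ?_
  rintro _ ⟨U, ⟨i, V, -, rfl⟩, rfl⟩
  exact TopologicalSpace.le_def.mp (iInf_le _ i) _ ⟨V, V.2, rfl⟩

/-- The underlying space of the limit is the limit of the underlying spaces. -/
theorem nonempty_isLimit_forgetToTop (hc : IsLimit c) :
    Nonempty (IsLimit (Scheme.forgetToTop.mapCone c)) := by
  have h : Nonempty (IsLimit ((forget TopCat).mapCone (Scheme.forgetToTop.mapCone c))) := by
    rw [Types.isLimit_iff]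
    intro s hs
    obtain ⟨p, hp⟩ := exists_apply_eq hc s (fun j k f => hs f)
    exact ⟨p, hp, fun q hq => ext_of_forall_apply_eq hc fun j => (hq j).trans (hp j).symm⟩
  exact (TopCat.nonempty_isLimit_iff_eq_induced _ h.some).mpr (eq_induced hc)

end Groth.L19.Limit
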