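import Mathlib.AlgebraicGeometry.AffineTransitionLimit
import Mathlib.AlgebraicGeometry.PullbackCarrier
import Mathlib.CategoryTheory.Limits.Shapes.Pullback.Connected
import Mathlib.CategoryTheory.Limits.Constructions.Over.Connected
import Groth.Agent.L19.Limit.Points

/-!
# Base change of a cofiltered limit along a morphism to one stage
-/

universe u

open CategoryTheory CategoryTheory.Limits AlgebraicGeometry

namespace Groth.L19.Limit

set_option backward.isDefEq.respectTransparency.types false
set_option backward.isDefEq.respectTransparency false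
set_option backward.defeqAttrib.useBackward true

variable {I : Type u} [Category.{u} I] (D : I ⥤ Scheme.{u}) (c : Cone D)
  {i : I} {T : Scheme.{u}} (g : T ⟶ D.obj i)

/-- The diagram `D j ×[D i] T` over the indices `j ⟶ i`. -/
noncomputable def bcDiagram : Over i ⥤ Scheme.{u} where
  obj j := pullback (D.map j.hom) g
  map {j k} f := pullback.map _ _ _ _ (D.map f.left) (𝟙 _) (𝟙 _)
    (by rw [Category.comp_id, ← D.map_comp, Over.w f]) (by simp)
  map_id j := by apply pullback.hom_ext <;> simp
  map_comp f g := by apply pullback.hom_ext <;> simp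

/-- The projection to the original diagram. -/
noncomputable def bcFst : bcDiagram D g ⟶ Over.forget i ⋙ D where
  app j := pullback.fst _ _
  naturality j k f := by simp [bcDiagram]

/-- The cone with apex `lim D ×[D i] T`. -/
noncomputable def bcCone : Cone (bcDiagram D g) where
  pt := pullback (c.π.app i) g
  π :=
    { app := fun j => pullback.map _ _ _ _ (c.π.app j.left) (𝟙 _) (𝟙 _)
        (by rw [Category.comp_id, c.w]) (by simp)
      naturality := fun j k f => by
        apply pullback.hom_ext <;> simp [bcDiagram] }

theorem isPullback_bcCone (j : Over i) :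
    IsPullback ((bcCone D c g).π.app j) (pullback.fst (c.π.app i) g)
      ((bcFst D g).app j) (c.π.app j.left) := by
  refine (IsPullback.of_bot (v₁₁ := (bcCone D c g).π.app j) ?_ ?_
    (IsPullback.of_hasPullback (D.map j.hom) g)).flip
  · have h1 : (bcCone D c g).π.app j ≫ pullback.snd (D.map j.hom) g = pullback.snd (c.π.app i) g := by
      simp [bcCone]
    rw [h1, c.w]
    exact IsPullback.of_hasPullback _ _
  · simp [bcCone]

attribute [local instance] CategoryTheory.isConnected_of_hasTerminal

variable {D c}

/-- `lim D ×[D i] T` is the limit of the `D j ×[D i] T`. -/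
noncomputable def isLimitBcCone [IsCofiltered I] (hc : IsLimit c) : IsLimit (bcCone D c g) :=
  isLimitOfIsPullbackOfIsConnected (bcFst D g) (bcCone D c g) (c.whisker (Over.forget i))
    { hom := pullback.fst (c.π.app i) g
      w := fun j => (isPullback_bcCone D c g j).w.symm }
    (fun j => isPullback_bcCone D c g j)
    ((Functor.Initial.isLimitWhiskerEquiv (Over.forget i) c).symm hc)

instance [∀ {i j} (f : i ⟶ j), IsAffineHom (D.map f)] (j : Over i) :
    IsAffineHom (pullback.snd (D.map j.hom) g) :=
  MorphismProperty.pullback_snd (P := @IsAffineHom) _ _ inferInstance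

instance [∀ {i j} (f : i ⟶ j), IsAffineHom (D.map f)] {j k : Over i} (f : j ⟶ k) :
    IsAffineHom ((bcDiagram D g).map f) := by
  haveI : IsAffineHom ((bcDiagram D g).map f ≫ pullback.snd (D.map k.hom) g) := by
    simp only [bcDiagram, pullback.lift_snd, Category.comp_id]
    infer_instance
  exact IsAffineHom.of_comp _ (pullback.snd (D.map k.hom) g)

variable [IsCofiltered I] [∀ {i j} (f : i ⟶ j), IsAffineHom (D.map f)]

/-- If `T` is quasi-compact and all `D j ×[D i] T` are nonempty, so is `lim D ×[D i] T`. -/
theorem nonempty_pullback (hc : IsLimit c) [CompactSpace T]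
    (h : ∀ (j : I) (φ : j ⟶ i), Nonempty ↥(pullback (D.map φ) g)) :
    Nonempty ↥(pullback (c.π.app i) g) := by
  haveI : ∀ j : Over i, Nonempty ((bcDiagram D g).obj j) := fun j => h j.left j.hom
  haveI : ∀ j : Over i, CompactSpace ((bcDiagram D g).obj j) := fun j =>
    QuasiCompact.compactSpace_of_compactSpace (pullback.snd (D.map j.hom) g)
  exact Scheme.nonempty_of_isLimit (bcDiagram D g) (bcCone D c g) (isLimitBcCone g hc)

/-- The image of a projection is the intersection of the images of the transition maps. -/
theorem range_π_app (hc : IsLimit c) (i : I) :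
    Set.range (c.π.app i) = ⋂ (j : I) (φ : j ⟶ i), Set.range (D.map φ) := by
  refine Set.Subset.antisymm ?_ fun x hx => ?_
  · rintro _ ⟨p, rfl⟩
    simp only [Set.mem_iInter]
    exact fun j φ => ⟨c.π.app j p,
      (Scheme.Hom.comp_apply (c.π.app j) (D.map φ) p).symm.trans (by rw [c.w]; rfl)⟩
  · simp only [Set.mem_iInter] at hx
    have : Nonempty ↥(pullback (c.π.app i) ((D.obj i).fromSpecResidueField x)) := by
      refine nonempty_pullback _ hc fun j φ => ?_
      obtain ⟨y, hy⟩ := hx j φ
      obtain ⟨z, -⟩ := Scheme.Pullback.exists_preimage_pullback y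
        (default : Spec ((D.obj i).residueField x))
        (f := D.map φ) (g := (D.obj i).fromSpecResidueField x)
        (by rw [Scheme.fromSpecResidueField_apply, hy])
      exact ⟨z⟩
    obtain ⟨z⟩ := this
    refine ⟨pullback.fst (c.π.app i) ((D.obj i).fromSpecResidueField x) z, ?_⟩
    rw [← Scheme.Hom.comp_apply, pullback.condition, Scheme.Hom.comp_apply,
      Scheme.fromSpecResidueField_apply]

end Groth.L19.Limit
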