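import Groth.Agent.L19.Limit.Model
import Groth.Agent.L07.FlatStage
import Mathlib.AlgebraicGeometry.Morphisms.Flat

/-!
# Flat morphisms along cofiltered limits
-/

universe u

open CategoryTheory CategoryTheory.Limits AlgebraicGeometry MorphismProperty TensorProduct

namespace Groth.L19.Limit

set_option backward.isDefEq.respectTransparency.types false
set_option backward.isDefEq.respectTransparency false
set_option backward.defeqAttrib.useBackward true
set_option linter.style.haveILetI false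

/-- Base change of affine schemes in terms of tensor products. -/
theorem pb_iff_tensorProduct {P : MorphismProperty Scheme.{u}} [P.IsStableUnderBaseChange]
    {X S T : Scheme.{u}} [IsAffine X] [IsAffine S] [IsAffine T] (a : X ⟶ S) (g : T ⟶ S) :
    letI := a.appTop.hom.toAlgebra
    letI := g.appTop.hom.toAlgebra
    Pb P a g ↔ P (Spec.map (CommRingCat.ofHom (Algebra.TensorProduct.includeLeftRingHom :
      Γ(T, ⊤) →+* Γ(T, ⊤) ⊗[Γ(S, ⊤)] Γ(X, ⊤)))) := by
  letI := a.appTop.hom.toAlgebra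
  letI := g.appTop.hom.toAlgebra
  have h := isPullback_SpecMap_of_isPushout _ _ _ _
    (CommRingCat.isPushout_tensorProduct Γ(S, ⊤) Γ(T, ⊤) Γ(X, ⊤))
  let p : Spec (CommRingCat.of (Γ(T, ⊤) ⊗[Γ(S, ⊤)] Γ(X, ⊤))) ⟶ T :=
    Spec.map (CommRingCat.ofHom Algebra.TensorProduct.includeLeftRingHom) ≫ T.isoSpec.inv
  let q : Spec (CommRingCat.of (Γ(T, ⊤) ⊗[Γ(S, ⊤)] Γ(X, ⊤))) ⟶ X :=
    Spec.map (CommRingCat.ofHom (Algebra.TensorProduct.includeRight
      (R := Γ(S, ⊤)) (A := Γ(T, ⊤)) (B := Γ(X, ⊤))).toRingHom) ≫ X.isoSpec.inv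
  have hpq : IsPullback q p a g := (h.of_iso (Iso.refl _) T.isoSpec.symm X.isoSpec.symm S.isoSpec.symm
    (by simp [p]) (by simp [q]) (Scheme.isoSpec_inv_naturality g)
    (Scheme.isoSpec_inv_naturality a)).flip
  exact (pb_iff_of_isPullback hpq).symm.trans (P.cancel_right_of_respectsIso _ _)

theorem pb_flat_iff {X S T : Scheme.{u}} [IsAffine X] [IsAffine S] [IsAffine T]
    (a : X ⟶ S) (g : T ⟶ S) :
    letI := a.appTop.hom.toAlgebra
    letI := g.appTop.hom.toAlgebra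
    Pb @Flat a g ↔ Module.Flat Γ(T, ⊤) (Γ(T, ⊤) ⊗[Γ(S, ⊤)] Γ(X, ⊤)) := by
  letI := a.appTop.hom.toAlgebra
  letI := g.appTop.hom.toAlgebra
  refine (pb_iff_tensorProduct (P := @Flat) a g).trans
    ((HasRingHomProperty.Spec_iff (P := @Flat)).trans ?_)
  exact RingHom.flat_algebraMap_iff

open Groth.L07.FlatDescent in
theorem descendsAffine_flat : DescendsAffine @Flat qcqsfp.{u} := by
  refine descendsAffine_of_source fun {I} _ _ {D} {c} _ _ hc {i} {X} _ a _ hP => ?_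
  haveI : IsAffine c.pt := Scheme.isAffine_of_isLimit c hc
  haveI : IsAffine (((Functor.const I).obj c.pt).obj i) := inferInstanceAs (IsAffine c.pt)
  letI algB₀ : Algebra Γ(D.obj i, ⊤) Γ(X, ⊤) := a.appTop.hom.toAlgebra
  haveI : Algebra.FinitePresentation Γ(D.obj i, ⊤) Γ(X, ⊤) :=
    HasRingHomProperty.appTop @LocallyOfFinitePresentation a inferInstance
  obtain ⟨d, n, R, hR, K, ⟨e⟩⟩ := exists_model Γ(D.obj i, ⊤) (B₀ := Γ(X, ⊤)) Γ(X, ⊤)
  let gl : c.pt ⟶ D.obj i := c.π.app i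
  letI algA : Algebra Γ(D.obj i, ⊤) Γ(c.pt, ⊤) := gl.appTop.hom.toAlgebra
  letI : Algebra R Γ(c.pt, ⊤) := ((algebraMap Γ(D.obj i, ⊤) Γ(c.pt, ⊤)).comp
    (algebraMap R Γ(D.obj i, ⊤))).toAlgebra
  haveI : IsScalarTower R Γ(D.obj i, ⊤) Γ(c.pt, ⊤) := IsScalarTower.of_algebraMap_eq fun _ => rfl
  obtain ⟨eA⟩ := exists_modelEquiv K e Γ(c.pt, ⊤)
  haveI : Module.Flat Γ(c.pt, ⊤) (Γ(c.pt, ⊤) ⊗[Γ(D.obj i, ⊤)] Γ(X, ⊤)) :=
    (pb_flat_iff a gl).mp hP
  haveI : Module.Flat Γ(c.pt, ⊤) (MC Γ(c.pt, ⊤) K) := Module.Flat.of_linearEquiv eA.symm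
  obtain ⟨B, hB, hflat⟩ := exists_fg_stage K Γ(c.pt, ⊤)
  haveI : Algebra.FiniteType R B := B.fg_iff_finiteType.mp hB
  haveI : Algebra.FinitePresentation R B := Algebra.FinitePresentation.of_finiteType.mp inferInstance
  let f : Spec (CommRingCat.of B) ⟶ Spec (CommRingCat.of R) :=
    Spec.map (CommRingCat.ofHom (algebraMap R B))
  haveI : LocallyOfFinitePresentation f := (LocallyOfFinitePresentation.SpecMap_iff _).mpr
    ((RingHom.finitePresentation_algebraMap (A := R) (B := B)).mpr inferInstance)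
  let s : D.obj i ⟶ Spec (CommRingCat.of R) :=
    (D.obj i).isoSpec.hom ≫ Spec.map (CommRingCat.ofHom (algebraMap R Γ(D.obj i, ⊤)))
  let t : Over.forget i ⋙ D ⟶ (Functor.const (Over i)).obj (Spec (CommRingCat.of R)) :=
    { app := fun k => D.map k.hom ≫ s
      naturality := fun k l m => by
        dsimp
        rw [← D.map_comp_assoc, Over.w m, Category.comp_id] }
  haveI : ∀ {k l : Over i} (m : k ⟶ l), IsAffineHom ((Over.forget i ⋙ D).map m) := fun m =>
    inferInstanceAs (IsAffineHom (D.map m.left))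
  haveI : ∀ k, CompactSpace ((Over.forget i ⋙ D).obj k) := fun k =>
    inferInstanceAs (CompactSpace (D.obj k.left))
  haveI : ∀ k, QuasiSeparatedSpace ((Over.forget i ⋙ D).obj k) := fun k =>
    inferInstanceAs (QuasiSeparatedSpace (D.obj k.left))
  let a' : (c.whisker (Over.forget i)).pt ⟶ Spec (CommRingCat.of B) :=
    c.pt.isoSpec.hom ≫ Spec.map (CommRingCat.ofHom B.val.toRingHom)
  obtain ⟨k, g, -, hg⟩ := Scheme.exists_π_app_comp_eq_of_locallyOfFinitePresentation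
    (Over.forget i ⋙ D) t f (c.whisker (Over.forget i))
    ((Functor.Initial.isLimitWhiskerEquiv (Over.forget i) c).symm hc) a' (by
      ext k : 2
      show c.π.app k.left ≫ D.map k.hom ≫ s = (c.pt.isoSpec.hom ≫ _) ≫ f
      rw [c.w_assoc]
      simp only [s, f, Category.assoc, ← Spec.map_comp, ← CommRingCat.ofHom_comp]
      rw [← Scheme.isoSpec_hom_naturality_assoc gl, ← Spec.map_comp]
      congr 2)
  obtain ⟨r, hr⟩ := Spec.map_surjective (R := CommRingCat.of B) (S := Γ(D.obj k.left, ⊤))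
    ((D.obj k.left).isoSpec.inv ≫ g)
  letI algG : Algebra Γ(D.obj i, ⊤) Γ(D.obj k.left, ⊤) := (D.map k.hom).appTop.hom.toAlgebra
  letI : Algebra R Γ(D.obj k.left, ⊤) := ((algebraMap Γ(D.obj i, ⊤) Γ(D.obj k.left, ⊤)).comp
    (algebraMap R Γ(D.obj i, ⊤))).toAlgebra
  haveI : IsScalarTower R Γ(D.obj i, ⊤) Γ(D.obj k.left, ⊤) :=
    IsScalarTower.of_algebraMap_eq fun _ => rfl
  letI : Algebra B Γ(D.obj k.left, ⊤) := r.hom.toAlgebra
  have hcomp : CommRingCat.ofHom (algebraMap R B) ≫ r =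
      CommRingCat.ofHom (algebraMap R Γ(D.obj k.left, ⊤)) := by
    apply Spec.map_injective
    rw [Spec.map_comp, hr, Category.assoc]
    show _ ≫ g ≫ f = _
    rw [hg]
    show _ ≫ D.map k.hom ≫ s = _
    rw [← Category.assoc, ← Scheme.isoSpec_inv_naturality]
    simp [s, ← Spec.map_comp]
    rfl
  haveI : IsScalarTower R B Γ(D.obj k.left, ⊤) :=
    IsScalarTower.of_algebraMap_eq fun x => (congr($hcomp x)).symm
  haveI : Module.Flat Γ(D.obj k.left, ⊤) (MC Γ(D.obj k.left, ⊤) K) := flat_MC_of_flat K (A := B)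
  obtain ⟨eG⟩ := exists_modelEquiv K e Γ(D.obj k.left, ⊤)
  exact ⟨k.left, k.hom, (pb_flat_iff a (D.map k.hom)).mpr (Module.Flat.of_linearEquiv eG)⟩

theorem descends_flat : Descends @Flat qcqsfp.{u} :=
  descends_of_affine descendsAffine_flat

end Groth.L19.Limit
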