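import Groth.Prelude.Def_ProCons
import Groth.Agent.L06.Spectral
import Mathlib.AlgebraicGeometry.Morphisms.Affine
import Mathlib.AlgebraicGeometry.Morphisms.QuasiSeparated
import Mathlib.AlgebraicGeometry.Restrict
import Mathlib.AlgebraicGeometry.Properties
import Mathlib.Topology.Spectral.ConstructibleTopology

/-!
# Constructibly closed subsets of a scheme

A subset of a scheme is constructibly closed (`CC`) if its trace on every affine open is closed
for the constructible topology.
-/

universe u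

open CategoryTheory AlgebraicGeometry Topology TopologicalSpace Set

namespace Groth.L19.Limit

local notation "cons" => constructibleTopology

theorem spectralSpace_of_isAffine (X : Scheme.{u}) [IsAffine X] : SpectralSpace X :=
  { (inferInstance : T0Space X), (inferInstance : CompactSpace X), (inferInstance : QuasiSober X),
    (inferInstance : QuasiSeparatedSpace X), (inferInstance : PrespectralSpace X) with }

theorem spectralSpace_opens {X : Scheme.{u}} {U : X.Opens} (hU : IsAffineOpen U) :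
    SpectralSpace (U : Scheme.{u}) :=
  haveI : IsAffine (U : Scheme.{u}) := hU
  spectralSpace_of_isAffine _

/-- Constructibly closed subsets of a scheme. -/
def CC {X : Scheme.{u}} (C : Set X) : Prop :=
  ∀ U : X.Opens, IsAffineOpen U → IsClosed[cons (U : Scheme.{u})] (U.ι ⁻¹' C)

variable {X Y : Scheme.{u}}

theorem isClosed_cons_of_local {U : X.Opens} (hU : IsAffineOpen U) {C : Set X}
    (h : ∀ x ∈ U, ∃ W : X.Opens, W ≤ U ∧ IsAffineOpen W ∧ x ∈ W ∧
      IsClosed[cons (W : Scheme.{u})] (W.ι ⁻¹' C)) :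
    IsClosed[cons (U : Scheme.{u})] (U.ι ⁻¹' C) := by
  choose W hWU hW hxW hcl using h
  obtain ⟨t, ht⟩ := hU.isCompact.elim_finite_subcover (fun x : U => (W x.1 x.2 : Set X))
    (fun x => (W x.1 x.2).2) fun x hx => Set.mem_iUnion.mpr ⟨⟨x, hx⟩, hxW x hx⟩
  haveI : IsAffine (U : Scheme.{u}) := hU
  haveI := spectralSpace_opens hU
  have hj : ∀ (x : U) (w : (W x.1 x.2 : Scheme.{u})),
      U.ι (X.homOfLE (hWU x.1 x.2) w) = (W x.1 x.2).ι w := fun x w => by
    rw [← Scheme.Hom.comp_apply, Scheme.homOfLE_ι]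
  have : (U.ι ⁻¹' C : Set (U : Scheme.{u})) =
      ⋃ x ∈ t, X.homOfLE (hWU x.1 x.2) '' ((W x.1 x.2).ι ⁻¹' C) := by
    ext z
    simp only [Set.mem_iUnion, Set.mem_image, Set.mem_preimage]
    refine ⟨fun hz => ?_, ?_⟩
    · obtain ⟨x, hxt, hzx⟩ := Set.mem_iUnion₂.mp (ht z.2)
      have e : U.ι (X.homOfLE (hWU x.1 x.2) ⟨z.1, hzx⟩) = U.ι z := by
        rw [hj]; rfl
      refine ⟨x, hxt, ⟨z.1, hzx⟩, hz, U.ι.isOpenEmbedding.injective e⟩
    · rintro ⟨x, _, w, hw, rfl⟩
      rwa [hj]
  rw [this]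
  refine @Set.Finite.isClosed_biUnion _ _ (cons (U : Scheme.{u})) _ _ t.finite_toSet fun x _ => ?_
  haveI : IsAffine (W x.1 x.2 : Scheme.{u}) := hW x.1 x.2
  haveI := spectralSpace_opens (hW x.1 x.2)
  exact Groth.L06.Spectral.isClosed_cons_image (X.homOfLE (hWU x.1 x.2)).isSpectralMap (hcl x.1 x.2)

theorem CC.preimage {C : Set Y} (hC : CC C) (f : X ⟶ Y) : CC (f ⁻¹' C) := by
  intro U hU
  refine isClosed_cons_of_local hU fun x hx => ?_
  obtain ⟨_, ⟨(V : Y.Opens), hV, rfl⟩, hxV, -⟩ :=
    Y.isBasis_affineOpens.exists_subset_of_mem_open (Set.mem_univ (f x)) isOpen_univ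
  obtain ⟨_, ⟨(W : X.Opens), hW, rfl⟩, hxW, hWU⟩ := X.isBasis_affineOpens.exists_subset_of_mem_open
    (show x ∈ (U ⊓ f ⁻¹ᵁ V : X.Opens) from ⟨hx, hxV⟩) (U ⊓ f ⁻¹ᵁ V).2
  refine ⟨W, fun z hz => (hWU hz).1, hW, hxW, ?_⟩
  let g : (W : Scheme.{u}) ⟶ (V : Scheme.{u}) := f.resLE V W fun z hz => (hWU hz).2
  haveI : IsAffine (V : Scheme.{u}) := hV
  haveI : IsAffine (W : Scheme.{u}) := hW
  haveI := spectralSpace_opens hV
  haveI := spectralSpace_opens hW
  have e : (W.ι ⁻¹' (f ⁻¹' C) : Set (W : Scheme.{u})) = g ⁻¹' (V.ι ⁻¹' C) := by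
    ext w
    simp only [Set.mem_preimage, g, ← Scheme.Hom.comp_apply, Scheme.Hom.resLE_comp_ι]
  rw [e]
  exact @IsClosed.preimage _ _ (cons (W : Scheme.{u})) (cons (V : Scheme.{u})) _
    (Groth.L06.Spectral.continuous_cons g.isSpectralMap) _ (hC V hV)

theorem CC.isClosed_of_isAffine [IsAffine X] {C : Set X} (hC : CC C) :
    IsClosed[cons X] C := by
  haveI := spectralSpace_of_isAffine X
  haveI := spectralSpace_opens (isAffineOpen_top X)
  haveI : IsAffine ((⊤ : X.Opens) : Scheme.{u}) := isAffineOpen_top X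
  have := Groth.L06.Spectral.isClosed_cons_image (⊤ : X.Opens).ι.isSpectralMap
    (hC ⊤ (isAffineOpen_top X))
  rwa [Set.image_preimage_eq_of_subset (by simp)] at this

theorem CC.inter {C C' : Set X} (h : CC C) (h' : CC C') : CC (C ∩ C') := fun U hU =>
  @IsClosed.inter _ _ _ (cons (U : Scheme.{u})) (h U hU) (h' U hU)

theorem CC.iInter {ι : Sort*} {C : ι → Set X} (h : ∀ i, CC (C i)) : CC (⋂ i, C i) := fun U hU => by
  rw [Set.preimage_iInter]
  exact @isClosed_iInter _ _ (cons (U : Scheme.{u})) _ fun i => h i U hU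

theorem CC.union {C C' : Set X} (h : CC C) (h' : CC C') : CC (C ∪ C') := fun U hU =>
  @IsClosed.union _ _ _ (cons (U : Scheme.{u})) (h U hU) (h' U hU)

theorem cc_empty : CC (∅ : Set X) := fun U _ => by
  rw [Set.preimage_empty]
  exact @isClosed_empty _ (cons (U : Scheme.{u}))

theorem cc_univ : CC (Set.univ : Set X) := fun U _ => by
  rw [Set.preimage_univ]
  exact @isClosed_univ _ (cons (U : Scheme.{u}))

theorem cc_of_isClosed {C : Set X} (h : IsClosed C) : CC C := fun U hU => by
  haveI := spectralSpace_opens hU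
  exact Groth.L06.Spectral.isClosed_cons_of_isClosed (h.preimage U.ι.continuous)

theorem isClopen_cons_of_isLocallyConstructible {U : X.Opens} (hU : IsAffineOpen U) {C : Set X}
    (h : IsLocallyConstructible C) : @IsClopen _ (cons (U : Scheme.{u})) (U.ι ⁻¹' C) := by
  haveI := spectralSpace_opens hU
  exact Groth.L06.Spectral.isClopen_cons_of_isConstructible
    (IsLocallyConstructible.isConstructible
      (IsLocallyConstructible.preimage_of_isOpenEmbedding h U.ι.isOpenEmbedding))

theorem cc_of_isLocallyConstructible {C : Set X} (h : IsLocallyConstructible C) : CC C :=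
  fun _ hU => (isClopen_cons_of_isLocallyConstructible hU h).1

theorem cc_compl_of_isLocallyConstructible {C : Set X} (h : IsLocallyConstructible C) : CC Cᶜ :=
  fun U hU => @IsOpen.isClosed_compl _ (cons (U : Scheme.{u})) _
    (isClopen_cons_of_isLocallyConstructible hU h).2

theorem cc_of_isConstructible {C : Set X} (h : IsConstructible C) : CC C :=
  cc_of_isLocallyConstructible h.isLocallyConstructible

theorem cc_compl_of_isConstructible {C : Set X} (h : IsConstructible C) : CC Cᶜ :=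
  cc_compl_of_isLocallyConstructible h.isLocallyConstructible

theorem cc_of_isProConstructible {C : Set X} (h : ProCons.IsProConstructible C) : CC C := by
  intro U hU
  refine isClosed_cons_of_local hU fun x hx => ?_
  obtain ⟨O, hO, hxO, S, hS, hE⟩ := h x
  obtain ⟨_, ⟨(W : X.Opens), hW, rfl⟩, hxW, hWU⟩ := X.isBasis_affineOpens.exists_subset_of_mem_open
    (show x ∈ (U : Set X) ∩ O from ⟨hx, hxO⟩) (U.2.inter hO)
  refine ⟨W, fun z hz => (hWU hz).1, hW, hxW, ?_⟩
  haveI := spectralSpace_opens hW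
  let g : ↥W.toScheme → ↥O := fun w => ⟨W.ι w, (hWU w.2).2⟩
  have hg : IsOpenEmbedding g :=
    IsOpenEmbedding.of_comp _ hO.isOpenEmbedding_subtypeVal W.ι.isOpenEmbedding
  have e : (W.ι ⁻¹' C : Set (W : Scheme.{u})) = ⋂ T ∈ S, g ⁻¹' T := by
    rw [← Set.preimage_iInter₂, ← Set.sInter_eq_biInter, ← hE]
    rfl
  rw [e]
  refine @isClosed_biInter _ _ (cons (W : Scheme.{u})) _ _ fun T hT => ?_
  exact (Groth.L06.Spectral.isClopen_cons_of_isConstructible
    (IsLocallyConstructible.isConstructible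
      (IsLocallyConstructible.preimage_of_isOpenEmbedding (hS T hT) hg))).1

theorem cc_compl_of_isIndConstructible {C : Set X} (h : ProCons.IsIndConstructible C) : CC Cᶜ := by
  intro U hU
  refine isClosed_cons_of_local hU fun x hx => ?_
  obtain ⟨O, hO, hxO, S, hS, hE⟩ := h x
  obtain ⟨_, ⟨(W : X.Opens), hW, rfl⟩, hxW, hWU⟩ := X.isBasis_affineOpens.exists_subset_of_mem_open
    (show x ∈ (U : Set X) ∩ O from ⟨hx, hxO⟩) (U.2.inter hO)
  refine ⟨W, fun z hz => (hWU hz).1, hW, hxW, ?_⟩
  haveI := spectralSpace_opens hW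
  let g : ↥W.toScheme → ↥O := fun w => ⟨W.ι w, (hWU w.2).2⟩
  have hg : IsOpenEmbedding g :=
    IsOpenEmbedding.of_comp _ hO.isOpenEmbedding_subtypeVal W.ι.isOpenEmbedding
  have e : (W.ι ⁻¹' C : Set (W : Scheme.{u})) = ⋃ T ∈ S, g ⁻¹' T := by
    rw [← Set.preimage_iUnion₂, ← Set.sUnion_eq_biUnion, ← hE]
    rfl
  rw [Set.preimage_compl, e]
  refine @IsOpen.isClosed_compl _ (cons (W : Scheme.{u})) _ ?_
  refine @isOpen_biUnion _ _ (cons (W : Scheme.{u})) _ _ fun T hT => ?_
  exact (Groth.L06.Spectral.isClopen_cons_of_isConstructible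
    (IsLocallyConstructible.isConstructible
      (IsLocallyConstructible.preimage_of_isOpenEmbedding (hS T hT) hg))).2

/-- A point of the closure of a constructibly closed set is a specialization of a point of it. -/
theorem CC.exists_specializes_of_mem_closure {C : Set X} (hC : CC C) {x : X} (hx : x ∈ closure C) :
    ∃ e ∈ C, e ⤳ x := by
  obtain ⟨_, ⟨(U : X.Opens), hU, rfl⟩, hxU, -⟩ :=
    X.isBasis_affineOpens.exists_subset_of_mem_open (Set.mem_univ x) isOpen_univ
  haveI := spectralSpace_opens hU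
  have hz : (⟨x, hxU⟩ : ↥U.toScheme) ∈ closure (U.ι ⁻¹' C) := by
    rw [← IsOpenMap.preimage_closure_eq_closure_preimage U.ι.isOpenEmbedding.isOpenMap U.ι.continuous]
    exact hx
  obtain ⟨e, he, hex⟩ := Groth.L06.Spectral.exists_specializes_of_mem_closure (hC U hU) hz
  exact ⟨U.ι e, he, hex.map U.ι.continuous⟩

/-- Preimages commute with closures of constructibly closed sets along generalizing maps. -/
theorem preimage_closure_subset_of_generalizingMap {C : Set Y} (hC : CC C) (f : X ⟶ Y)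
    (hf : GeneralizingMap f) : f ⁻¹' closure C ⊆ closure (f ⁻¹' C) := by
  intro x hx
  obtain ⟨e, he, hex⟩ := hC.exists_specializes_of_mem_closure hx
  obtain ⟨a, hax, hae⟩ := hf hex
  exact hax.mem_closed isClosed_closure (subset_closure (show f a ∈ C by rw [hae]; exact he))

/-- The image of a quasi-compact morphism is constructibly closed. -/
theorem cc_range (f : X ⟶ Y) [QuasiCompact f] : CC (Set.range f) := by
  intro U hU
  haveI : CompactSpace ↥(f ⁻¹ᵁ U).toScheme :=
    isCompact_iff_compactSpace.mp (QuasiCompact.isCompact_preimage (f := f) _ U.2 hU.isCompact)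
  obtain ⟨R, p, hp⟩ := (compactSpace_iff_exists (X := (f ⁻¹ᵁ U).toScheme)).mp inferInstance
  haveI : IsAffine (U : Scheme.{u}) := hU
  haveI := spectralSpace_opens hU
  haveI := spectralSpace_of_isAffine (Spec R)
  have hg : Set.range (p ≫ (f ∣_ U)) = U.ι ⁻¹' Set.range f := by
    rw [Scheme.Hom.comp_base]
    change Set.range ((f ∣_ U : _ → _) ∘ p) = _
    rw [Set.range_comp, hp.range_eq, Set.image_univ]
    ext y
    constructor
    · rintro ⟨x, rfl⟩
      exact ⟨(f ⁻¹ᵁ U).ι x, by rw [← Scheme.Hom.comp_apply, ← morphismRestrict_ι]; rfl⟩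
    · rintro ⟨x, hx⟩
      have hxU : x ∈ f ⁻¹ᵁ U := show f x ∈ U by rw [hx]; exact y.2
      refine ⟨⟨x, hxU⟩, U.ι.isOpenEmbedding.injective ?_⟩
      rw [← Scheme.Hom.comp_apply, morphismRestrict_ι, ← hx]
      rfl
  rw [← hg, ← Set.image_univ]
  exact Groth.L06.Spectral.isClosed_cons_image (p ≫ (f ∣_ U)).isSpectralMap
    (@isClosed_univ _ (cons (Spec R)))

end Groth.L19.Limit
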