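import Groth.Agent.L19.Limit.Topo
import Mathlib.CategoryTheory.CofilteredSystem
import Mathlib.Topology.Sober
import Mathlib.AlgebraicGeometry.Properties

/-!
# Maximal points in cofiltered limits
-/

universe u

open CategoryTheory CategoryTheory.Limits AlgebraicGeometry Topology

namespace Groth.L19.Limit

set_option backward.isDefEq.respectTransparency.types false
set_option backward.isDefEq.respectTransparency false

/-- A point without proper generalization. -/
def IsMaxPt {X : Type*} [TopologicalSpace X] (x : X) : Prop := ∀ z, z ⤳ x → z = x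

theorem exists_isMaxPt_specializes {X : Type*} [TopologicalSpace X] [T0Space X] [QuasiSober X]
    (x : X) : ∃ m : X, IsMaxPt m ∧ m ⤳ x := by
  obtain ⟨m, hm⟩ := QuasiSober.sober (isIrreducible_irreducibleComponent (x := x))
    isClosed_irreducibleComponent
  refine ⟨m, fun z hz => ?_, hm.specializes mem_irreducibleComponent⟩
  have hsub : irreducibleComponent x ⊆ closure {z} := by
    rw [← hm.def]
    exact closure_minimal (Set.singleton_subset_iff.mpr hz.mem_closure) isClosed_closure
  have he := eq_irreducibleComponent isIrreducible_singleton.closure.2 hsub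
  exact (inseparable_iff_closure_eq.mpr (he.trans hm.def.symm)).eq

theorem dense_of_isMaxPt_mem {X : Type*} [TopologicalSpace X] [T0Space X] [QuasiSober X]
    {V : Set X} (h : ∀ m, IsMaxPt m → m ∈ V) : Dense V := by
  rw [dense_iff_inter_open]
  rintro W hW ⟨x, hx⟩
  obtain ⟨m, hm, hmx⟩ := exists_isMaxPt_specializes x
  exact ⟨m, hmx.mem_open hW hx, h m hm⟩

theorem isMaxPt_mem_of_dense {X : Type*} [TopologicalSpace X] [T0Space X] [QuasiSober X]
    (hfin : {m : X | IsMaxPt m}.Finite) {V : Set X} (hV : IsOpen V) (hd : Dense V) {m : X}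
    (hm : IsMaxPt m) : m ∈ V := by
  let F : Set X := ⋃ m' ∈ {m' : X | IsMaxPt m'} \ {m}, closure {m'}
  have hF : IsClosed F := Set.Finite.isClosed_biUnion (hfin.subset Set.sdiff_subset) fun _ _ => isClosed_closure
  have hmF : m ∉ F := by
    simp only [F, Set.mem_iUnion, not_exists]
    intro m' hm' hmem
    exact hm'.2 (hm m' (specializes_iff_mem_closure.mpr hmem))
  obtain ⟨y, hyF, hyV⟩ := hd.inter_open_nonempty _ hF.isOpen_compl ⟨m, hmF⟩
  obtain ⟨m', hm', hm'y⟩ := exists_isMaxPt_specializes y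
  have : m' = m := by
    by_contra hne
    exact hyF (Set.mem_iUnion₂.mpr ⟨m', ⟨hm', hne⟩, hm'y.mem_closure⟩)
  exact this ▸ hm'y.mem_open hV hyV

variable {I : Type u} [Category.{u} I] [IsCofiltered I] {D : I ⥤ Scheme.{u}} {c : Cone D}
  [∀ {i j} (f : i ⟶ j), IsAffineHom (D.map f)]

theorem specializes_of_forall_stage (hc : IsLimit c) {z s : c.pt}
    (h : ∀ j, c.π.app j z ⤳ c.π.app j s) : z ⤳ s := by
  rw [specializes_iff_forall_open]
  intro W hW hs
  obtain ⟨j, -, V, hV, hVW⟩ := exists_nhds_stage hc IsCofiltered.nonempty.some hW hs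
  exact hVW ((h j).mem_open V.2 hV)

/-- A nonempty system of maximal points of the stages gives a point of the limit. -/
theorem exists_section_of_isMaxPt (hc : IsLimit c)
    (hfin : ∀ i, {s : D.obj i | IsMaxPt s}.Finite)
    (hsys : ∀ (i j : I) (g : i ⟶ j) (s : D.obj i), IsMaxPt s → IsMaxPt (D.map g s))
    (P : ∀ i, Set (D.obj i)) (hP : ∀ ⦃i j : I⦄ (g : i ⟶ j), Set.MapsTo (D.map g) (P i) (P j))
    (hne : ∀ i, ∃ s ∈ P i, IsMaxPt s) :
    ∃ z : c.pt, ∀ i, IsMaxPt (c.π.app i z) ∧ c.π.app i z ∈ P i := by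
  let F : I ⥤ Type u :=
    { obj i := {s : D.obj i // s ∈ P i ∧ IsMaxPt s}
      map g := ↾fun s => ⟨D.map g s.1, hP g s.2.1, hsys _ _ g s.1 s.2.2⟩
      map_id i := by ext s; simp
      map_comp g h := by ext s; simp }
  haveI : ∀ i, Finite (F.obj i) := fun i =>
    ((hfin i).subset (fun s hs => hs.2) : {s : D.obj i | s ∈ P i ∧ IsMaxPt s}.Finite).to_subtype
  haveI : ∀ i, Nonempty (F.obj i) := fun i => by
    obtain ⟨s, h1, h2⟩ := hne i
    exact ⟨⟨s, h1, h2⟩⟩
  obtain ⟨x, hx⟩ := nonempty_sections_of_finite_cofiltered_system F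
  obtain ⟨z, hz⟩ := exists_apply_eq hc (fun i => (x i).1) (fun i j g => congrArg Subtype.val (hx g))
  exact ⟨z, fun i => by rw [hz i]; exact ⟨(x i).2.2, (x i).2.1⟩⟩

theorem isMaxPt_iff (hc : IsLimit c) (hfin : ∀ i, {s : D.obj i | IsMaxPt s}.Finite)
    (hsys : ∀ (i j : I) (g : i ⟶ j) (s : D.obj i), IsMaxPt s → IsMaxPt (D.map g s)) (s : c.pt) :
    IsMaxPt s ↔ ∀ i, IsMaxPt (c.π.app i s) := by
  refine ⟨fun hs => ?_, fun h z hz => ext_of_forall_apply_eq hc fun i => h i _ (hz.map (c.π.app i).continuous)⟩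
  obtain ⟨z, hz⟩ := exists_section_of_isMaxPt hc hfin hsys (fun i => {w | w ⤳ c.π.app i s})
    (fun i j g w hw => by
      show D.map g w ⤳ c.π.app j s
      rw [← map_apply g s]
      exact hw.map (D.map g).continuous)
    (fun i => by
      obtain ⟨m, h1, h2⟩ := exists_isMaxPt_specializes (c.π.app i s)
      exact ⟨m, h2, h1⟩)
  have : z = s := hs z (specializes_of_forall_stage hc fun j => (hz j).2)
  exact this ▸ fun i => (hz i).1

end Groth.L19.Limit
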