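import Groth.Agent.L19.Limit.Core
import Mathlib.AlgebraicGeometry.Morphisms.Finite
import Mathlib.AlgebraicGeometry.Morphisms.ClosedImmersion

/-!
# Affine morphisms, closed immersions and finite morphisms along cofiltered limits
-/

universe u

open CategoryTheory CategoryTheory.Limits AlgebraicGeometry MorphismProperty

namespace Groth.L19.Limit

set_option backward.isDefEq.respectTransparency.types false
set_option backward.isDefEq.respectTransparency false
set_option backward.defeqAttrib.useBackward true
set_option linter.style.haveILetI false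

/-- The condition on the morphisms: quasi-compact and quasi-separated. -/
abbrev qcqs : MorphismProperty Scheme.{u} := @QuasiCompact ⊓ @QuasiSeparated

/-- The condition on the morphisms: quasi-compact, quasi-separated and locally of finite type. -/
abbrev qcqsft : MorphismProperty Scheme.{u} := qcqs ⊓ @LocallyOfFiniteType

theorem qcqs_of_spaces {X Y : Scheme.{u}} (f : X ⟶ Y) [CompactSpace X] [QuasiSeparatedSpace X]
    [QuasiSeparatedSpace Y] : qcqs f :=
  ⟨quasiCompact_of_compactSpace f, inferInstance⟩

theorem appTop_apply {X Y Z : Scheme.{u}} (f : X ⟶ Y) (g : Y ⟶ Z) (x : Γ(Z, ⊤)) :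
    (f ≫ g).appTop x = f.appTop (g.appTop x) := by
  rw [Scheme.Hom.comp_appTop, CommRingCat.comp_apply]

theorem appTop_comm {X Y Y' Z : Scheme.{u}} {f : X ⟶ Y} {g : Y ⟶ Z} {f' : X ⟶ Y'} {g' : Y' ⟶ Z}
    (h : f ≫ g = f' ≫ g') (x : Γ(Z, ⊤)) : f.appTop (g.appTop x) = f'.appTop (g'.appTop x) := by
  rw [← appTop_apply, h, appTop_apply]

theorem hom_eval₂_map {A A' B B' : Type u} [CommRing A] [CommRing A'] [CommRing B] [CommRing B']
    (p : A →+* B) (p' : A' →+* B') (φ : A →+* A') (ψ : B →+* B') (h : ∀ a, ψ (p a) = p' (φ a))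
    (q : Polynomial A) {x : B} {x' : B'} (hx : ψ x = x') :
    ψ (q.eval₂ p x) = (q.map φ).eval₂ p' x' := by
  rw [Polynomial.hom_eval₂, Polynomial.eval₂_map, hx, show ψ.comp p = p'.comp φ from RingHom.ext h]

theorem descendsAffine_isAffineHom : DescendsAffine @IsAffineHom qcqs.{u} := by
  intro I _ _ D c _ _ hc i X a ha hP
  haveI : QuasiCompact a := ha.1
  haveI : QuasiSeparated a := ha.2
  haveI : IsAffine c.pt := Scheme.isAffine_of_isLimit c hc
  haveI : IsAffineHom (pullback.fst (c.π.app i) a) := hP
  haveI : IsAffine (((Functor.const I).obj c.pt).obj i) := inferInstanceAs (IsAffine c.pt)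
  haveI : IsAffine (bcCone D c a).pt :=
    isAffine_of_isAffineHom (X := pullback (c.π.app i) a) (pullback.fst (c.π.app i) a)
  haveI : ∀ j, CompactSpace ((bcDiagram D a).obj j) := fun j =>
    QuasiCompact.compactSpace_of_compactSpace (pullback.fst (D.map j.hom) a)
  haveI : ∀ j, QuasiSeparatedSpace ((bcDiagram D a).obj j) := fun j =>
    quasiSeparatedSpace_of_quasiSeparated (pullback.fst (D.map j.hom) a)
  obtain ⟨j, hj⟩ := Scheme.exists_isAffine_of_isLimit (bcDiagram D a) (bcCone D c a)
    (isLimitBcCone a hc)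
  haveI : IsAffine (pullback (D.map j.hom) a) := hj
  exact ⟨j.left, j.hom, isAffineHom_of_isAffine _⟩

theorem descends_isAffineHom : Descends @IsAffineHom qcqs.{u} :=
  descends_of_affine descendsAffine_isAffineHom

/-- The global sections of a fibre product of affines are generated by those of the factors. -/
theorem eq_top_of_isPullback {Z X T S : Scheme.{u}} [IsAffine X] [IsAffine T] [IsAffine S]
    {p : Z ⟶ T} {q : Z ⟶ X} {g : T ⟶ S} {a : X ⟶ S} (h : IsPullback p q g a)
    (R : Subring Γ(Z, ⊤)) (h1 : ∀ y, p.appTop y ∈ R) (h2 : ∀ x, q.appTop x ∈ R) : R = ⊤ := by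
  have hp := isPushout_appTop_of_isPullback h
  let P : CommRingCat.{u} := CommRingCat.of R
  let incl : P ⟶ Γ(Z, ⊤) := CommRingCat.ofHom R.subtype
  let l : Γ(T, ⊤) ⟶ P := CommRingCat.ofHom (p.appTop.hom.codRestrict R h1)
  let r : Γ(X, ⊤) ⟶ P := CommRingCat.ofHom (q.appTop.hom.codRestrict R h2)
  have hl : l ≫ incl = p.appTop := rfl
  have hr : r ≫ incl = q.appTop := rfl
  have hw : g.appTop ≫ l = a.appTop ≫ r := by
    ext x
    exact congr($(hp.w) x)
  have hd : hp.desc l r hw ≫ incl = 𝟙 _ := by
    apply hp.hom_ext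
    · rw [hp.inl_desc_assoc, hl, Category.comp_id]
    · rw [hp.inr_desc_assoc, hr, Category.comp_id]
  refine eq_top_iff.mpr fun z _ => ?_
  have := congr($hd z)
  rw [← show incl (hp.desc l r hw z) = z from this]
  exact (hp.desc l r hw z).2

/-- Finitely many elements generate the sections of an affine scheme of finite type over another. -/
theorem exists_gens {X S : Scheme.{u}} [IsAffine X] [IsAffine S] (a : X ⟶ S)
    [LocallyOfFiniteType a] : ∃ s : Finset Γ(X, ⊤), ∀ R : Subring Γ(X, ⊤),
      (∀ y, a.appTop y ∈ R) → (∀ x ∈ s, x ∈ R) → R = ⊤ := by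
  have h : a.appTop.hom.FiniteType :=
    HasRingHomProperty.appTop @LocallyOfFiniteType a inferInstance
  letI := a.appTop.hom.toAlgebra
  obtain ⟨s, hs⟩ := (h : Algebra.FiniteType Γ(S, ⊤) Γ(X, ⊤)).1
  refine ⟨s, fun R h1 h2 => eq_top_iff.mpr fun z _ => ?_⟩
  have hz : z ∈ Algebra.adjoin Γ(S, ⊤) (s : Set Γ(X, ⊤)) := hs ▸ Algebra.mem_top
  induction hz using Algebra.adjoin_induction with
  | mem x hx => exact h2 x hx
  | algebraMap r => exact h1 r
  | add x y _ _ hx hy => exact R.add_mem (hx trivial) (hy trivial)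
  | mul x y _ _ hx hy => exact R.mul_mem (hx trivial) (hy trivial)

section Gens

variable {I : Type u} [Category.{u} I] [IsCofiltered I] {D : I ⥤ Scheme.{u}}
  [∀ {i j} (f : i ⟶ j), IsAffineHom (D.map f)]

/-- If each section of `X` satisfies at some stage a property stable under pulling back and
closed under sums and products, all sections satisfy it at some stage. -/
theorem exists_forall_mem [∀ j, IsAffine (D.obj j)] {i : I} {X : Scheme.{u}} [IsAffine X]
    (a : X ⟶ D.obj i) [LocallyOfFiniteType a]
    (R : ∀ k : Over i, Subring Γ(pullback (D.map k.hom) a, ⊤))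
    (hR : ∀ k y, (pullback.fst (D.map k.hom) a).appTop y ∈ R k)
    (hmono : ∀ {k l : Over i} (m : l ⟶ k) (z : Γ(pullback (D.map k.hom) a, ⊤)), z ∈ R k →
      ((bcDiagram D a).map m).appTop z ∈ R l)
    (h : ∀ x : Γ(X, ⊤), ∃ k : Over i, (pullback.snd (D.map k.hom) a).appTop x ∈ R k) :
    ∃ k : Over i, R k = ⊤ := by
  classical
  obtain ⟨s, hs⟩ := exists_gens a
  choose k hk using h
  obtain ⟨l, hl⟩ := IsCofiltered.inf_objs_exists (s.image k)
  refine ⟨l, eq_top_of_isPullback (IsPullback.of_hasPullback (D.map l.hom) a) _ (hR l) ?_⟩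
  have key := hs ((R l).comap (pullback.snd (D.map l.hom) a).appTop.hom) (fun y => by
    show (pullback.snd (D.map l.hom) a).appTop (a.appTop y) ∈ R l
    rw [show (pullback.snd (D.map l.hom) a).appTop (a.appTop y) =
      (pullback.fst (D.map l.hom) a).appTop ((D.map l.hom).appTop y) from
      (appTop_comm pullback.condition y).symm]
    exact hR l _) (fun x hx => by
    obtain ⟨m⟩ := hl (Finset.mem_image_of_mem k hx)
    have := hmono m _ (hk x)
    rw [show ((bcDiagram D a).map m).appTop ((pullback.snd (D.map (k x).hom) a).appTop x) = _ from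
      (appTop_apply _ _ x).symm] at this
    rwa [show (bcDiagram D a).map m ≫ pullback.snd (D.map (k x).hom) a = pullback.snd (D.map l.hom) a
        from (pullback.lift_snd ..).trans (Category.comp_id _)] at this)
  intro x
  exact key.ge (Subring.mem_top x)

variable {c : Cone D}

theorem exists_appTop_π_eq_over [∀ j, IsAffine (D.obj j)] (hc : IsLimit c) {i : I}
    (y : Γ(c.pt, ⊤)) : ∃ (j : Over i) (z : Γ(D.obj j.left, ⊤)), (c.π.app j.left).appTop z = y := by
  haveI : ∀ j, IsAffine ((Over.forget i ⋙ D).obj j) := fun j =>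
    inferInstanceAs (IsAffine (D.obj j.left))
  obtain ⟨j, z, hz⟩ := exists_appTop_π_eq_of_isAffine_of_isLimit
    (Over.forget i ⋙ D) (c.whisker (Over.forget i))
    ((Functor.Initial.isLimitWhiskerEquiv (Over.forget i) c).symm hc) y
  exact ⟨j, z, hz⟩

end Gens

theorem descendsAffine_isClosedImmersion : DescendsAffine @IsClosedImmersion qcqsft.{u} := by
  intro I _ _ D c _ _ hc i X a ha hP
  haveI : IsClosedImmersion (pullback.fst (c.π.app i) a) := hP
  obtain ⟨j, φ, hj⟩ := descendsAffine_isAffineHom hc a ha.1 (inferInstanceAs (IsAffineHom _))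
  haveI : IsAffineHom (pullback.fst (D.map φ) a) := hj
  haveI : IsAffine (pullback (D.map φ) a) := isAffine_of_isAffineHom (pullback.fst (D.map φ) a)
  haveI : LocallyOfFiniteType a := ha.2
  haveI : LocallyOfFiniteType (pullback.fst (D.map φ) a) :=
    MorphismProperty.pullback_fst (P := @LocallyOfFiniteType) _ _ ha.2
  let b : pullback (D.map φ) a ⟶ D.obj j := pullback.fst (D.map φ) a
  have hb : ∀ {T : Scheme.{u}} (n : T ⟶ D.obj j),
      Pb @IsClosedImmersion b n ↔ Pb @IsClosedImmersion a (n ≫ D.map φ) := fun n =>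
    pb_iff_of_isPullback ((IsPullback.of_hasPullback n b).flip.paste_horiz
      (IsPullback.of_hasPullback (D.map φ) a).flip)
  haveI : IsAffine c.pt := Scheme.isAffine_of_isLimit c hc
  haveI : IsAffine (((Functor.const I).obj c.pt).obj j) := inferInstanceAs (IsAffine c.pt)
  haveI hcl : IsClosedImmersion (pullback.fst (c.π.app j) b) := (hb _).mpr (by
    rw [c.w]; exact hP)
  haveI hk : ∀ k : Over j, IsAffine ((bcDiagram D b).obj k) := fun k =>
    inferInstanceAs (IsAffine (pullback (D.map k.hom) b))
  obtain ⟨k, hk'⟩ := exists_forall_mem b (fun k => (pullback.fst (D.map k.hom) b).appTop.hom.range)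
    (fun k y => ⟨y, rfl⟩) (fun {k l} m z hz => by
      obtain ⟨y, rfl⟩ := hz
      exact ⟨(D.map m.left).appTop y, appTop_comm ((bcFst D b).naturality m).symm y⟩) (fun x => by
    obtain ⟨y, hy⟩ : ∃ y, (pullback.fst (c.π.app j) b).appTop y =
        (pullback.snd (c.π.app j) b).appTop x :=
      Scheme.Hom.app_surjective _ ⊤ (isAffineOpen_top _) _
    obtain ⟨k, z, hz⟩ := exists_appTop_π_eq_over hc (i := j) y
    obtain ⟨l, m, hl⟩ := exists_app_map_eq_map_of_isLimit (bcDiagram D b) (bcCone D c b)
      (isLimitBcCone b hc) (i := k) (U := ⊤) isCompact_univ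
      ((pullback.snd (D.map k.hom) b).appTop x) ((pullback.fst (D.map k.hom) b).appTop z) (by
        show ((bcCone D c b).π.app k).appTop _ = ((bcCone D c b).π.app k).appTop _
        refine (appTop_apply _ _ x).symm.trans (Eq.trans ?_ (appTop_apply _ _ z))
        rw [show (bcCone D c b).π.app k ≫ pullback.snd (D.map k.hom) b = pullback.snd _ _ from
            (pullback.lift_snd ..).trans (Category.comp_id _),
          show (bcCone D c b).π.app k ≫ pullback.fst (D.map k.hom) b =
            pullback.fst _ _ ≫ c.π.app k.left from pullback.lift_fst ..,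
          appTop_apply]
        exact hy.symm.trans (congrArg _ hz.symm))
    refine ⟨l, (D.map m.left).appTop z, ?_⟩
    have e2 : ((bcDiagram D b).map m).appTop ((pullback.snd (D.map k.hom) b).appTop x) =
        (pullback.snd (D.map l.hom) b).appTop x := by
      refine (appTop_apply _ _ x).symm.trans ?_
      rw [show (bcDiagram D b).map m ≫ pullback.snd (D.map k.hom) b = pullback.snd (D.map l.hom) b
        from (pullback.lift_snd ..).trans (Category.comp_id _)]
      rfl
    exact (appTop_comm ((bcFst D b).naturality m).symm z).trans (hl.symm.trans e2))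
  refine ⟨k.left, k.hom ≫ φ, ?_⟩
  rw [D.map_comp]
  refine (hb _).mp ?_
  exact IsClosedImmersion.of_surjective_of_isAffine _ fun z => by
    have := hk'.ge (Subring.mem_top z)
    exact this

theorem descends_isClosedImmersion : Descends @IsClosedImmersion qcqsft.{u} :=
  descends_of_affine descendsAffine_isClosedImmersion

theorem descendsAffine_isFinite : DescendsAffine @IsFinite qcqsft.{u} := by
  intro I _ _ D c _ _ hc i X a ha hP
  haveI : IsFinite (pullback.fst (c.π.app i) a) := hP
  obtain ⟨j, φ, hj⟩ := descendsAffine_isAffineHom hc a ha.1 (inferInstanceAs (IsAffineHom _))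
  haveI : IsAffineHom (pullback.fst (D.map φ) a) := hj
  haveI : IsAffine (pullback (D.map φ) a) := isAffine_of_isAffineHom (pullback.fst (D.map φ) a)
  haveI : LocallyOfFiniteType a := ha.2
  haveI : LocallyOfFiniteType (pullback.fst (D.map φ) a) :=
    MorphismProperty.pullback_fst (P := @LocallyOfFiniteType) _ _ ha.2
  let b : pullback (D.map φ) a ⟶ D.obj j := pullback.fst (D.map φ) a
  have hb : ∀ {T : Scheme.{u}} (n : T ⟶ D.obj j),
      Pb @IsFinite b n ↔ Pb @IsFinite a (n ≫ D.map φ) := fun n =>
    pb_iff_of_isPullback ((IsPullback.of_hasPullback n b).flip.paste_horiz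
      (IsPullback.of_hasPullback (D.map φ) a).flip)
  haveI : IsAffine c.pt := Scheme.isAffine_of_isLimit c hc
  haveI : IsAffine (((Functor.const I).obj c.pt).obj j) := inferInstanceAs (IsAffine c.pt)
  haveI hcl : IsFinite (pullback.fst (c.π.app j) b) := (hb _).mpr (by rw [c.w]; exact hP)
  haveI hk : ∀ k : Over j, IsAffine ((bcDiagram D b).obj k) := fun k =>
    inferInstanceAs (IsAffine (pullback (D.map k.hom) b))
  let p := fun k : Over j => (pullback.fst (D.map k.hom) b).appTop.hom
  let R : ∀ k : Over j, Subring Γ(pullback (D.map k.hom) b, ⊤) := fun k =>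
    letI := (p k).toAlgebra
    (integralClosure Γ(D.obj k.left, ⊤) Γ(pullback (D.map k.hom) b, ⊤)).toSubring
  have hR : ∀ k z, z ∈ R k ↔ (p k).IsIntegralElem z := fun k z => Iff.rfl
  obtain ⟨k, hk'⟩ := exists_forall_mem b R (fun k y => (hR k _).mpr (RingHom.isIntegralElem_map _))
    (fun {k l} m z hz => by
      obtain ⟨q, hq, hq0⟩ := (hR k z).mp hz
      refine (hR l _).mpr ⟨q.map (D.map m.left).appTop.hom, hq.map _, ?_⟩
      refine (hom_eval₂_map (p k) (p l) _ ((bcDiagram D b).map m).appTop.hom
        (fun a => (appTop_comm ((bcFst D b).naturality m).symm a).symm) q rfl).symm.trans ?_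
      exact (congrArg _ hq0).trans (map_zero _)) (fun x => by
    classical
    obtain ⟨q, hq, hq0⟩ := ((pullback.fst (c.π.app j) b).finite_appTop).to_isIntegral
      ((pullback.snd (c.π.app j) b).appTop x)
    have hfin : ∀ t : Finset Γ(c.pt, ⊤), ∃ k : Over j,
        ∀ y ∈ t, y ∈ (c.π.app k.left).appTop.hom.range := by
      intro t
      induction t using Finset.induction_on with
      | empty => exact ⟨Over.mk (𝟙 j), by simp⟩
      | insert y t _ ih =>
        obtain ⟨k, hk⟩ := ih
        obtain ⟨k', z, hz⟩ := exists_appTop_π_eq_over hc (i := j) y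
        obtain ⟨l, m, m', -⟩ := IsCofilteredOrEmpty.cone_objs k k'
        refine ⟨l, fun w hw => ?_⟩
        rcases Finset.mem_insert.mp hw with rfl | hw
        · refine ⟨(D.map m'.left).appTop z, ?_⟩
          rw [← hz]
          refine (appTop_apply _ _ z).symm.trans ?_
          rw [c.w]
          rfl
        · obtain ⟨v, rfl⟩ := hk w hw
          refine ⟨(D.map m.left).appTop v, ?_⟩
          refine (appTop_apply _ _ v).symm.trans ?_
          rw [c.w]
          rfl
    obtain ⟨k, hk⟩ := hfin q.coeffs
    obtain ⟨q', hq', -, hq'm⟩ := Polynomial.lifts_and_natDegree_eq_and_monic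
      (f := (c.π.app k.left).appTop.hom) ((Polynomial.lifts_iff_coeff_lifts q).mpr fun n => by
        by_cases h : q.coeff n = 0
        · exact ⟨0, by rw [map_zero, h]⟩
        · exact hk _ (Polynomial.coeff_mem_coeffs h)) hq
    obtain ⟨l, m, hl⟩ := exists_app_map_eq_zero_of_isLimit (bcDiagram D b) (bcCone D c b)
      (isLimitBcCone b hc) (i := k) (U := ⊤) isCompact_univ
      (q'.eval₂ (p k) ((pullback.snd (D.map k.hom) b).appTop x)) (by
        refine (hom_eval₂_map (p k) (pullback.fst (c.π.app j) b).appTop.hom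
          (c.π.app k.left).appTop.hom ((bcCone D c b).π.app k).appTop.hom
          (fun a => appTop_comm (f := (bcCone D c b).π.app k) (pullback.lift_fst ..) a) q'
          (x' := (pullback.snd (c.π.app j) b).appTop x) ?_).trans (by rw [hq', hq0])
        refine (appTop_apply _ _ x).symm.trans ?_
        rw [show (bcCone D c b).π.app k ≫ pullback.snd (D.map k.hom) b = pullback.snd _ _ from
          (pullback.lift_snd ..).trans (Category.comp_id _)]
        rfl)
    refine ⟨l, (hR l _).mpr ⟨q'.map (D.map m.left).appTop.hom, hq'm.map _, ?_⟩⟩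
    refine (hom_eval₂_map (p k) (p l) _ ((bcDiagram D b).map m).appTop.hom
      (fun a => (appTop_comm ((bcFst D b).naturality m).symm a).symm) q' ?_).symm.trans hl
    refine (appTop_apply _ _ x).symm.trans ?_
    rw [show (bcDiagram D b).map m ≫ pullback.snd (D.map k.hom) b = pullback.snd (D.map l.hom) b
      from (pullback.lift_snd ..).trans (Category.comp_id _)]
    rfl)
  refine ⟨k.left, k.hom ≫ φ, ?_⟩
  rw [D.map_comp]
  refine (hb _).mp ?_
  refine (HasAffineProperty.iff_of_isAffine (P := @IsFinite)).mpr ⟨inferInstance, ?_⟩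
  refine RingHom.IsIntegral.to_finite (fun z => (hR k z).mp (hk'.ge (Subring.mem_top z))) ?_
  exact HasRingHomProperty.appTop @LocallyOfFiniteType _
    (MorphismProperty.pullback_fst (P := @LocallyOfFiniteType) _ _ inferInstance)

theorem descends_isFinite : Descends @IsFinite qcqsft.{u} :=
  descends_of_affine descendsAffine_isFinite

theorem descends_isSeparated :
    Descends @IsSeparated ((qcqsft.{u}).diagonal ⊓ @QuasiCompact) := by
  rw [show (@IsSeparated : MorphismProperty Scheme.{u}) = MorphismProperty.diagonal @IsClosedImmersion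
    from IsSeparated.isSeparated_eq_diagonal_isClosedImmersion]
  exact descends_isClosedImmersion.diagonal

end Groth.L19.Limit
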