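import Groth.Agent.L19.Limit.Stalk
import Mathlib.AlgebraicGeometry.Morphisms.Flat
import Mathlib.RingTheory.Flat.EquationalCriterion

/-!
# Flatness of the projection from a cofiltered limit
-/

universe u

open CategoryTheory CategoryTheory.Limits AlgebraicGeometry

namespace Groth.L19.Limit

set_option backward.isDefEq.respectTransparency false
set_option backward.isDefEq.respectTransparency.types false

variable {I : Type u} [Category.{u} I] [IsCofiltered I] {D : I ⥤ Scheme.{u}} {c : Cone D}
  [∀ {i j} (f : i ⟶ j), IsAffineHom (D.map f)]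

omit [IsCofiltered I] [∀ {i j} (f : i ⟶ j), IsAffineHom (D.map f)] in
/-- The map on stalks at the images of a point induced by a transition map. -/
noncomputable def stageMap {i j : I} (φ : j ⟶ i) (p : c.pt) :
    (D.obj i).presheaf.stalk (c.π.app i p) ⟶ (D.obj j).presheaf.stalk (c.π.app j p) :=
  ((D.obj i).presheaf.stalkCongr (.of_eq (map_apply φ p).symm)).hom ≫ (D.map φ).stalkMap _

omit [IsCofiltered I] [∀ {i j} (f : i ⟶ j), IsAffineHom (D.map f)] in
theorem stageMap_comp_stalkMap {i j : I} (φ : j ⟶ i) (p : c.pt) :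
    stageMap φ p ≫ (c.π.app j).stalkMap p = (c.π.app i).stalkMap p := by
  have e := Scheme.Hom.stalkMap_congr_hom (c.π.app i) (c.π.app j ≫ D.map φ) (c.w φ).symm p
  rw [Scheme.Hom.stalkMap_comp] at e
  rw [e, stageMap, Category.assoc]
  rfl

omit [IsCofiltered I] [∀ {i j} (f : i ⟶ j), IsAffineHom (D.map f)] in
theorem stageMap_comp {i j k : I} (φ : j ⟶ i) (ψ : k ⟶ j) (p : c.pt) :
    stageMap (ψ ≫ φ) p = stageMap φ p ≫ stageMap ψ p := by
  unfold stageMap
  rw [Scheme.Hom.stalkMap_congr_hom (D.map (ψ ≫ φ)) (D.map ψ ≫ D.map φ) (D.map_comp ψ φ),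
    Scheme.Hom.stalkMap_comp]
  apply TopCat.Presheaf.stalk_hom_ext
  intro U hU
  simp [Scheme.Hom.germ_stalkMap_assoc]

/-- A ring map is flat if every relation lifts to a relation over a flat factorization. -/
theorem flat_of_forall_exists_factor {R S : Type u} [CommRing R] [CommRing S] (g : R →+* S)
    (H : ∀ {l : ℕ} (f : Fin l → R) (x : Fin l → S), ∑ n, g (f n) * x n = 0 →
      ∃ (T : CommRingCat.{u}) (u : R →+* T) (v : T →+* S) (y : Fin l → T),
        u.Flat ∧ v.comp u = g ∧ (∀ n, v (y n) = x n) ∧ ∑ n, u (f n) * y n = 0) : g.Flat := by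
  algebraize [g]
  refine Module.Flat.of_forall_isTrivialRelation fun {l f x} hfx => ?_
  obtain ⟨T, u, v, y, hu, rfl, hy, h0⟩ := H f x (by simpa [Algebra.smul_def, RingHom.algebraMap_toAlgebra] using hfx)
  algebraize [u]
  obtain ⟨m, a, z, h1, h2⟩ := Module.Flat.isTrivialRelation_of_sum_smul_eq_zero
    (f := f) (x := y) (by simpa [Algebra.smul_def, RingHom.algebraMap_toAlgebra] using h0)
  refine ⟨m, a, fun q => v (z q), fun n => ?_, h2⟩
  rw [← hy n, h1 n, map_sum]
  refine Finset.sum_congr rfl fun q _ => ?_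
  rw [Algebra.smul_def, Algebra.smul_def, map_mul]
  rfl

/-- If all transition maps to a stage are flat, so is the projection. -/
theorem flat_π_app (hc : IsLimit c) (i : I) (hf : ∀ (j : I) (φ : j ⟶ i), Flat (D.map φ)) :
    Flat (c.π.app i) := by
  classical
  rw [Flat.iff_flat_stalkMap]
  show ∀ p : c.pt, ((c.π.app i).stalkMap p).hom.Flat
  intro p
  have hA : ∀ {j : I} (φ : j ⟶ i), (stageMap φ p).hom.Flat := fun {j} φ => by
    rw [stageMap, CommRingCat.hom_comp]
    exact RingHom.Flat.comp (RingHom.Flat.of_bijective (ConcreteCategory.bijective_of_isIso _))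
      ((Flat.iff_flat_stalkMap (D.map φ)).mp (hf j φ) _)
  have hT : ∀ {j k : I} (φ : j ⟶ k) (b), (c.π.app j).stalkMap p (stageMap φ p b) =
      (c.π.app k).stalkMap p b := fun φ b => by
    rw [← ConcreteCategory.comp_apply, stageMap_comp_stalkMap]
    rfl
  refine flat_of_forall_exists_factor _ fun {l} f x hfx => ?_
  choose j b hb using fun n => exists_stalkMap_eq hc p (x n)
  obtain ⟨k, hk⟩ := IsCofiltered.inf_objs_exists (insert i (Finset.univ.image j))
  obtain ⟨φ⟩ := hk (Finset.mem_insert_self i _)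
  have hkj : ∀ n, Nonempty (k ⟶ j n) := fun n => hk (by simp)
  let y : Fin l → (D.obj k).presheaf.stalk (c.π.app k p) := fun n => stageMap (hkj n).some p (b n)
  have hy : ∀ n, (c.π.app k).stalkMap p (y n) = x n := fun n =>
    (hT (hkj n).some (b n)).trans (hb n)
  have hzero : (c.π.app k).stalkMap p (∑ n, stageMap φ p (f n) * y n) =
      (c.π.app k).stalkMap p 0 := by
    rw [map_sum, map_zero]
    refine Eq.trans ?_ hfx
    refine Finset.sum_congr rfl fun n _ => ?_
    rw [map_mul, hy, hT]
  obtain ⟨k', ψ, hk'⟩ := exists_stalkMap_map_eq hc p _ _ hzero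
  change stageMap ψ p _ = stageMap ψ p 0 at hk'
  rw [map_zero, map_sum] at hk'
  refine ⟨(D.obj k').presheaf.stalk (c.π.app k' p), (stageMap (ψ ≫ φ) p).hom,
    ((c.π.app k').stalkMap p).hom, fun n => (stageMap ψ p).hom (y n), hA (ψ ≫ φ), ?_, ?_, ?_⟩
  · exact (CommRingCat.hom_comp _ _).symm.trans
      (congrArg CommRingCat.Hom.hom (stageMap_comp_stalkMap (ψ ≫ φ) p))
  · exact fun n => (hT ψ (y n)).trans (hy n)
  · have e : ∀ a, stageMap (ψ ≫ φ) p a = stageMap ψ p (stageMap φ p a) := fun a => by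
      rw [stageMap_comp, ConcreteCategory.comp_apply]
    simp only [map_mul] at hk'
    refine Eq.trans (Finset.sum_congr rfl fun n _ => ?_) hk'
    exact congrArg (fun t => t * (stageMap ψ p).hom (y n)) (e (f n))

end Groth.L19.Limit
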