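import Groth.Agent.L19.Limit.BaseChange

/-!
# Base changes of a cofiltered limit given by pullback squares
-/

universe u

open CategoryTheory CategoryTheory.Limits AlgebraicGeometry

namespace Groth.L19.Limit

set_option backward.isDefEq.respectTransparency.types false
set_option backward.isDefEq.respectTransparency false
set_option backward.defeqAttrib.useBackward true

variable {I : Type u} [Category.{u} I] [IsCofiltered I] {D : I ⥤ Scheme.{u}} {c : Cone D}
  {i : I} {T X : Scheme.{u}} {g : T ⟶ D.obj i} {q : X ⟶ T} {p : X ⟶ c.pt}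

omit [IsCofiltered I] in
/-- The map from a base change of the limit to the base change of a stage. -/
noncomputable def toStage (h : IsPullback q p g (c.π.app i)) (j : Over i) :
    X ⟶ (bcDiagram D g).obj j :=
  pullback.lift (p ≫ c.π.app j.left) q (by rw [Category.assoc, c.w]; exact h.w.symm)

omit [IsCofiltered I] in
@[reassoc]
theorem toStage_fst (h : IsPullback q p g (c.π.app i)) (j : Over i) :
    toStage h j ≫ pullback.fst (D.map j.hom) g = p ≫ c.π.app j.left :=
  pullback.lift_fst _ _ _

omit [IsCofiltered I] in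
@[reassoc]
theorem toStage_snd (h : IsPullback q p g (c.π.app i)) (j : Over i) :
    toStage h j ≫ pullback.snd (D.map j.hom) g = q :=
  pullback.lift_snd _ _ _

omit [IsCofiltered I] in
/-- The cone given by a pullback square. -/
@[simps] noncomputable def sqCone (h : IsPullback q p g (c.π.app i)) : Cone (bcDiagram D g) where
  pt := X
  π :=
    { app := toStage h
      naturality := fun j k f => by
        apply pullback.hom_ext <;> simp [bcDiagram, toStage] }

/-- A base change of the limit is the limit of the base changes. -/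
noncomputable def isLimitSqCone (hc : IsLimit c) (h : IsPullback q p g (c.π.app i)) :
    IsLimit (sqCone h) :=
  IsLimit.ofIsoLimit (isLimitBcCone g hc)
    (Cone.ext h.flip.isoPullback (fun j => by
      apply pullback.hom_ext <;> simp [bcCone, toStage])).symm

section Hom

variable {X₀ Y₀ : Scheme.{u}} (f₀ : X₀ ⟶ Y₀) (g₀ : Y₀ ⟶ D.obj i)

/-- The morphism induced on base changes to a stage. -/
noncomputable def stageHom (j : Over i) :
    (bcDiagram D (f₀ ≫ g₀)).obj j ⟶ (bcDiagram D g₀).obj j :=
  pullback.map _ _ _ _ (𝟙 _) f₀ (𝟙 _) (by simp) (by simp)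

omit [IsCofiltered I] in
theorem stageHom_snd (j : Over i) :
    stageHom f₀ g₀ j ≫ pullback.snd (D.map j.hom) g₀ = pullback.snd (D.map j.hom) (f₀ ≫ g₀) ≫ f₀ :=
  pullback.lift_snd _ _ _

omit [IsCofiltered I] in
theorem stageHom_fst (j : Over i) :
    stageHom f₀ g₀ j ≫ pullback.fst (D.map j.hom) g₀ = pullback.fst (D.map j.hom) (f₀ ≫ g₀) := by
  simp [stageHom]

omit [IsCofiltered I] in
theorem isPullback_stageHom (j : Over i) :
    IsPullback (pullback.snd (D.map j.hom) (f₀ ≫ g₀)) (stageHom f₀ g₀ j) f₀
      (pullback.snd (D.map j.hom) g₀) := by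
  refine IsPullback.of_bot (v₂₁ := pullback.fst (D.map j.hom) g₀) (v₂₂ := g₀) (h₃₁ := D.map j.hom)
    ?_ (stageHom_snd f₀ g₀ j).symm (IsPullback.of_hasPullback (D.map j.hom) g₀).flip
  rw [stageHom_fst]
  exact (IsPullback.of_hasPullback (D.map j.hom) (f₀ ≫ g₀)).flip

variable {f₀ g₀} {Y : Scheme.{u}} {qX : X ⟶ X₀} {qY : Y ⟶ Y₀} {f : X ⟶ Y} {g : Y ⟶ c.pt}

omit [IsCofiltered I] in
theorem toStage_stageHom (hY : IsPullback qY g g₀ (c.π.app i)) (hX : IsPullback qX f f₀ qY)
    (j : Over i) :
    toStage (hX.paste_vert hY) j ≫ stageHom f₀ g₀ j = f ≫ toStage hY j := by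
  apply pullback.hom_ext
  · rw [Category.assoc, Category.assoc, stageHom_fst, toStage_fst, toStage_fst, Category.assoc]
  · rw [Category.assoc, Category.assoc, stageHom_snd, reassoc_of% toStage_snd, toStage_snd]
    exact hX.w

omit [IsCofiltered I] in
theorem isPullback_toStage (hY : IsPullback qY g g₀ (c.π.app i)) (hX : IsPullback qX f f₀ qY)
    (j : Over i) :
    IsPullback (toStage (hX.paste_vert hY) j) f (stageHom f₀ g₀ j) (toStage hY j) := by
  refine IsPullback.of_right ?_ (toStage_stageHom hY hX j) (isPullback_stageHom f₀ g₀ j)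
  rw [toStage_snd, toStage_snd]
  exact hX

end Hom

end Groth.L19.Limit
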