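import Groth.Agent.L19.Limit.Cons
import Groth.Agent.L19.Limit.Flat
import Groth.Agent.L19.Limit.Pullback
import Mathlib.AlgebraicGeometry.Morphisms.UniversallyOpen

/-!
# Dominant morphisms and flat base change
-/

universe u

open CategoryTheory CategoryTheory.Limits AlgebraicGeometry Topology

namespace Groth.L19.Limit

set_option backward.isDefEq.respectTransparency.types false
set_option backward.isDefEq.respectTransparency false
set_option backward.defeqAttrib.useBackward true

theorem range_of_isPullback {P X Y Z : Scheme.{u}} {fst : P ⟶ X} {snd : P ⟶ Y} {f : X ⟶ Z}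
    {g : Y ⟶ Z} (h : IsPullback fst snd f g) : Set.range snd = g ⁻¹' Set.range f := by
  simpa [Set.image_univ] using Scheme.image_preimage_eq_of_isPullback h (Set.univ : Set X)

/-- Dominance of a quasi-compact morphism is preserved by flat base change. -/
theorem isDominant_of_isPullback {P X Y Z : Scheme.{u}} {fst : P ⟶ X} {snd : P ⟶ Y} {f : X ⟶ Z}
    {g : Y ⟶ Z} (h : IsPullback fst snd f g) [QuasiCompact f] [Flat g] [IsDominant f] :
    IsDominant snd := by
  refine ⟨?_⟩
  rw [DenseRange, dense_iff_closure_eq, range_of_isPullback h, Set.eq_univ_iff_forall]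
  intro y
  refine preimage_closure_subset_of_generalizingMap (cc_range f) g (Flat.generalizingMap g) ?_
  rw [Set.mem_preimage, f.denseRange.closure_range]
  trivial

variable {I : Type u} [Category.{u} I] [IsCofiltered I] {D : I ⥤ Scheme.{u}} {c : Cone D}
  {i : I} {T : Scheme.{u}} {g : T ⟶ D.obj i}

omit [IsCofiltered I] in
theorem isPullback_bcDiagram_map {j k : Over i} (a : j ⟶ k) :
    IsPullback ((bcDiagram D g).map a) (pullback.fst (D.map j.hom) g)
      (pullback.fst (D.map k.hom) g) (D.map a.left) := by
  refine IsPullback.flip (IsPullback.of_right ?_ ?_ (IsPullback.of_hasPullback (D.map k.hom) g).flip).flip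
  · have e : (bcDiagram D g).map a ≫ pullback.snd (D.map k.hom) g = pullback.snd (D.map j.hom) g := by
      simp [bcDiagram]
    rw [e, ← D.map_comp, Over.w a]
    exact (IsPullback.of_hasPullback (D.map j.hom) g).flip
  · simp [bcDiagram]

end Groth.L19.Limit
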