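import Groth.Agent.L19.Limit.Finite
import Groth.Agent.L19.Limit.Dominant
import Groth.Agent.S12442
import Mathlib.AlgebraicGeometry.Morphisms.Immersion
import Mathlib.AlgebraicGeometry.Morphisms.FinitePresentation

/-!
# Immersions, open immersions and isomorphisms along cofiltered limits
-/

universe u

open CategoryTheory CategoryTheory.Limits AlgebraicGeometry Topology MorphismProperty

namespace Groth.L19.Limit

set_option backward.isDefEq.respectTransparency.types false
set_option backward.isDefEq.respectTransparency false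
set_option backward.defeqAttrib.useBackward true
set_option linter.style.haveILetI false

/-- The condition on the morphisms: quasi-compact, quasi-separated, of finite presentation. -/
abbrev qcqsfp : MorphismProperty Scheme.{u} := qcqs ⊓ @LocallyOfFinitePresentation

/-- The base change of a composite `a' ≫ w`. -/
theorem pb_of_factor {P : MorphismProperty Scheme.{u}} [P.IsStableUnderBaseChange]
    {X S T W : Scheme.{u}} {a : X ⟶ S} {g : T ⟶ S} {w : W ⟶ S} {a' : X ⟶ W} (h : a' ≫ w = a)
    (hP : P (pullback.fst (pullback.snd g w) a' ≫ pullback.fst g w)) : Pb P a g := by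
  refine (pb_iff_of_isPullback (q := pullback.snd (pullback.snd g w) a') ?_).mp hP
  rw [← h]
  exact (IsPullback.of_hasPullback (pullback.snd g w) a').flip.paste_vert
    (IsPullback.of_hasPullback g w).flip

variable {I : Type u} [Category.{u} I] [IsCofiltered I] {D : I ⥤ Scheme.{u}} {c : Cone D}
  [∀ {i j} (f : i ⟶ j), IsAffineHom (D.map f)]

/-- If the base change to the limit lands in a preimage of a compact open, so does some stage. -/
theorem exists_range_fst_subset (hc : IsLimit c) {i : I} [CompactSpace (D.obj i)] {X : Scheme.{u}}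
    (a : X ⟶ D.obj i) [QuasiCompact a] {j : I} (φ : j ⟶ i) (V : (D.obj j).Opens)
    (h : ∀ x, c.π.app j (pullback.fst (c.π.app i) a x) ∈ V) :
    ∃ (k : I) (m : k ⟶ j), Set.range (pullback.fst (D.map (m ≫ φ)) a) ⊆
      (D.map m ⁻¹ᵁ V : Set (D.obj k)) := by
  haveI : ∀ k : Over i, CompactSpace ((bcDiagram D a).obj k) := fun k =>
    haveI := compactSpace_stage (D := D) k.hom
    QuasiCompact.compactSpace_of_compactSpace (pullback.fst (D.map k.hom) a)
  obtain ⟨k, m, hk⟩ := exists_map_eq_top (bcDiagram D a) (bcCone D c a) (isLimitBcCone a hc)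
    (i := Over.mk φ) (pullback.fst (D.map φ) a ⁻¹ᵁ V) (by
      refine eq_top_iff.mpr fun x _ => ?_
      show pullback.fst (D.map φ) a ((bcCone D c a).π.app (Over.mk φ) x) ∈ V
      exact (apply_comm (show (bcCone D c a).π.app (Over.mk φ) ≫ pullback.fst (D.map φ) a =
        pullback.fst (c.π.app i) a ≫ c.π.app j from pullback.lift_fst ..) x).symm ▸ h x)
  refine ⟨k.left, m.left, ?_⟩
  have hm : m.left ≫ φ = k.hom := Over.w m
  rw [hm]
  rintro _ ⟨x, rfl⟩
  have hx : x ∈ (bcDiagram D a).map m ⁻¹ᵁ (pullback.fst (D.map φ) a ⁻¹ᵁ V) := by rw [hk]; trivial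
  exact Eq.mp (congrArg (fun z => z ∈ (V : Set (D.obj j))) (apply_comm ((bcFst D a).naturality m) x)) hx

theorem descends_isImmersion : Descends @IsImmersion qcqsft.{u} := by
  intro I _ _ D c _ hc i _ X a ha hP
  haveI : QuasiCompact a := ha.1.1
  haveI : QuasiSeparated a := ha.1.2
  haveI : LocallyOfFiniteType a := ha.2
  let p : pullback (c.π.app i) a ⟶ c.pt := pullback.fst (c.π.app i) a
  haveI : IsImmersion p := hP
  haveI := compactSpace_pt hc i
  haveI : CompactSpace ↥(pullback (c.π.app i) a) :=
    haveI : CompactSpace (((Functor.const I).obj c.pt).obj i) := inferInstanceAs (CompactSpace c.pt)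
    QuasiCompact.compactSpace_of_compactSpace (pullback.fst (c.π.app i) a)
  -- a compact open containing the image in which it is closed
  obtain ⟨W, hW, hpW, hWco⟩ : ∃ W : c.pt.Opens, IsCompact (W : Set c.pt) ∧ Set.range p ⊆ W ∧
      (W : Set c.pt) ⊆ coborder (Set.range p) := by
    choose V hV hxV hVco using fun x : Set.range p =>
      TopologicalSpace.Opens.isBasis_iff_nbhd.mp c.pt.isBasis_affineOpens
        (show x.1 ∈ (⟨coborder (Set.range p), p.isLocallyClosed_range.isOpen_coborder⟩ : c.pt.Opens)
          from subset_coborder x.2)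
    obtain ⟨t, ht⟩ := (isCompact_range p.continuous).elim_finite_subcover
      (fun x : Set.range p => (V x : Set c.pt)) (fun x => (V x).2)
      (fun x hx => Set.mem_iUnion.mpr ⟨⟨x, hx⟩, hxV _⟩)
    exact ⟨⟨⋃ x ∈ t, (V x : Set c.pt), isOpen_biUnion fun x _ => (V x).2⟩,
      t.finite_toSet.isCompact_biUnion fun x _ => (hV x).isCompact, ht,
      Set.iUnion₂_subset fun x _ => hVco x⟩
  obtain ⟨j, φ, V, hV, hVW⟩ := exists_isCompact_preimage_eq hc i W hW
  obtain ⟨k, m, hk⟩ := exists_range_fst_subset hc a φ V fun x => by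
    have := hpW ⟨x, rfl⟩
    rw [← hVW] at this
    exact this
  -- the stage `k`
  let b : pullback (D.map (m ≫ φ)) a ⟶ D.obj k := pullback.fst (D.map (m ≫ φ)) a
  let U : (D.obj k).Opens := D.map m ⁻¹ᵁ V
  let b' : pullback (D.map (m ≫ φ)) a ⟶ U := IsOpenImmersion.lift U.ι b (by rw [Scheme.Opens.range_ι]; exact hk)
  have hb' : b' ≫ U.ι = b := IsOpenImmersion.lift_fac _ _ _
  haveI : QuasiCompact b := MorphismProperty.pullback_fst (P := @QuasiCompact) _ _ inferInstance
  haveI : QuasiSeparated b := MorphismProperty.pullback_fst (P := @QuasiSeparated) _ _ inferInstance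
  haveI : LocallyOfFiniteType b :=
    MorphismProperty.pullback_fst (P := @LocallyOfFiniteType) _ _ inferInstance
  haveI : QuasiSeparated (b' ≫ U.ι) := by rw [hb']; infer_instance
  haveI : QuasiCompact (b' ≫ U.ι) := by rw [hb']; infer_instance
  haveI : LocallyOfFiniteType (b' ≫ U.ι) := by rw [hb']; infer_instance
  haveI : QuasiSeparated b' := QuasiSeparated.of_comp b' U.ι
  haveI : QuasiCompact b' := QuasiCompact.of_comp b' U.ι
  haveI : LocallyOfFiniteType b' := locallyOfFiniteType_of_comp b' U.ι
  haveI : CompactSpace U.toScheme :=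
    isCompact_iff_compactSpace.mp (QuasiCompact.isCompact_preimage (f := D.map m) _ V.2 hV)
  have hb : ∀ {T : Scheme.{u}} (n : T ⟶ D.obj k),
      Pb @IsImmersion b n ↔ Pb @IsImmersion a (n ≫ D.map (m ≫ φ)) := fun n =>
    pb_iff_of_isPullback ((IsPullback.of_hasPullback n b).flip.paste_horiz
      (IsPullback.of_hasPullback (D.map (m ≫ φ)) a).flip)
  obtain ⟨l, n, hl⟩ := descends_isClosedImmersion.exists_pb hc b' U.ι
    ⟨⟨inferInstance, inferInstance⟩, inferInstance⟩ (IsPullback.of_hasPullback (c.π.app k) U.ι).flip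
    (by
      let q := pullback.fst (pullback.snd (c.π.app k) U.ι) b'
      have hq : Pb @IsImmersion b (c.π.app k) := (hb _).mpr (by rw [c.w]; exact hP)
      have hsq : IsPullback (pullback.snd (pullback.snd (c.π.app k) U.ι) b')
          (q ≫ pullback.fst (c.π.app k) U.ι) b (c.π.app k) := by
        rw [← hb']
        exact (IsPullback.of_hasPullback (pullback.snd (c.π.app k) U.ι) b').flip.paste_vert
          (IsPullback.of_hasPullback (c.π.app k) U.ι).flip
      haveI : IsImmersion (q ≫ pullback.fst (c.π.app k) U.ι) := (pb_iff_of_isPullback hsq).mpr hq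
      haveI : IsImmersion q := IsImmersion.of_comp q (pullback.fst (c.π.app k) U.ι)
      refine IsClosedImmersion.of_isPreimmersion q ?_
      have hr : Set.range (q ≫ pullback.fst (c.π.app k) U.ι) = Set.range p := by
        show _ = Set.range (pullback.fst (c.π.app i) a)
        rw [range_of_isPullback hsq,
          range_of_isPullback (IsPullback.of_hasPullback (c.π.app i) a).flip,
          range_of_isPullback (IsPullback.of_hasPullback (D.map (m ≫ φ)) a).flip,
          preimage_preimage_map]
      have hrq : Set.range q = pullback.fst (c.π.app k) U.ι ⁻¹' Set.range p := by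
        rw [← hr]
        refine (Set.preimage_image_eq _ (pullback.fst (c.π.app k) U.ι).isEmbedding.injective).symm.trans ?_
        congr 1
        rw [← Set.range_comp]
        exact congrArg Set.range (funext fun x => (Scheme.Hom.comp_apply _ _ x).symm)
      rw [hrq, ← isOpen_compl_iff, ← Set.preimage_compl]
      have hcl : IsOpen ((W : Set c.pt) ∩ (closure (Set.range p))ᶜ) :=
        W.2.inter isClosed_closure.isOpen_compl
      convert hcl.preimage (pullback.fst (c.π.app k) U.ι).continuous using 1
      ext x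
      have hxW : pullback.fst (c.π.app k) U.ι x ∈ (W : Set c.pt) := by
        rw [← hVW]
        show c.π.app j (pullback.fst (c.π.app k) U.ι x) ∈ V
        rw [← map_apply m]
        have e := apply_comm (pullback.condition (f := c.π.app k) (g := U.ι)) x
        exact e ▸ ((pullback.snd (c.π.app k) U.ι x).2 : _ ∈ U)
      refine ⟨fun hx => ⟨hxW, fun hcl' => hx ?_⟩, fun hx hp => hx.2 (subset_closure hp)⟩
      by_contra hn
      exact hWco hxW ⟨hcl', hn⟩)
  refine ⟨l, n ≫ m ≫ φ, ?_⟩
  rw [D.map_comp]
  refine (hb _).mp (pb_of_factor (P := @IsImmersion) hb' ?_)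
  haveI : IsClosedImmersion (pullback.fst (pullback.snd (D.map n) U.ι) b') := hl
  infer_instance

theorem descendsAffine_isIso : DescendsAffine (isomorphisms Scheme.{u}) qcqsfp := by
  intro I _ _ D c _ _ hc i X a ha hP
  haveI : LocallyOfFinitePresentation a := ha.2
  haveI : IsIso (pullback.fst (c.π.app i) a) := hP
  obtain ⟨j, φ, hj⟩ := descendsAffine_isClosedImmersion hc a ⟨ha.1, inferInstance⟩
    (inferInstanceAs (IsClosedImmersion (pullback.fst (c.π.app i) a)))
  let b : pullback (D.map φ) a ⟶ D.obj j := pullback.fst (D.map φ) a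
  haveI : IsClosedImmersion b := hj
  haveI : IsAffine (pullback (D.map φ) a) := isAffine_of_isAffineHom b
  haveI : LocallyOfFinitePresentation b :=
    MorphismProperty.pullback_fst (P := @LocallyOfFinitePresentation) _ _ inferInstance
  have hb : ∀ {T : Scheme.{u}} (n : T ⟶ D.obj j),
      Pb (isomorphisms Scheme.{u}) b n ↔ Pb (isomorphisms Scheme.{u}) a (n ≫ D.map φ) := fun n =>
    pb_iff_of_isPullback ((IsPullback.of_hasPullback n b).flip.paste_horiz
      (IsPullback.of_hasPullback (D.map φ) a).flip)
  haveI : IsAffine c.pt := Scheme.isAffine_of_isLimit c hc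
  haveI : IsIso (pullback.fst (c.π.app j) b) := (hb _).mpr (by rw [c.w]; exact hP)
  have hsurj : Function.Surjective b.appTop :=
    Scheme.Hom.app_surjective b ⊤ (isAffineOpen_top _)
  obtain ⟨s, hs⟩ : (RingHom.ker b.appTop.hom).FG := by
    have hfp : b.appTop.hom.FinitePresentation :=
      HasRingHomProperty.appTop @LocallyOfFinitePresentation b inferInstance
    letI := b.appTop.hom.toAlgebra
    haveI : Algebra.FinitePresentation Γ(D.obj j, ⊤) Γ(pullback (D.map φ) a, ⊤) := hfp
    exact Algebra.FinitePresentation.ker_fG_of_surjective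
      (Algebra.ofId Γ(D.obj j, ⊤) Γ(pullback (D.map φ) a, ⊤)) hsurj
  have hlim : ∀ r ∈ RingHom.ker b.appTop.hom, (c.π.app j).appTop r = 0 := fun r hr => by
    have e : c.π.app j = inv (pullback.fst (c.π.app j) b) ≫ pullback.snd (c.π.app j) b ≫ b := by
      rw [← pullback.condition, IsIso.inv_hom_id_assoc]
    rw [e, appTop_apply, appTop_apply]
    rw [RingHom.mem_ker] at hr
    exact (congrArg _ (congrArg _ hr)).trans ((congrArg _ (map_zero _)).trans (map_zero _))
  obtain ⟨k, ψ, hk⟩ : ∃ (k : I) (ψ : k ⟶ j), ∀ r ∈ s, (D.map ψ).appTop r = 0 := by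
    choose k ψ hk using fun r : ↥s => exists_app_map_eq_zero_of_isLimit D c hc (i := j) (U := ⊤)
      isCompact_univ r.1 (hlim r.1 (hs ▸ Ideal.subset_span r.2))
    obtain ⟨l, θ, χ, hχ⟩ := IsCofiltered.wideCospan ψ
    refine ⟨l, θ, fun r hr => ?_⟩
    rw [← hχ ⟨r, hr⟩, D.map_comp, appTop_apply]
    exact (congrArg _ (hk ⟨r, hr⟩)).trans (map_zero _)
  have hker : RingHom.ker b.appTop.hom ≤ RingHom.ker (D.map ψ).appTop.hom := by
    rw [← hs, Ideal.span_le]
    exact fun r hr => hk r hr
  let σ : Γ(pullback (D.map φ) a, ⊤) ⟶ Γ(D.obj k, ⊤) :=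
    CommRingCat.ofHom (b.appTop.hom.liftOfSurjective hsurj ⟨(D.map ψ).appTop.hom, hker⟩)
  let s' : D.obj k ⟶ pullback (D.map φ) a :=
    (D.obj k).isoSpec.hom ≫ Spec.map σ ≫ (pullback (D.map φ) a).isoSpec.inv
  have hs' : s' ≫ b = D.map ψ := by
    have e : b.appTop ≫ σ = (D.map ψ).appTop := by
      ext r
      exact RingHom.liftOfRightInverse_comp_apply _ _ (Function.rightInverse_surjInv hsurj) _ r
    calc s' ≫ b
        = (D.obj k).isoSpec.hom ≫ Spec.map σ ≫ Spec.map b.appTop ≫ (D.obj j).isoSpec.inv := by
          simp [s', Scheme.isoSpec_inv_naturality]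
      _ = (D.obj k).isoSpec.hom ≫ Spec.map (D.map ψ).appTop ≫ (D.obj j).isoSpec.inv := by
          rw [← e, Spec.map_comp, Category.assoc]
      _ = D.map ψ := by rw [Scheme.isoSpec_inv_naturality, Iso.hom_inv_id_assoc]
  refine ⟨k, ψ ≫ φ, ?_⟩
  rw [D.map_comp]
  refine (hb _).mp ?_
  haveI : IsClosedImmersion (pullback.fst (D.map ψ) b) := inferInstance
  haveI : IsSplitEpi (pullback.fst (D.map ψ) b) :=
    IsSplitEpi.mk' ⟨pullback.lift (𝟙 _) s' (by simp [hs']), pullback.lift_fst _ _ _⟩
  exact isIso_of_mono_of_isSplitEpi _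

theorem descends_isIso : Descends (isomorphisms Scheme.{u}) qcqsfp :=
  descends_of_affine descendsAffine_isIso

theorem descends_isOpenImmersion : Descends @IsOpenImmersion qcqsfp.{u} := by
  intro I _ _ D c _ hc i _ X a ha hP
  haveI : QuasiCompact a := ha.1.1
  haveI : QuasiSeparated a := ha.1.2
  haveI : LocallyOfFinitePresentation a := ha.2
  haveI : IsOpenImmersion (pullback.fst (c.π.app i) a) := hP
  have hZ : IsLocallyConstructible (Set.range a) := by
    simpa [Set.image_univ] using a.isLocallyConstructible_image IsLocallyConstructible.univ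
  obtain ⟨j, φ, hopen⟩ := exists_isOpen hc hZ (by
    rw [← range_of_isPullback (IsPullback.of_hasPullback (c.π.app i) a).flip]
    exact (pullback.fst (c.π.app i) a).isOpenEmbedding.isOpen_range)
  let b : pullback (D.map φ) a ⟶ D.obj j := pullback.fst (D.map φ) a
  haveI : CompactSpace (D.obj j) := compactSpace_stage (D := D) φ
  haveI : QuasiCompact b := MorphismProperty.pullback_fst (P := @QuasiCompact) _ _ inferInstance
  haveI : QuasiSeparated b := MorphismProperty.pullback_fst (P := @QuasiSeparated) _ _ inferInstance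
  haveI : LocallyOfFinitePresentation b :=
    MorphismProperty.pullback_fst (P := @LocallyOfFinitePresentation) _ _ inferInstance
  have hrb : Set.range b = D.map φ ⁻¹' Set.range a :=
    range_of_isPullback (IsPullback.of_hasPullback (D.map φ) a).flip
  let U : (D.obj j).Opens := ⟨Set.range b, hrb ▸ hopen⟩
  haveI : CompactSpace ↥(pullback (D.map φ) a) := QuasiCompact.compactSpace_of_compactSpace b
  haveI : CompactSpace U.toScheme := isCompact_iff_compactSpace.mp (isCompact_range b.continuous)
  let b' : pullback (D.map φ) a ⟶ U := IsOpenImmersion.lift U.ι b (by simp [U])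
  have hb' : b' ≫ U.ι = b := IsOpenImmersion.lift_fac _ _ _
  haveI : QuasiSeparated (b' ≫ U.ι) := by rw [hb']; infer_instance
  haveI : QuasiCompact (b' ≫ U.ι) := by rw [hb']; infer_instance
  haveI : LocallyOfFinitePresentation (b' ≫ U.ι) := by rw [hb']; infer_instance
  haveI : QuasiSeparated b' := QuasiSeparated.of_comp b' U.ι
  haveI : QuasiCompact b' := QuasiCompact.of_comp b' U.ι
  haveI : LocallyOfFinitePresentation b' := Groth.Agent.S12442.result b' U.ι
  have hb : ∀ {T : Scheme.{u}} (n : T ⟶ D.obj j),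
      Pb @IsOpenImmersion b n ↔ Pb @IsOpenImmersion a (n ≫ D.map φ) := fun n =>
    pb_iff_of_isPullback ((IsPullback.of_hasPullback n b).flip.paste_horiz
      (IsPullback.of_hasPullback (D.map φ) a).flip)
  obtain ⟨l, n, hl⟩ := descends_isIso.exists_pb hc b' U.ι
    ⟨⟨inferInstance, inferInstance⟩, inferInstance⟩ (IsPullback.of_hasPullback (c.π.app j) U.ι).flip
    (by
      let q := pullback.fst (pullback.snd (c.π.app j) U.ι) b'
      have hsq : IsPullback (pullback.snd (pullback.snd (c.π.app j) U.ι) b')
          (q ≫ pullback.fst (c.π.app j) U.ι) b (c.π.app j) := by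
        rw [← hb']
        exact (IsPullback.of_hasPullback (pullback.snd (c.π.app j) U.ι) b').flip.paste_vert
          (IsPullback.of_hasPullback (c.π.app j) U.ι).flip
      haveI : IsOpenImmersion (q ≫ pullback.fst (c.π.app j) U.ι) :=
        (pb_iff_of_isPullback hsq).mpr ((hb _).mpr (by rw [c.w]; exact hP))
      haveI : IsOpenImmersion q := IsOpenImmersion.of_comp q (pullback.fst (c.π.app j) U.ι)
      haveI : Surjective b' := ⟨fun x => by
        obtain ⟨y, hy⟩ := x.2
        refine ⟨y, Subtype.ext ?_⟩
        rw [← hy, ← hb', Scheme.Hom.comp_apply]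
        rfl⟩
      haveI : Surjective q := MorphismProperty.pullback_fst (P := @Surjective) _ _ inferInstance
      exact (isIso_iff_isOpenImmersion_and_epi_base q).mpr ⟨inferInstance, (TopCat.epi_iff_surjective _).mpr q.surjective⟩)
  refine ⟨l, n ≫ φ, ?_⟩
  rw [D.map_comp]
  refine (hb _).mp (pb_of_factor (P := @IsOpenImmersion) hb' ?_)
  haveI : IsIso (pullback.fst (pullback.snd (D.map n) U.ι) b') := hl
  infer_instance

end Groth.L19.Limit
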