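import Groth.Agent.L19.Limit.Descend
import Groth.Agent.L19.Limit.Pullback
import Mathlib.AlgebraicGeometry.Morphisms.QuasiSeparated
import Mathlib.AlgebraicGeometry.Morphisms.Separated

/-!
# Descending properties of morphisms along cofiltered limits: reductions
-/

universe u

open CategoryTheory CategoryTheory.Limits AlgebraicGeometry MorphismProperty

namespace Groth.L19.Limit

set_option backward.isDefEq.respectTransparency.types false
set_option backward.isDefEq.respectTransparency false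
set_option backward.defeqAttrib.useBackward true
set_option linter.style.haveILetI false

/-- The base change of `a` along `g` has `P`. -/
abbrev Pb (P : MorphismProperty Scheme.{u}) {X S T : Scheme.{u}} (a : X ⟶ S) (g : T ⟶ S) : Prop :=
  P (pullback.fst g a)

section Pb

variable {P : MorphismProperty Scheme.{u}} [P.IsStableUnderBaseChange]
  {X S T : Scheme.{u}} {a : X ⟶ S}

theorem pb_comp {g : T ⟶ S} {T' : Scheme.{u}} (m : T' ⟶ T) (h : Pb P a g) : Pb P a (m ≫ g) :=
  MorphismProperty.of_isPullback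
    (IsPullback.of_right' (IsPullback.of_hasPullback (m ≫ g) a).flip
      (IsPullback.of_hasPullback g a).flip) h

theorem pb_iff_of_isPullback {g : T ⟶ S} {Z : Scheme.{u}} {p : Z ⟶ T} {q : Z ⟶ X}
    (h : IsPullback q p a g) : P p ↔ Pb P a g :=
  ⟨fun hp => by rw [Pb, ← h.flip.isoPullback_inv_fst, P.cancel_left_of_respectsIso]; exact hp,
    fun hp => MorphismProperty.of_isPullback
      (IsPullback.of_right' h (IsPullback.of_hasPullback g a).flip : IsPullback _ p _ (𝟙 T)) hp⟩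

theorem pb_snd_iff {W : Scheme.{u}} (w : W ⟶ S) (n : T ⟶ W) :
    Pb P (pullback.snd a w) n ↔ Pb P a (n ≫ w) :=
  pb_iff_of_isPullback
    ((IsPullback.of_hasPullback n (pullback.snd a w)).flip.paste_horiz
      (IsPullback.of_hasPullback a w))

theorem pb_of_cover [IsZariskiLocalAtTarget P] {g : T ⟶ S} (𝒰 : T.OpenCover)
    (h : ∀ k, Pb P a (𝒰.f k ≫ g)) : Pb P a g := by
  refine IsZariskiLocalAtTarget.of_openCover 𝒰 fun k => ?_
  exact (pb_iff_of_isPullback (((IsPullback.of_hasPullback (pullback.fst g a) (𝒰.f k)).paste_horiz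
    (IsPullback.of_hasPullback g a).flip))).mpr (h k)

end Pb

variable (P Q : MorphismProperty Scheme.{u})

/-- `P` descends from the limit to a stage, for the morphisms in `Q`, when all stages are affine. -/
def DescendsAffine : Prop :=
  ∀ {I : Type u} [Category.{u} I] [IsCofiltered I] {D : I ⥤ Scheme.{u}} {c : Cone D}
    [∀ {i j} (f : i ⟶ j), IsAffineHom (D.map f)] [∀ j, IsAffine (D.obj j)] (_ : IsLimit c)
    {i : I} {X : Scheme.{u}} (a : X ⟶ D.obj i), Q a → Pb P a (c.π.app i) →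
      ∃ (j : I) (φ : j ⟶ i), Pb P a (D.map φ)

/-- `P` descends from the limit to a stage, for the morphisms in `Q`. -/
def Descends : Prop :=
  ∀ {I : Type u} [Category.{u} I] [IsCofiltered I] {D : I ⥤ Scheme.{u}} {c : Cone D}
    [∀ {i j} (f : i ⟶ j), IsAffineHom (D.map f)] (_ : IsLimit c)
    {i : I} [CompactSpace (D.obj i)] {X : Scheme.{u}} (a : X ⟶ D.obj i), Q a →
      Pb P a (c.π.app i) → ∃ (j : I) (φ : j ⟶ i), Pb P a (D.map φ)

variable {P Q}

/-- It suffices to descend when all stages are affine. -/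
theorem descends_of_affine [P.IsStableUnderBaseChange] [IsZariskiLocalAtTarget P]
    [Q.IsStableUnderBaseChange] (h : DescendsAffine P Q) : Descends P Q := by
  intro I _ _ D c _ hc i _ X a ha hP
  let 𝒰 := (D.obj i).affineCover.finiteSubcover
  haveI : ∀ k, IsAffine (𝒰.X k) := fun k => inferInstanceAs (IsAffine (Spec _))
  have key : ∀ k, ∃ (j : I) (φ : j ⟶ i), Pb P a (pullback.fst (D.map φ) (𝒰.f k) ≫ D.map φ) := by
    intro k
    haveI : ∀ j, IsAffine ((bcDiagram D (𝒰.f k)).obj j) := fun j =>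
      isAffine_of_isAffineHom (pullback.snd (D.map j.hom) (𝒰.f k))
    let J : Over i := Over.mk (𝟙 i)
    let w : (bcDiagram D (𝒰.f k)).obj J ⟶ D.obj i := (bcFst D (𝒰.f k)).app J
    have hw : (bcCone D c (𝒰.f k)).π.app J ≫ w = pullback.fst (c.π.app i) (𝒰.f k) ≫ c.π.app i := by
      exact (isPullback_bcCone D c (𝒰.f k) J).w
    obtain ⟨j, φ, hj⟩ := h (isLimitBcCone (𝒰.f k) hc) (i := J) (pullback.snd a w)
      (MorphismProperty.pullback_snd a w ha) ((pb_snd_iff w _).mpr (by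
        rw [hw]; exact pb_comp _ hP))
    refine ⟨j.left, j.hom, ?_⟩
    have e : (bcDiagram D (𝒰.f k)).map φ ≫ w = pullback.fst (D.map j.hom) (𝒰.f k) ≫ D.map j.hom := by
      have hφ : φ.left = j.hom := by simpa [J] using Over.w φ
      simp [w, J, bcDiagram, bcFst, hφ]
    have h' := (pb_snd_iff w _).mp hj
    rw [e] at h'
    exact h'
  choose j φ hφ using key
  obtain ⟨l, ψ, χ, hχ⟩ := IsCofiltered.wideCospan φ
  refine ⟨l, ψ, pb_of_cover (𝒰.pullback₁ (D.map ψ)) fun k => ?_⟩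
  show Pb P a (pullback.fst (D.map ψ) (𝒰.f k) ≫ D.map ψ)
  have e : pullback.fst (D.map ψ) (𝒰.f k) ≫ D.map ψ =
      pullback.map (D.map ψ) (𝒰.f k) (D.map (φ k)) (𝒰.f k) (D.map (χ k)) (𝟙 _) (𝟙 _)
        (by rw [← D.map_comp, hχ k, Category.comp_id]) (by simp) ≫
        pullback.fst (D.map (φ k)) (𝒰.f k) ≫ D.map (φ k) := by
    rw [pullback.lift_fst_assoc, Category.assoc, ← D.map_comp, hχ k]
  rw [e]
  exact pb_comp _ (hφ k)

section Stage

variable {I : Type u} [Category.{u} I] [IsCofiltered I] {D : I ⥤ Scheme.{u}} {c : Cone D}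
  [∀ {i j} (f : i ⟶ j), IsAffineHom (D.map f)]

/-- The general form of descent: both schemes live over a stage. -/
theorem Descends.exists_pb [P.IsStableUnderBaseChange] [Q.IsStableUnderBaseChange]
    (h : Descends P Q) (hc : IsLimit c) {i : I} {X₀ Y₀ : Scheme.{u}} (f₀ : X₀ ⟶ Y₀)
    (g₀ : Y₀ ⟶ D.obj i) [CompactSpace Y₀] (hf₀ : Q f₀) {Y : Scheme.{u}} {qY : Y ⟶ Y₀}
    {g : Y ⟶ c.pt} (hY : IsPullback qY g g₀ (c.π.app i)) (hP : Pb P f₀ qY) :
    ∃ (j : I) (φ : j ⟶ i), Pb P f₀ (pullback.snd (D.map φ) g₀) := by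
  let J : Over i := Over.mk (𝟙 i)
  let w : (bcDiagram D g₀).obj J ⟶ Y₀ := pullback.snd (D.map J.hom) g₀
  haveI : CompactSpace ((bcDiagram D g₀).obj J) :=
    QuasiCompact.compactSpace_of_compactSpace (X := pullback (D.map J.hom) g₀)
      (pullback.snd (D.map J.hom) g₀)
  obtain ⟨k, a, hk⟩ := h (isLimitSqCone hc hY) (i := J) (pullback.snd f₀ w)
    (MorphismProperty.pullback_snd f₀ w hf₀) ((pb_snd_iff w _).mpr (by
      show Pb P f₀ (toStage hY J ≫ w)
      rw [toStage_snd]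
      exact hP))
  refine ⟨k.left, k.hom, ?_⟩
  have h' := (pb_snd_iff w _).mp hk
  rwa [show (bcDiagram D g₀).map a ≫ w = pullback.snd (D.map k.hom) g₀ from
    (pullback.lift_snd ..).trans (Category.comp_id _)] at h'

/-- The form of descent used by the milestones: pullback squares over a stage. -/
theorem Descends.exists_stage [P.IsStableUnderBaseChange] [Q.IsStableUnderBaseChange]
    (h : Descends P Q) (hc : IsLimit c) {i : I} {X₀ Y₀ : Scheme.{u}} {f₀ : X₀ ⟶ Y₀}
    {g₀ : Y₀ ⟶ D.obj i} [CompactSpace Y₀] (hf₀ : Q f₀) {X Y : Scheme.{u}} {qY : Y ⟶ Y₀}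
    {qX : X ⟶ X₀} {f : X ⟶ Y} {g : Y ⟶ c.pt} (hY : IsPullback qY g g₀ (c.π.app i))
    (hX : IsPullback qX f f₀ qY) (hP : P f) :
    ∃ (j : I) (φ : j ⟶ i) (Xj Yj : Scheme.{u}) (fj : Xj ⟶ Yj) (gj : Yj ⟶ D.obj j) (pY : Yj ⟶ Y₀)
      (pX : Xj ⟶ X₀), IsPullback pY gj g₀ (D.map φ) ∧ IsPullback pX fj f₀ pY ∧ P fj := by
  obtain ⟨j, φ, hj⟩ := h.exists_pb hc f₀ g₀ hf₀ hY ((pb_iff_of_isPullback hX).mp hP)
  exact ⟨j, φ, _, _, _, _, _, _, (IsPullback.of_hasPullback (D.map φ) g₀).flip,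
    isPullback_stageHom f₀ g₀ (Over.mk φ),
    (pb_iff_of_isPullback (isPullback_stageHom f₀ g₀ (Over.mk φ))).mpr hj⟩

omit [IsCofiltered I] [∀ {i j} (f : i ⟶ j), IsAffineHom (D.map f)] in
/-- A property stable under base change holds in the limit once it holds at a stage. -/
theorem of_stage [P.IsStableUnderBaseChange] {i : I} {X₀ Y₀ : Scheme.{u}} {f₀ : X₀ ⟶ Y₀}
    {g₀ : Y₀ ⟶ D.obj i} {X Y : Scheme.{u}} {qY : Y ⟶ Y₀} {qX : X ⟶ X₀} {f : X ⟶ Y} {g : Y ⟶ c.pt}
    (hY : IsPullback qY g g₀ (c.π.app i)) (hX : IsPullback qX f f₀ qY)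
    {j : I} {φ : j ⟶ i} {Xj Yj : Scheme.{u}} {fj : Xj ⟶ Yj} {gj : Yj ⟶ D.obj j} {pY : Yj ⟶ Y₀}
    {pX : Xj ⟶ X₀} (h1 : IsPullback pY gj g₀ (D.map φ)) (h2 : IsPullback pX fj f₀ pY) (hP : P fj) :
    P f := by
  let s : Y ⟶ Yj := h1.lift qY (g ≫ c.π.app j) (by rw [Category.assoc, c.w]; exact hY.w)
  have hs : s ≫ pY = qY := h1.lift_fst _ _ _
  refine (pb_iff_of_isPullback hX).mpr ?_
  rw [← hs]
  exact pb_comp s ((pb_iff_of_isPullback h2).mp hP)

/-- A property of the diagonal descends as soon as the property does. -/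
theorem Descends.diagonal [P.IsStableUnderBaseChange] [Q.IsStableUnderBaseChange]
    (h : Descends P Q) :
    Descends P.diagonal (Q.diagonal ⊓ @QuasiCompact) := by
  intro I _ _ D c _ hc i _ X a ha hP
  haveI : QuasiCompact a := ha.2
  haveI : QuasiCompact (pullback.snd a a ≫ a) :=
    MorphismProperty.comp_mem _ _ _ (MorphismProperty.pullback_snd a a ha.2) ha.2
  haveI : CompactSpace ↥(pullback a a) :=
    QuasiCompact.compactSpace_of_compactSpace (pullback.snd a a ≫ a)
  have key : ∀ {T : Scheme.{u}} (m : T ⟶ D.obj i), Pb P.diagonal a m ↔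
      Pb P (pullback.diagonal a) (pullback.fst (pullback.snd a a ≫ a) m) := by
    intro T m
    rw [Pb, MorphismProperty.diagonal_iff, diagonal_pullback_fst, P.cancel_left_of_respectsIso,
      P.cancel_right_of_respectsIso]
    refine pb_iff_of_isPullback (q := pullback.fst a m) ?_
    refine IsPullback.of_bot (v₂₁ := pullback.snd _ m) (v₂₂ := pullback.snd a a ≫ a) (h₃₁ := m)
      ?_ (by simp) (IsPullback.of_hasPullback _ m)
    simpa using IsPullback.of_hasPullback a m
  obtain ⟨j, φ, hj⟩ := h.exists_pb hc (pullback.diagonal a) (pullback.snd a a ≫ a) ha.1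
    (IsPullback.of_hasPullback _ (c.π.app i)) ((key _).mp hP)
  refine ⟨j, φ, (key _).mpr ?_⟩
  rw [← pullbackSymmetry_hom_comp_snd]
  exact pb_comp _ hj

end Stage

theorem quasiSeparated_le_diagonal : (@QuasiSeparated : MorphismProperty Scheme.{u}) =
    MorphismProperty.diagonal @QuasiCompact :=
  quasiSeparated_eq_diagonal_is_quasiCompact

end Groth.L19.Limit
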