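import Groth.Agent.L19.Limit.Finite

/-!
# Limits over a fixed base
-/

universe u

open CategoryTheory CategoryTheory.Limits AlgebraicGeometry

namespace Groth.L19.Limit

set_option backward.isDefEq.respectTransparency.types false
set_option backward.isDefEq.respectTransparency false
set_option backward.defeqAttrib.useBackward true
set_option linter.style.haveILetI false

variable {I : Type u} [Category.{u} I] [IsCofiltered I] {D : I ⥤ Scheme.{u}} {c : Cone D}
  [∀ {i j} (f : i ⟶ j), IsAffineHom (D.map f)]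

omit [IsCofiltered I] in
theorem isPullback_opensDiagram_map {i : I} {U : (D.obj i).Opens} {j k : Over i} (f : j ⟶ k) :
    IsPullback ((opensDiagramι D i U).app j) ((opensDiagram D i U).map f) (D.map f.left)
      ((opensDiagramι D i U).app k) :=
  (IsOpenImmersion.isPullback _ _ _ _ (by simp) (by
    simp [← Scheme.Hom.comp_preimage, ← D.map_comp])).flip

/-- A property of morphisms to a fixed quasi-compact base holds at a stage once it does so over each
affine open of the base. -/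
theorem exists_of_forall_isAffineOpen (P : MorphismProperty Scheme.{u}) [IsZariskiLocalAtTarget P]
    {i : I} {S : Scheme.{u}} [CompactSpace S] (a : D.obj i ⟶ S)
    (hPre : ∀ {j k : I} (m : k ⟶ j) (b : D.obj j ⟶ S) (U : S.Opens), P (b ∣_ U) →
      P ((D.map m ≫ b) ∣_ U))
    (h : ∀ U : S.Opens, IsAffineOpen U → ∃ (j : I) (φ : j ⟶ i), P ((D.map φ ≫ a) ∣_ U)) :
    ∃ (j : I) (φ : j ⟶ i), P (D.map φ ≫ a) := by
  let 𝒰 := S.affineCover.finiteSubcover
  haveI : ∀ k, IsAffine (𝒰.X k) := fun k => inferInstanceAs (IsAffine (Spec _))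
  choose j φ hφ using fun k => h (𝒰.f k).opensRange (isAffineOpen_opensRange _)
  obtain ⟨l, ψ, χ, hχ⟩ := IsCofiltered.wideCospan φ
  refine ⟨l, ψ, IsZariskiLocalAtTarget.of_iSup_eq_top (fun k => (𝒰.f k).opensRange)
    𝒰.iSup_opensRange fun k => ?_⟩
  rw [← hχ k, D.map_comp, Category.assoc]
  exact hPre (χ k) _ _ (hφ k)

/-- An affine limit over a fixed base comes from affine stages. -/
theorem exists_isAffineHom (hc : IsLimit c) {i : I} [CompactSpace (D.obj i)]
    [QuasiSeparatedSpace (D.obj i)] {S : Scheme.{u}} [CompactSpace S] (a : D.obj i ⟶ S)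
    [QuasiCompact a] [IsAffineHom (c.π.app i ≫ a)] :
    ∃ (j : I) (φ : j ⟶ i), IsAffineHom (D.map φ ≫ a) := by
  refine exists_of_forall_isAffineOpen @IsAffineHom a (fun {j k} m b U hb => by
    rw [morphismRestrict_comp]
    haveI : IsAffineHom (b ∣_ U) := hb
    haveI : IsAffineHom (D.map m ∣_ b ⁻¹ᵁ U) :=
      IsZariskiLocalAtTarget.restrict (P := @IsAffineHom) inferInstance _
    infer_instance) fun U hU => ?_
  haveI : IsAffine U.toScheme := hU
  let E := opensDiagram D i (a ⁻¹ᵁ U)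
  haveI : ∀ k : Over i, CompactSpace (E.obj k) := fun k =>
    isCompact_iff_compactSpace.mp (QuasiCompact.isCompact_preimage (f := D.map k.hom) _ (a ⁻¹ᵁ U).2
      (QuasiCompact.isCompact_preimage (f := a) _ U.2 hU.isCompact))
  haveI : ∀ k : Over i, QuasiSeparatedSpace (E.obj k) := fun k =>
    haveI := quasiSeparatedSpace_stage (D := D) k.hom
    (isQuasiSeparated_iff_quasiSeparatedSpace _ (D.map k.hom ⁻¹ᵁ (a ⁻¹ᵁ U)).2).mp
      (.of_quasiSeparatedSpace _)
  haveI : IsAffine (opensCone D c i (a ⁻¹ᵁ U)).pt := hU.preimage (c.π.app i ≫ a)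
  obtain ⟨k, hk⟩ := Scheme.exists_isAffine_of_isLimit _ _ (isLimitOpensCone D c hc i (a ⁻¹ᵁ U))
  refine ⟨k.left, k.hom, ?_⟩
  haveI : IsAffine ((D.map k.hom ≫ a) ⁻¹ᵁ U).toScheme := hk
  infer_instance

/-- Over an affine base: sections of an affine stage satisfy a property at some stage once each
does so at some stage. -/
theorem exists_forall_appTop_mem [∀ j, IsAffine (D.obj j)] {i : I} {S : Scheme.{u}} [IsAffine S]
    (a : D.obj i ⟶ S) [LocallyOfFiniteType a] (R : ∀ k : Over i, Subring Γ(D.obj k.left, ⊤))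
    (hR : ∀ k y, (D.map k.hom ≫ a).appTop y ∈ R k)
    (hmono : ∀ {k l : Over i} (m : l ⟶ k) (z : Γ(D.obj k.left, ⊤)), z ∈ R k →
      (D.map m.left).appTop z ∈ R l)
    (h : ∀ x : Γ(D.obj i, ⊤), ∃ k : Over i, (D.map k.hom).appTop x ∈ R k) :
    ∃ k : Over i, ∀ x, (D.map k.hom).appTop x ∈ R k := by
  classical
  obtain ⟨s, hs⟩ := exists_gens a
  choose k hk using h
  obtain ⟨l, hl⟩ := IsCofiltered.inf_objs_exists (s.image k)
  refine ⟨l, fun x => (hs ((R l).comap (D.map l.hom).appTop.hom) (fun y => ?_) (fun x hx => ?_)).ge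
    (Subring.mem_top x)⟩
  · show (D.map l.hom).appTop (a.appTop y) ∈ R l
    rw [← appTop_apply]
    exact hR l y
  · obtain ⟨m⟩ := hl (Finset.mem_image_of_mem k hx)
    have := hmono m _ (hk x)
    rw [← appTop_apply, ← D.map_comp, Over.w m] at this
    exact this

omit [∀ {i j} (f : i ⟶ j), IsAffineHom (D.map f)] in
/-- Reduction of a question about a limit over a fixed base to affine stages over an affine base. -/
theorem exists_of_isAffineHom [∀ {i j} (f : i ⟶ j), IsAffineHom (D.map f)]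
    {P W Plim : MorphismProperty Scheme.{u}} [IsZariskiLocalAtTarget P]
    [W.IsStableUnderBaseChange] [IsZariskiLocalAtTarget Plim]
    (hWP : ∀ {X Y Z : Scheme.{u}} (w : X ⟶ Y) (b : Y ⟶ Z), W w → P b → P (w ≫ b))
    (hWft : W ≤ @LocallyOfFiniteType)
    (haff : ∀ {J : Type u} [Category.{u} J] [IsCofiltered J] {E : J ⥤ Scheme.{u}} {cE : Cone E}
      [∀ {i j} (f : i ⟶ j), IsAffineHom (E.map f)] [∀ j, IsAffine (E.obj j)], IsLimit cE →
      (∀ {i j} (f : i ⟶ j), W (E.map f)) → ∀ {j : J} {U : Scheme.{u}} [IsAffine U]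
      (b : E.obj j ⟶ U) [LocallyOfFiniteType b], Plim (cE.π.app j ≫ b) →
        ∃ (k : J) (m : k ⟶ j), P (E.map m ≫ b))
    (hc : IsLimit c) (htr : ∀ {i j} (f : i ⟶ j), W (D.map f)) {i : I} [CompactSpace (D.obj i)]
    [QuasiSeparatedSpace (D.obj i)] {S : Scheme.{u}} [CompactSpace S] (a : D.obj i ⟶ S)
    [QuasiCompact a] [LocallyOfFiniteType a] [IsAffineHom (c.π.app i ≫ a)]
    (hlim : Plim (c.π.app i ≫ a)) :
    ∃ (j : I) (φ : j ⟶ i), P (D.map φ ≫ a) := by
  obtain ⟨j₀, φ₀, hj₀⟩ := exists_isAffineHom hc a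
  refine exists_of_forall_isAffineOpen P a (fun {j k} m b U hb => by
    rw [morphismRestrict_comp]
    exact hWP _ _ (MorphismProperty.of_isPullback (isPullback_morphismRestrict _ _).flip (htr m)) hb)
    fun U hU => ?_
  let E := opensDiagram D j₀ ((D.map φ₀ ≫ a) ⁻¹ᵁ U)
  haveI : IsAffine U.toScheme := hU
  haveI : IsAffineHom (D.map φ₀ ≫ a) := hj₀
  haveI : ∀ k : Over j₀, IsAffine (E.obj k) := fun k => (hU.preimage (D.map φ₀ ≫ a)).preimage _
  let J : Over j₀ := Over.mk (𝟙 j₀)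
  let b : E.obj J ⟶ U := (D.map J.hom ≫ D.map φ₀ ≫ a) ∣_ U
  haveI : LocallyOfFiniteType (D.map φ₀) := hWft _ (htr φ₀)
  haveI : LocallyOfFiniteType (D.map J.hom) := hWft _ (htr J.hom)
  haveI : LocallyOfFiniteType (D.map J.hom ≫ D.map φ₀ ≫ a) := inferInstance
  haveI : LocallyOfFiniteType b := inferInstanceAs (LocallyOfFiniteType ((D.map J.hom ≫ D.map φ₀ ≫ a) ∣_ U))
  let cE := opensCone D c j₀ ((D.map φ₀ ≫ a) ⁻¹ᵁ U)
  have hcl : Plim (cE.π.app J ≫ b) := by
    have e : cE.π.app J ≫ b = (c.π.app j₀ ≫ D.map φ₀ ≫ a) ∣_ U := by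
      rw [← cancel_mono U.ι, Category.assoc]
      simp [b, cE, J]
    rw [e]
    refine IsZariskiLocalAtTarget.restrict ?_ _
    rw [c.w_assoc]
    exact hlim
  obtain ⟨k, m, hk⟩ := haff (isLimitOpensCone D c hc j₀ ((D.map φ₀ ≫ a) ⁻¹ᵁ U))
    (fun f => MorphismProperty.of_isPullback (isPullback_opensDiagram_map f) (htr f.left)) b hcl
  refine ⟨k.left, k.hom ≫ φ₀, ?_⟩
  have he : (D.map (k.hom ≫ φ₀) ≫ a) ⁻¹ᵁ U = D.map k.hom ⁻¹ᵁ ((D.map φ₀ ≫ a) ⁻¹ᵁ U) := by
    simp only [Functor.map_comp, Category.assoc, Scheme.Hom.comp_preimage]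
  have hk1 : k.hom = m.left := by simpa [J] using (Over.w m).symm
  have e : (D.map (k.hom ≫ φ₀) ≫ a) ∣_ U =
      ((D.obj k.left).isoOfEq he).hom ≫ (E.map m ≫ b) := by
    rw [← cancel_mono U.ι]
    simp [E, b, J, opensDiagram, hk1]
  rw [e, P.cancel_left_of_respectsIso]
  exact hk

/-- A closed immersion in the limit comes from closed immersions of stages, for closed immersion
transition maps. -/
theorem exists_isClosedImmersion (hc : IsLimit c)
    (htr : ∀ {i j} (f : i ⟶ j), IsClosedImmersion (D.map f)) {i : I} [CompactSpace (D.obj i)]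
    [QuasiSeparatedSpace (D.obj i)] {S : Scheme.{u}} [CompactSpace S] (a : D.obj i ⟶ S)
    [QuasiCompact a] [LocallyOfFiniteType a] [IsClosedImmersion (c.π.app i ≫ a)] :
    ∃ (j : I) (φ : j ⟶ i), IsClosedImmersion (D.map φ ≫ a) := by
  refine exists_of_isAffineHom (P := @IsClosedImmersion) (W := @IsClosedImmersion)
    (Plim := @IsClosedImmersion) (fun w b hw hb => ?_) (fun X Y w hw => ?_) ?_ hc htr a inferInstance
  · exact MorphismProperty.comp_mem _ _ _ hw hb
  · haveI : IsClosedImmersion w := hw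
    infer_instance
  intro J _ _ E cE _ _ hcE hW j U _ b _ hlim
  haveI : IsAffine cE.pt := Scheme.isAffine_of_isLimit cE hcE
  haveI : IsClosedImmersion (cE.π.app j ≫ b) := hlim
  obtain ⟨k, hk⟩ := exists_forall_appTop_mem b
    (fun k : Over j => (E.map k.hom ≫ b).appTop.hom.range) (fun k y => ⟨y, rfl⟩)
    (fun {k l} m z hz => by
      obtain ⟨y, rfl⟩ := hz
      refine ⟨y, ((appTop_apply (E.map m.left) _ y).symm.trans ?_).symm⟩
      rw [← E.map_comp_assoc, Over.w m]) (fun x => by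
    obtain ⟨y, hy⟩ : ∃ y, (cE.π.app j ≫ b).appTop y = (cE.π.app j).appTop x :=
      Scheme.Hom.app_surjective _ ⊤ (isAffineOpen_top _) _
    obtain ⟨l, m, hl⟩ := exists_app_map_eq_map_of_isLimit E cE hcE (i := j) (U := ⊤) isCompact_univ
      (b.appTop y) x ((appTop_apply _ _ y).symm.trans hy)
    exact ⟨Over.mk m, y, (appTop_apply _ _ y).trans hl⟩)
  refine ⟨k.left, k.hom, IsClosedImmersion.of_surjective_of_isAffine _ fun z => ?_⟩
  haveI : IsClosedImmersion (E.map k.hom) := hW _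
  obtain ⟨x, rfl⟩ := Scheme.Hom.app_surjective (E.map k.hom) ⊤ (isAffineOpen_top _) z
  exact hk x

/-- An integral morphism in the limit comes from finite morphisms of stages, for finite transition
maps. -/
theorem exists_isFinite (hc : IsLimit c)
    (htr : ∀ {i j} (f : i ⟶ j), IsFinite (D.map f)) {i : I} [CompactSpace (D.obj i)]
    [QuasiSeparatedSpace (D.obj i)] {S : Scheme.{u}} [CompactSpace S] (a : D.obj i ⟶ S)
    [QuasiCompact a] [LocallyOfFiniteType a] [IsIntegralHom (c.π.app i ≫ a)] :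
    ∃ (j : I) (φ : j ⟶ i), IsFinite (D.map φ ≫ a) := by
  refine exists_of_isAffineHom (P := @IsFinite) (W := @IsFinite)
    (Plim := @IsIntegralHom) (fun w b hw hb => ?_) (fun X Y w hw => ?_) ?_ hc htr a inferInstance
  · exact MorphismProperty.comp_mem _ _ _ hw hb
  · haveI : IsFinite w := hw
    infer_instance
  intro J _ _ E cE _ _ hcE hW j U _ b _ hlim
  haveI : IsAffine cE.pt := Scheme.isAffine_of_isLimit cE hcE
  let p : ∀ k : Over j, Γ(U, ⊤) →+* Γ(E.obj k.left, ⊤) := fun k => (E.map k.hom ≫ b).appTop.hom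
  let R : ∀ k : Over j, Subring Γ(E.obj k.left, ⊤) := fun k =>
    letI := (p k).toAlgebra
    (integralClosure Γ(U, ⊤) Γ(E.obj k.left, ⊤)).toSubring
  have hR : ∀ k z, z ∈ R k ↔ (p k).IsIntegralElem z := fun k z => Iff.rfl
  obtain ⟨k, hk⟩ := exists_forall_appTop_mem b R
    (fun k y => (hR k _).mpr (RingHom.isIntegralElem_map _))
    (fun {k l} m z hz => by
      obtain ⟨q, hq, hq0⟩ := (hR k z).mp hz
      refine (hR l _).mpr ⟨q, hq, ?_⟩
      have h := hom_eval₂_map (p k) (p l) (RingHom.id _) (E.map m.left).appTop.hom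
        (fun y => (appTop_apply (E.map m.left) _ y).symm.trans (by
          rw [← E.map_comp_assoc, Over.w m]; rfl)) q (x := z) rfl
      rw [hq0, map_zero, Polynomial.map_id] at h
      exact h.symm) (fun x => by
    obtain ⟨q, hq, hq0⟩ :=
      ((HasAffineProperty.iff_of_isAffine (P := @IsIntegralHom)).mp hlim).2 ((cE.π.app j).appTop x)
    obtain ⟨l, m, hl⟩ := exists_app_map_eq_zero_of_isLimit E cE hcE (i := j) (U := ⊤) isCompact_univ
      (q.eval₂ b.appTop.hom x) (by
        refine (hom_eval₂_map b.appTop.hom (cE.π.app j ≫ b).appTop.hom (RingHom.id _)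
          (cE.π.app j).appTop.hom (fun y => (appTop_apply _ _ y).symm) q (x := x) rfl).trans ?_
        rw [Polynomial.map_id]
        exact hq0)
    refine ⟨Over.mk m, (hR _ _).mpr ⟨q, hq, ?_⟩⟩
    have h := hom_eval₂_map b.appTop.hom (p (Over.mk m)) (RingHom.id _) (E.map m).appTop.hom
      (fun y => (appTop_apply _ _ y).symm) q (x := x) rfl
    rw [Polynomial.map_id] at h
    exact h.symm.trans hl)
  refine ⟨k.left, k.hom, ?_⟩
  haveI : IsFinite (E.map k.hom) := hW _
  refine (HasAffineProperty.iff_of_isAffine (P := @IsFinite)).mpr ⟨inferInstance, ?_⟩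
  refine RingHom.IsIntegral.to_finite (fun z => ?_)
    (HasRingHomProperty.appTop @LocallyOfFiniteType _ inferInstance)
  letI : Algebra Γ(U, ⊤) Γ(E.obj k.left, ⊤) := (p k).toAlgebra
  show IsIntegral Γ(U, ⊤) z
  obtain ⟨q, hq, hq0⟩ := ((E.map k.hom).finite_appTop).to_isIntegral z
  let f : Γ(E.obj j, ⊤) →+* integralClosure Γ(U, ⊤) Γ(E.obj k.left, ⊤) :=
    (E.map k.hom).appTop.hom.codRestrict _ hk
  refine isIntegral_trans (R := Γ(U, ⊤)) (A := integralClosure Γ(U, ⊤) Γ(E.obj k.left, ⊤)) z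
    ⟨q.map f, hq.map f, ?_⟩
  rw [Polynomial.eval₂_map]
  exact hq0

end Groth.L19.Limit
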