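import Groth.Agent.L19.Ultra
import Mathlib.CategoryTheory.Filtered.Basic
import Mathlib.Order.Filter.AtTopBot.Basic

/-!
A family of valuative squares over the stages of a cofiltered system of schemes has an ultraproduct,
which is a valuative square over the limit.
-/

noncomputable section

namespace Groth.L19.Limit

open CategoryTheory AlgebraicGeometry Limits IsLocalRing Filter
open Groth.L19

universe u

set_option backward.isDefEq.respectTransparency.types false
set_option backward.isDefEq.respectTransparency false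

/-- A valuation ring with maps of its fraction field to `X` and of itself to `T`. -/
structure ValPair (X T : Scheme.{u}) where
  /-- The valuation ring. -/
  R : Type u
  [commRing : CommRing R]
  [isDomain : IsDomain R]
  [valuationRing : ValuationRing R]
  /-- Its fraction field. -/
  K : Type u
  [field : Field K]
  [algebra : Algebra R K]
  [isFractionRing : IsFractionRing R K]
  /-- The map at the generic point. -/
  m : Spec (CommRingCat.of K) ⟶ X
  /-- The map from the valuation ring. -/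
  φ : Spec (CommRingCat.of R) ⟶ T

attribute [instance] ValPair.commRing ValPair.isDomain ValPair.valuationRing ValPair.field
  ValPair.algebra ValPair.isFractionRing

namespace ValPair

variable {X T Z : Scheme.{u}} (P : ValPair X T)

/-- The inclusion of the generic point. -/
def η : Spec (CommRingCat.of P.K) ⟶ Spec (CommRingCat.of P.R) :=
  Spec.map (CommRingCat.ofHom (algebraMap P.R P.K))

/-- The two maps agree over `Z`. -/
def Comm (β : X ⟶ Z) (γ : T ⟶ Z) : Prop := P.m ≫ β = P.η ≫ P.φ ≫ γ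

/-- The square over `Z` has a lift. -/
def Lifts (β : X ⟶ Z) (γ : T ⟶ Z) : Prop :=
  ∃ l : Spec (CommRingCat.of P.R) ⟶ X, P.η ≫ l = P.m ∧ l ≫ β = P.φ ≫ γ

end ValPair

variable {I : Type u} [SmallCategory I] [IsCofiltered I] {D : I ⥤ Scheme.{u}} {c : Cone D}

/-- An ultraproduct of valuative squares over the stages. -/
theorem exists_valPair_ultra (hc : IsLimit c) [∀ i, CompactSpace (D.obj i)]
    [∀ i, QuasiSeparatedSpace (D.obj i)] {X : Scheme.{u}} [CompactSpace X] [QuasiSeparatedSpace X]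
    (S : ∀ i, ValPair X (D.obj i)) :
    ∃ T : ValPair X c.pt,
      (∀ (j : I) {Z : Scheme.{u}} [QuasiSeparatedSpace Z] (β : X ⟶ Z) (γ : D.obj j ⟶ Z),
        (∀ i (b : i ⟶ j), (S i).Comm β (D.map b ≫ γ)) → T.Comm β (c.π.app j ≫ γ)) ∧
      (∀ (j : I) (C : Set X), IsClosed C →
        (∀ i (_ : i ⟶ j), (S i).m (closedPoint (S i).K) ∈ C) → T.m (closedPoint T.K) ∈ C) ∧
      (∀ (j : I) {Z : Scheme.{u}} (β : X ⟶ Z) [LocallyOfFiniteType β] (γ : D.obj j ⟶ Z),
        (∀ i (b : i ⟶ j), (S i).Comm β (D.map b ≫ γ)) → T.Lifts β (c.π.app j ≫ γ) →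
        ∃ (i : I) (b : i ⟶ j), (S i).Lifts β (D.map b ≫ γ)) ∧
      (∀ (j : I) {W : Scheme.{u}} [CompactSpace W] (a : W ⟶ X) (b' : W ⟶ D.obj j) (C : Set W),
        IsClosed C → (∀ i (b : i ⟶ j), ∃ w : Spec (CommRingCat.of (S i).K) ⟶ W,
          w ≫ a = (S i).m ∧ w ≫ b' = (S i).η ≫ (S i).φ ≫ D.map b ∧ w (closedPoint (S i).K) ∈ C) →
        ∃ w : Spec (CommRingCat.of T.K) ⟶ W,
          w ≫ a = T.m ∧ w ≫ b' = T.η ≫ T.φ ≫ c.π.app j ∧ w (closedPoint T.K) ∈ C) ∧
      (∀ (j : I) {Z : Scheme.{u}} [QuasiSeparatedSpace Z] (β : X ⟶ Z) [LocallyOfFiniteType β]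
        (γ : D.obj j ⟶ Z) (l₁ l₂ : ∀ i, Spec (CommRingCat.of (S i).R) ⟶ X),
        (∀ i (b : i ⟶ j), ((S i).η ≫ l₁ i = (S i).m ∧ l₁ i ≫ β = (S i).φ ≫ D.map b ≫ γ) ∧
          (S i).η ≫ l₂ i = (S i).m ∧ l₂ i ≫ β = (S i).φ ≫ D.map b ≫ γ) →
        ∃ L₁ L₂ : Spec (CommRingCat.of T.R) ⟶ X,
          (T.η ≫ L₁ = T.m ∧ L₁ ≫ β = T.φ ≫ c.π.app j ≫ γ) ∧
          (T.η ≫ L₂ = T.m ∧ L₂ ≫ β = T.φ ≫ c.π.app j ≫ γ) ∧
          (L₁ = L₂ → ∃ (i : I) (_ : i ⟶ j), l₁ i = l₂ i)) := by
  classical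
  let Arr := Σ j k : I, (j ⟶ k)
  let α := Finset Arr
  let O : α → Finset I := fun p => p.image (·.1) ∪ p.image (·.2.1)
  have hsrc : ∀ (p : α) (e : Arr), e ∈ p → e.1 ∈ O p := fun p e he =>
    Finset.mem_union_left _ (Finset.mem_image_of_mem (fun e : Arr => e.1) he)
  have htgt : ∀ (p : α) (e : Arr), e ∈ p → e.2.1 ∈ O p := fun p e he =>
    Finset.mem_union_right _ (Finset.mem_image_of_mem (fun e : Arr => e.2.1) he)
  let H : ∀ p : α, Finset (Σ' (j k : I) (_ : j ∈ O p) (_ : k ∈ O p), j ⟶ k) := fun p =>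
    p.attach.image fun e => ⟨e.1.1, e.1.2.1, hsrc p e.1 e.2, htgt p e.1 e.2, e.1.2.2⟩
  choose idx arr harr using fun p : α => IsCofiltered.inf_exists (O p) (H p)
  have hcomm : ∀ (p : α) {j k : I} (f : j ⟶ k) (hf : (⟨j, k, f⟩ : Arr) ∈ p),
      arr p (hsrc p _ hf) ≫ f = arr p (htgt p _ hf) := fun p j k f hf =>
    harr p _ _ (Finset.mem_image.mpr ⟨⟨_, hf⟩, Finset.mem_attach _ _, rfl⟩)
  let U : Ultrafilter α := Ultrafilter.of atTop
  have hmem : ∀ e : Arr, ∀ᶠ p : α in (U : Filter α), e ∈ p := fun e =>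
    Filter.Eventually.filter_mono (Ultrafilter.of_le _)
      ((eventually_ge_atTop ({e} : α)).mono fun p hp => hp (Finset.mem_singleton_self e))
  have hO : ∀ j : I, ∀ᶠ p : α in (U : Filter α), j ∈ O p := fun j =>
    (hmem ⟨j, j, 𝟙 j⟩).mono fun p hp => hsrc p _ hp
  let R : α → Type u := fun p => (S (idx p)).R
  let K : α → Type u := fun p => (S (idx p)).K
  let _ : Algebra (Ultra.UProd U R) (Ultra.UProd U K) :=
    (Ultra.map U fun p => algebraMap (R p) (K p)).toAlgebra
  have hinj := Ultra.map_injective U (fun p => algebraMap (R p) (K p))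
    fun p => IsFractionRing.injective (R p) (K p)
  have : FaithfulSMul (Ultra.UProd U R) (Ultra.UProd U K) :=
    (faithfulSMul_iff_algebraMap_injective _ _).mpr hinj
  have : IsFractionRing (Ultra.UProd U R) (Ultra.UProd U K) :=
    IsFractionRing.of_field _ _ fun z => by
      obtain ⟨a, b, h⟩ := Ultra.exists_eq_div U (R := R) z
      exact ⟨a, b, h⟩
  let mm : Ultra.Fam K X := fun p => some (S (idx p)).m
  obtain ⟨M, hM⟩ := Ultra.exists_isLim U mm (.of_forall fun _ => rfl)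
  let φ : ∀ j, Ultra.Fam R (D.obj j) := fun j p =>
    if h : j ∈ O p then some ((S (idx p)).φ ≫ D.map (arr p h)) else none
  have hφ : ∀ j p (h : j ∈ O p), φ j p = some ((S (idx p)).φ ≫ D.map (arr p h)) := fun j p h =>
    dif_pos h
  choose G hG using fun j => Ultra.exists_isLim U (φ j)
    ((hO j).mono fun p hp => by rw [hφ j p hp]; rfl)
  have hGc : ∀ {j k : I} (f : j ⟶ k), G j ≫ D.map f = G k := fun {j k} f => by
    refine Ultra.IsLim.unique (((hG j).comp (D.map f)).congr ?_) (hG k)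
    refine (hmem ⟨j, k, f⟩).mono fun p hp => ?_
    rw [hφ j p (hsrc p _ hp), hφ k p (htgt p _ hp), Option.map_some, Category.assoc, ← D.map_comp,
      hcomm p f hp]
  let Φ := hc.lift ⟨_, { app := G, naturality := fun j k f => by simp [hGc f] }⟩
  have hΦ : ∀ j, Φ ≫ c.π.app j = G j := fun j => hc.fac _ j
  refine ⟨⟨Ultra.UProd U R, Ultra.UProd U K, M, Φ⟩, fun j Z _ β γ h => ?_, fun j C hC h => ?_,
    fun j Z β _ γ h hL => ?_, fun j W _ a b' C hC h => ?_, fun j Z _ β _ γ l₁ l₂ h => ?_⟩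
  · show M ≫ β = Spec.map _ ≫ Φ ≫ c.π.app j ≫ γ
    rw [reassoc_of% hΦ j]
    refine Ultra.IsLim.unique ((hM.comp β).congr ?_)
      (((hG j).comp γ).map fun p => algebraMap (R p) (K p))
    refine (hO j).mono fun p hp => ?_
    rw [hφ j p hp]
    simp only [mm, Option.map_some]
    have h1 := h (idx p) (arr p hp)
    rw [ValPair.Comm] at h1
    rw [h1]
    simp only [ValPair.η, Category.assoc]
    rfl
  · exact hM.mem_of_isClosed hC ((hO j).mono fun p hp => ⟨_, rfl, h (idx p) (arr p hp)⟩)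
  · obtain ⟨L, hLM, hLΦ⟩ := hL
    let φZ : ∀ p, Option (Spec (CommRingCat.of (R p)) ⟶ Z) := fun p => (φ j p).map (· ≫ γ)
    have hGZ : Ultra.IsLim U φZ (Φ ≫ c.π.app j ≫ γ) := by
      rw [reassoc_of% hΦ j]; exact (hG j).comp γ
    have key : ∀ᶠ p in (U : Filter α), ∃ x l, φZ p = some x ∧
        Spec.map (CommRingCat.ofHom (algebraMap (R p) (K p))) ≫ l = (S (idx p)).m ∧ l ≫ β = x := by
      refine (Ultra.eventually_exists_lift_fam U (fun p => algebraMap (R p) (K p))
        (fun p => IsFractionRing.injective (R p) (K p)) β hM hGZ ?_ L hLM hLΦ)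
      refine (hO j).mono fun p hp =>
        ⟨_, (congrArg (Option.map (· ≫ γ)) (hφ j p hp)).trans (Option.map_some ..), ?_⟩
      refine (h (idx p) (arr p hp)).trans ?_
      simp only [ValPair.η, Category.assoc]
      rfl
    obtain ⟨p, ⟨x, l, hx, hl, hl'⟩, hp⟩ := (key.and (hO j)).exists
    rw [show φZ p = _ from congrArg (Option.map (· ≫ γ)) (hφ j p hp), Option.map_some,
      Option.some.injEq] at hx
    exact ⟨idx p, arr p hp, l, hl, by rw [hl', ← hx, Category.assoc]⟩
  · choose w hwa hwb hwC using h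
    let ω : Ultra.Fam K W := fun p =>
      if hp : j ∈ O p then some (w (idx p) (arr p hp)) else none
    have hω : ∀ p (hp : j ∈ O p), ω p = some (w (idx p) (arr p hp)) := fun p hp => dif_pos hp
    obtain ⟨G', hG'⟩ := Ultra.exists_isLim U ω ((hO j).mono fun p hp => by rw [hω p hp]; rfl)
    refine ⟨G', ?_, ?_, hG'.mem_of_isClosed hC ((hO j).mono fun p hp =>
      ⟨_, hω p hp, hwC (idx p) (arr p hp)⟩)⟩
    · refine Ultra.IsLim.unique ((hG'.comp a).congr ((hO j).mono fun p hp => ?_)) hM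
      rw [hω p hp, Option.map_some, hwa]
    · show G' ≫ b' = Spec.map _ ≫ Φ ≫ c.π.app j
      rw [hΦ j]
      refine Ultra.IsLim.unique ((hG'.comp b').congr ((hO j).mono fun p hp => ?_))
        ((hG j).map fun p => algebraMap (R p) (K p))
      rw [hω p hp, hφ j p hp, Option.map_some, Option.map_some, hwb]
      rfl
  · let φZ : ∀ p, Option (Spec (CommRingCat.of (R p)) ⟶ Z) := fun p => (φ j p).map (· ≫ γ)
    have hGZ : Ultra.IsLim U φZ (Φ ≫ c.π.app j ≫ γ) := by
      rw [reassoc_of% hΦ j]; exact (hG j).comp γ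
    let lam : (∀ i, Spec (CommRingCat.of (S i).R) ⟶ X) → Ultra.Fam R X := fun l p =>
      some (l (idx p))
    have key : ∀ (l : ∀ i, Spec (CommRingCat.of (S i).R) ⟶ X),
        (∀ i (b : i ⟶ j), (S i).η ≫ l i = (S i).m ∧ l i ≫ β = (S i).φ ≫ D.map b ≫ γ) →
        ∀ L, Ultra.IsLim U (lam l) L →
          Spec.map (CommRingCat.ofHom (algebraMap (Ultra.UProd U R) (Ultra.UProd U K))) ≫ L = M ∧
            L ≫ β = Φ ≫ c.π.app j ≫ γ := by
      intro l hl L hL
      refine ⟨Ultra.IsLim.unique ((hL.map fun p => algebraMap (R p) (K p)).congr ?_) hM,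
        Ultra.IsLim.unique ((hL.comp β).congr ?_) hGZ⟩
      · refine (hO j).mono fun p hp => ?_
        simp only [lam, mm, Option.map_some, Option.some.injEq]
        exact (hl (idx p) (arr p hp)).1
      · refine (hO j).mono fun p hp => ?_
        rw [show φZ p = _ from congrArg (Option.map (· ≫ γ)) (hφ j p hp)]
        simp only [lam, Option.map_some, Option.some.injEq, Category.assoc]
        exact (hl (idx p) (arr p hp)).2
    obtain ⟨L₁, hL₁⟩ := Ultra.exists_isLim U (lam l₁) (.of_forall fun _ => rfl)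
    obtain ⟨L₂, hL₂⟩ := Ultra.exists_isLim U (lam l₂) (.of_forall fun _ => rfl)
    refine ⟨L₁, L₂, key l₁ (fun i b => (h i b).1) L₁ hL₁, key l₂ (fun i b => (h i b).2) L₂ hL₂,
      fun e => ?_⟩
    obtain ⟨p, hp, hpj⟩ := ((Ultra.eventually_eq_of_isLim U β hL₁ (e ▸ hL₂)
      ((hO j).mono fun p hp => by
        simp only [lam, Option.map_some, Option.some.injEq]
        exact (h (idx p) (arr p hp)).1.2.trans (h (idx p) (arr p hp)).2.2.symm)).and (hO j)).exists
    exact ⟨idx p, arr p hpj, Option.some.inj hp⟩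

end Groth.L19.Limit
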