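import Groth.Agent.L19.Limit.Separated
import Groth.Agent.L19.Limit.Pullback
import Groth.Agent.L19.Limit.ValUltra
import Groth.Agent.L19.Limit.Fixed
import Mathlib.AlgebraicGeometry.Morphisms.Proper
import Mathlib.AlgebraicGeometry.ValuativeCriterion

/-!
# Descent of properness along cofiltered limits
-/

universe u

open CategoryTheory CategoryTheory.Limits AlgebraicGeometry IsLocalRing

namespace Groth.L19.Limit

set_option backward.isDefEq.respectTransparency.types false
set_option backward.isDefEq.respectTransparency false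
set_option backward.defeqAttrib.useBackward true
set_option linter.style.haveILetI false

/-- A morphism with lifts in all its valuative squares satisfies the existence criterion. -/
theorem existence_of_valPair {X Y : Scheme.{u}} (f : X ⟶ Y)
    (H : ∀ P : ValPair X Y, P.Comm f (𝟙 Y) → P.Lifts f (𝟙 Y)) :
    ValuativeCriterion.Existence f := by
  intro s
  obtain ⟨l, hl, hl'⟩ := H ⟨s.R, s.K, s.i₁, s.i₂⟩ (by
    show s.i₁ ≫ f = _
    rw [Category.comp_id]
    exact s.commSq.w)
  exact ⟨⟨⟨l, hl, hl'.trans (Category.comp_id _)⟩⟩⟩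

/-- A quasi-compact universally closed morphism has lifts in all its valuative squares. -/
theorem lifts_of_universallyClosed {X Y : Scheme.{u}} (f : X ⟶ Y) [h : UniversallyClosed f]
    (P : ValPair X Y) (hP : P.Comm f (𝟙 Y)) : P.Lifts f (𝟙 Y) := by
  rw [UniversallyClosed.eq_valuativeCriterion] at h
  obtain ⟨⟨l⟩⟩ := h.1 { R := P.R, K := P.K, i₁ := P.m, i₂ := P.φ,
                         commSq := ⟨hP.trans (by rw [Category.comp_id]; rfl)⟩ }
  exact ⟨l.l, l.fac_left, l.fac_right.trans (Category.comp_id _).symm⟩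

variable {I : Type u} [SmallCategory I] [IsCofiltered I] {D : I ⥤ Scheme.{u}} {c : Cone D}
  [∀ {i j} (f : i ⟶ j), IsAffineHom (D.map f)] {i : I}
  {X₀ Y₀ X Y : Scheme.{u}} {f₀ : X₀ ⟶ Y₀} {g₀ : Y₀ ⟶ D.obj i} {qX : X ⟶ X₀} {qY : Y ⟶ Y₀}
  {f : X ⟶ Y} {g : Y ⟶ c.pt}

omit [IsCofiltered I] [∀ {i j} (f : i ⟶ j), IsAffineHom (D.map f)] in
theorem isPullback_stageHom_map (f₀ : X₀ ⟶ Y₀) (g₀ : Y₀ ⟶ D.obj i) {j k : Over i} (φ : k ⟶ j) :
    IsPullback ((bcDiagram D (f₀ ≫ g₀)).map φ) (stageHom f₀ g₀ k) (stageHom f₀ g₀ j)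
      ((bcDiagram D g₀).map φ) := by
  refine IsPullback.of_right ?_ ?_ (isPullback_stageHom f₀ g₀ j)
  · have h1 : ∀ {T : Scheme.{u}} (a : T ⟶ D.obj i), (bcDiagram D a).map φ ≫
        pullback.snd (D.map j.hom) a = pullback.snd (D.map k.hom) a := fun a => by
      simp [bcDiagram]
    rw [h1, h1]
    exact isPullback_stageHom f₀ g₀ k
  · apply pullback.hom_ext <;> simp [bcDiagram, stageHom]

/-- Universal closedness descends along cofiltered limits. -/
theorem exists_universallyClosed (hc : IsLimit c) [CompactSpace Y₀] [QuasiSeparatedSpace Y₀]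
    [CompactSpace X₀] [QuasiSeparatedSpace X₀] [LocallyOfFiniteType f₀]
    (hY : IsPullback qY g g₀ (c.π.app i)) (hX : IsPullback qX f f₀ qY) [UniversallyClosed f] :
    ∃ j : Over i, UniversallyClosed (stageHom (D := D) f₀ g₀ j) := by
  by_contra! hne
  let E := bcDiagram D g₀
  have hq : ∀ j, QuasiCompact (stageHom (D := D) f₀ g₀ j) := fun j => by
    have : QuasiCompact f₀ := quasiCompact_of_compactSpace f₀
    exact MorphismProperty.of_isPullback (isPullback_stageHom f₀ g₀ j) ‹_›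
  have key : ∀ j, ∃ P : ValPair X₀ (E.obj j), P.Comm f₀ (pullback.snd _ _) ∧
      ¬ P.Lifts f₀ (pullback.snd _ _) := by
    intro j
    by_contra! h
    have := hq j
    refine hne j (.of_valuativeCriterion _ (existence_of_valPair _ fun P hP => ?_))
    have hC : (ValPair.mk P.R P.K (P.m ≫ pullback.snd _ _) P.φ : ValPair X₀ (E.obj j)).Comm f₀
        (pullback.snd _ _) := by
      have h1 : P.m ≫ stageHom f₀ g₀ j = P.η ≫ P.φ := hP.trans (by rw [Category.comp_id])
      show (P.m ≫ _) ≫ f₀ = _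
      rw [Category.assoc, ← stageHom_snd, reassoc_of% h1]
      rfl
    obtain ⟨l, hl, hl'⟩ := h _ hC
    refine ⟨(isPullback_stageHom f₀ g₀ j).lift l P.φ hl', ?_, by simp⟩
    apply (isPullback_stageHom f₀ g₀ j).hom_ext
    · rw [Category.assoc, IsPullback.lift_fst]; exact hl
    · rw [Category.assoc, IsPullback.lift_snd]
      exact (hP.trans (by rw [Category.comp_id])).symm
  choose P hPc hPn using key
  haveI : ∀ j : Over i, CompactSpace (E.obj j) := fun j =>
    QuasiCompact.compactSpace_of_compactSpace (pullback.snd (D.map j.hom) g₀)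
  haveI : ∀ j : Over i, QuasiSeparatedSpace (E.obj j) := fun j =>
    quasiSeparatedSpace_of_quasiSeparated (pullback.snd (D.map j.hom) g₀)
  obtain ⟨T, hTeq, -, hTlift, -, -⟩ := exists_valPair_ultra (isLimitSqCone hc hY) P
  let J : Over i := Over.mk (𝟙 i)
  have hb : ∀ j (b : j ⟶ J), E.map b ≫ pullback.snd (D.map J.hom) g₀ = pullback.snd _ _ :=
    fun j b => by simp [E, bcDiagram]
  have hPJ : ∀ j (b : j ⟶ J), (P j).Comm f₀ (E.map b ≫ pullback.snd (D.map J.hom) g₀) :=
    fun j b => by rw [hb]; exact hPc j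
  have hTc : T.m ≫ f₀ = (T.η ≫ T.φ) ≫ qY := by
    refine (hTeq J f₀ _ hPJ).trans ?_
    show T.η ≫ T.φ ≫ toStage hY J ≫ pullback.snd (D.map J.hom) g₀ = _
    rw [toStage_snd, Category.assoc]
  obtain ⟨l, hl, hl'⟩ := lifts_of_universallyClosed f
    (ValPair.mk T.R T.K (hX.lift T.m (T.η ≫ T.φ) hTc) T.φ) (by
      show _ ≫ f = _
      rw [IsPullback.lift_snd, Category.comp_id]
      rfl)
  obtain ⟨j, b, hlift⟩ := hTlift J f₀ _ hPJ ⟨l ≫ qX, by
    rw [← Category.assoc]
    exact (congrArg (· ≫ qX) hl).trans (IsPullback.lift_fst ..), by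
    show _ = T.φ ≫ toStage hY J ≫ pullback.snd (D.map J.hom) g₀
    rw [toStage_snd, Category.assoc, hX.w, ← Category.assoc, hl', Category.comp_id]⟩
  rw [hb] at hlift
  exact hPn j hlift

/-- Properness descends along cofiltered limits. -/
theorem exists_isProper (hc : IsLimit c) [CompactSpace Y₀] [QuasiSeparatedSpace Y₀]
    [CompactSpace X₀] [QuasiSeparatedSpace X₀] [LocallyOfFiniteType f₀]
    (hY : IsPullback qY g g₀ (c.π.app i)) (hX : IsPullback qX f f₀ qY) [IsProper f] :
    ∃ j : Over i, IsProper (stageHom (D := D) f₀ g₀ j) := by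
  obtain ⟨j₁, h₁⟩ := exists_universallyClosed hc hY hX
  let J : Over i := Over.mk (𝟙 i)
  let E := bcDiagram D (f₀ ≫ g₀)
  haveI : ∀ j : Over i, CompactSpace (E.obj j) := fun j =>
    QuasiCompact.compactSpace_of_compactSpace (pullback.snd (D.map j.hom) (f₀ ≫ g₀))
  haveI : ∀ j : Over i, QuasiSeparatedSpace (E.obj j) := fun j =>
    quasiSeparatedSpace_of_quasiSeparated (pullback.snd (D.map j.hom) (f₀ ≫ g₀))
  let a : E.obj J ⟶ Y₀ := pullback.snd (D.map J.hom) (f₀ ≫ g₀) ≫ f₀
  haveI : QuasiCompact f₀ := quasiCompact_of_compactSpace f₀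
  haveI : QuasiSeparated f₀ := .of_comp f₀ (terminal.from Y₀)
  haveI : IsAffineHom qY := by
    haveI : IsAffineHom (c.π.app i) := isAffineHom_π_app D c hc i
    exact MorphismProperty.of_isPullback hY.flip ‹_›
  haveI : IsSeparated ((sqCone (hX.paste_vert hY)).π.app J ≫ a) := by
    rw [show (sqCone (hX.paste_vert hY)).π.app J ≫ a = f ≫ qY by simp [a, toStage, hX.w]]
    infer_instance
  obtain ⟨j₂, φ, h₂⟩ := exists_isSeparated (D := E) (c := sqCone (hX.paste_vert hY)) a
    (isLimitSqCone hc (hX.paste_vert hY))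
  have h₂' : IsSeparated (stageHom (D := D) f₀ g₀ j₂) := by
    haveI : IsSeparated (stageHom (D := D) f₀ g₀ j₂ ≫ pullback.snd (D.map j₂.hom) g₀) := by
      rw [stageHom_snd, show pullback.snd (D.map j₂.hom) (f₀ ≫ g₀) ≫ f₀ = E.map φ ≫ a by
        simp [E, a, bcDiagram]]
      exact h₂
    exact .of_comp _ (pullback.snd (D.map j₂.hom) g₀)
  let k := IsCofiltered.min j₁ j₂
  haveI : UniversallyClosed (stageHom (D := D) f₀ g₀ k) := MorphismProperty.of_isPullback
    (isPullback_stageHom_map f₀ g₀ (IsCofiltered.minToLeft j₁ j₂)) h₁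
  haveI : IsSeparated (stageHom (D := D) f₀ g₀ k) := MorphismProperty.of_isPullback
    (isPullback_stageHom_map f₀ g₀ (IsCofiltered.minToRight j₁ j₂)) h₂'
  haveI : LocallyOfFiniteType (stageHom (D := D) f₀ g₀ k) :=
    MorphismProperty.of_isPullback (isPullback_stageHom f₀ g₀ k) ‹_›
  exact ⟨k, { }⟩

end Groth.L19.Limit
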