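import Groth.Agent.L19.Limit.Fixed

/-!
# Closed subschemes of finite type of a limit
-/

universe u

open CategoryTheory CategoryTheory.Limits AlgebraicGeometry

namespace Groth.L19.Limit

set_option backward.isDefEq.respectTransparency.types false
set_option backward.isDefEq.respectTransparency false
set_option backward.defeqAttrib.useBackward true
set_option linter.style.haveILetI false

variable {I : Type u} [Category.{u} I] [IsCofiltered I] {D : I ⥤ Scheme.{u}} {c : Cone D}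
  [∀ {i j} (f : i ⟶ j), IsAffineHom (D.map f)]

theorem exists_isClosedImmersion_comp_of_isAffine [∀ j, IsAffine (D.obj j)] (hc : IsLimit c) (i : I)
    {Y : Scheme.{u}} [IsAffine Y] (h : Y ⟶ c.pt) [IsClosedImmersion h]
    [LocallyOfFiniteType (h ≫ c.π.app i)] :
    ∃ (j : I) (_ : j ⟶ i), IsClosedImmersion (h ≫ c.π.app j) := by
  classical
  haveI : IsAffine c.pt := Scheme.isAffine_of_isLimit c hc
  obtain ⟨s, hs⟩ := exists_gens (h ≫ c.π.app i)
  have hlift : ∀ x : Γ(Y, ⊤), ∃ k : Over i, ∃ z, (h ≫ c.π.app k.left).appTop z = x := fun x => by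
    obtain ⟨y, rfl⟩ := Scheme.Hom.app_surjective h ⊤ (isAffineOpen_top _) x
    obtain ⟨k, z, rfl⟩ := exists_appTop_π_eq_over hc (i := i) y
    exact ⟨k, z, appTop_apply _ _ z⟩
  choose k z hz using hlift
  obtain ⟨l, hl⟩ := IsCofiltered.inf_objs_exists (s.image k)
  refine ⟨l.left, l.hom, IsClosedImmersion.of_surjective_of_isAffine _ fun x =>
    (hs ((h ≫ c.π.app l.left).appTop.hom.range) (fun y => ?_) (fun w hw => ?_)).ge (Subring.mem_top x)⟩
  · refine ⟨(D.map l.hom).appTop y, (appTop_apply _ _ y).symm.trans ?_⟩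
    rw [Category.assoc, c.w]
  · obtain ⟨m⟩ := hl (Finset.mem_image_of_mem k hw)
    refine ⟨(D.map m.left).appTop (z w), (appTop_apply _ _ _).symm.trans ?_⟩
    rw [Category.assoc, c.w]
    exact hz w

/-- A closed subscheme of the limit of finite type over a stage is closed in some stage. -/
theorem exists_isClosedImmersion_comp (hc : IsLimit c) (i : I) [CompactSpace (D.obj i)]
    {Y : Scheme.{u}} (h : Y ⟶ c.pt) [IsClosedImmersion h]
    [LocallyOfFiniteType (h ≫ c.π.app i)] :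
    ∃ (j : I) (_ : j ⟶ i), IsClosedImmersion (h ≫ c.π.app j) := by
  let 𝒰 := (D.obj i).affineCover.finiteSubcover
  haveI : ∀ k, IsAffine (𝒰.X k) := fun k => inferInstanceAs (IsAffine (Spec _))
  have key : ∀ k, ∃ (j : I) (φ : j ⟶ i),
      IsClosedImmersion ((h ≫ c.π.app j) ∣_ (D.map φ ⁻¹ᵁ (𝒰.f k).opensRange)) := by
    intro k
    let U : (D.obj i).Opens := (𝒰.f k).opensRange
    have hU : IsAffineOpen U := isAffineOpen_opensRange _
    haveI : ∀ j, IsAffine ((opensDiagram D i U).obj j) := fun j => hU.preimage _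
    let cE := opensCone D c i U
    let J : Over i := Over.mk (𝟙 i)
    haveI : IsAffine cE.pt := Scheme.isAffine_of_isLimit cE (isLimitOpensCone D c hc i U)
    let hU' : (h ⁻¹ᵁ (c.π.app i ⁻¹ᵁ U)).toScheme ⟶ cE.pt := h ∣_ (c.π.app i ⁻¹ᵁ U)
    haveI : IsClosedImmersion hU' := inferInstanceAs (IsClosedImmersion (h ∣_ _))
    haveI : IsAffine (h ⁻¹ᵁ (c.π.app i ⁻¹ᵁ U)).toScheme := isAffine_of_isAffineHom hU'
    haveI : LocallyOfFiniteType (hU' ≫ cE.π.app J) := by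
      haveI : LocallyOfFiniteType ((hU' ≫ cE.π.app J) ≫ (D.map J.hom ⁻¹ᵁ U).ι ≫ D.map J.hom) := by
        have e : (hU' ≫ cE.π.app J) ≫ (D.map J.hom ⁻¹ᵁ U).ι ≫ D.map J.hom =
            (h ⁻¹ᵁ (c.π.app i ⁻¹ᵁ U)).ι ≫ h ≫ c.π.app i := by simp [hU', cE, J]
        rw [e]
        infer_instance
      exact locallyOfFiniteType_of_comp _ ((D.map J.hom ⁻¹ᵁ U).ι ≫ D.map J.hom)
    obtain ⟨j, m, hj⟩ := exists_isClosedImmersion_comp_of_isAffine (isLimitOpensCone D c hc i U) J hU'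
    refine ⟨j.left, j.hom, ?_⟩
    have he : (h ≫ c.π.app j.left) ⁻¹ᵁ (D.map j.hom ⁻¹ᵁ U) = h ⁻¹ᵁ (c.π.app i ⁻¹ᵁ U) := by
      rw [← c.w j.hom]
      simp only [Scheme.Hom.comp_preimage]
    have e : (h ≫ c.π.app j.left) ∣_ (D.map j.hom ⁻¹ᵁ U) =
        (Y.isoOfEq he).hom ≫ (hU' ≫ cE.π.app j) := by
      rw [← cancel_mono (D.map j.hom ⁻¹ᵁ U).ι]
      simp [hU', cE]
    rw [e, MorphismProperty.cancel_left_of_respectsIso (P := @IsClosedImmersion)]
    exact hj
  choose j φ hφ using key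
  obtain ⟨l, ψ, χ, hχ⟩ := IsCofiltered.wideCospan φ
  refine ⟨l, ψ, IsZariskiLocalAtTarget.of_iSup_eq_top (P := @IsClosedImmersion)
    (fun k => D.map ψ ⁻¹ᵁ (𝒰.f k).opensRange)
    ((Scheme.OpenCover.isOpenCover_opensRange 𝒰).comap (D.map ψ).base.hom) fun k => ?_⟩
  have hsep : IsClosedImmersion (((h ≫ c.π.app l) ≫ D.map (χ k)) ∣_
      (D.map (φ k) ⁻¹ᵁ (𝒰.f k).opensRange)) := by
    rw [Category.assoc, c.w]
    exact hφ k
  rw [morphismRestrict_comp] at hsep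
  haveI : IsSeparated (D.map (χ k) ∣_ (D.map (φ k) ⁻¹ᵁ (𝒰.f k).opensRange)) :=
    IsZariskiLocalAtTarget.restrict (P := @IsSeparated) inferInstance _
  have h2 := IsClosedImmersion.of_comp ((h ≫ c.π.app l) ∣_ _) (D.map (χ k) ∣_ (D.map (φ k) ⁻¹ᵁ (𝒰.f k).opensRange))
  have he : D.map (χ k) ⁻¹ᵁ (D.map (φ k) ⁻¹ᵁ (𝒰.f k).opensRange) = D.map ψ ⁻¹ᵁ (𝒰.f k).opensRange := by
    rw [← Scheme.Hom.comp_preimage, ← D.map_comp, hχ k]
  exact he ▸ h2

end Groth.L19.Limit
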