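import Mathlib.AlgebraicGeometry.AffineTransitionLimit
import Mathlib.AlgebraicGeometry.Stalk
import Mathlib.AlgebraicGeometry.ResidueField

/-!
# Sections and stalks of cofiltered limits of schemes
-/

universe u

open CategoryTheory CategoryTheory.Limits AlgebraicGeometry Opposite

namespace Groth.L19.Limit

set_option backward.defeqAttrib.useBackward true
set_option backward.isDefEq.respectTransparency false
set_option backward.isDefEq.respectTransparency.types false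

variable {I : Type u} [Category.{u} I] [IsCofiltered I] {D : I ⥤ Scheme.{u}} {c : Cone D}
  [∀ {i j} (f : i ⟶ j), IsAffineHom (D.map f)]

open Scheme.Opens in
/-- A section over the preimage of an affine open of a stage comes from a later stage. -/
theorem exists_appLE_eq (hc : IsLimit c) {i : I} {V : (D.obj i).Opens} (hV : IsAffineOpen V)
    (r : Γ(c.pt, c.π.app i ⁻¹ᵁ V)) :
    ∃ (j : I) (φ : j ⟶ i) (t : Γ(D.obj j, D.map φ ⁻¹ᵁ V))
      (e : c.π.app i ⁻¹ᵁ V ≤ c.π.app j ⁻¹ᵁ D.map φ ⁻¹ᵁ V),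
      (c.π.app j).appLE (D.map φ ⁻¹ᵁ V) (c.π.app i ⁻¹ᵁ V) e t = r := by
  have (j : _) : IsAffine ((opensDiagram D i V).op.obj j).unop := hV.preimage _
  have (j : _) : IsAffine ((opensDiagram D i V).obj j) := hV.preimage _
  obtain ⟨⟨j⟩, s, hs⟩ := (Types.jointly_surjective_of_isColimit (isColimitOfPreserves
    (Scheme.Γ ⋙ forget _) (isLimitOpensCone D c hc i V).op) ((c.π.app i ⁻¹ᵁ V).topIso.inv r))
  obtain ⟨s, rfl⟩ := (D.map j.hom ⁻¹ᵁ V).topIso.symm.commRingCatIsoToRingEquiv.surjective s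
  have h : c.π.app j.left ⁻¹ᵁ D.map j.hom ⁻¹ᵁ V = c.π.app i ⁻¹ᵁ V := congr($(c.w j.hom) ⁻¹ᵁ V)
  have : r = (c.π.app j.left).appLE (D.map j.hom ⁻¹ᵁ V) (c.π.app i ⁻¹ᵁ V) h.ge s := by
    convert!
      show r = ((topIso _).inv ≫ ((opensCone D c i V).π.app j).appTop ≫ (topIso _).hom) s from
        (c.π.app i ⁻¹ᵁ V).topIso.commRingCatIsoToRingEquiv.symm_apply_eq.mp hs.symm using 3
    simp [Scheme.Hom.app_eq_appLE, Scheme.Hom.resLE_appLE]
  exact ⟨j.left, j.hom, s, h.ge, this.symm⟩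

omit [IsCofiltered I] [∀ {i j} (f : i ⟶ j), IsAffineHom (D.map f)] in
theorem map_apply {i j : I} (φ : j ⟶ i) (p : c.pt) : D.map φ (c.π.app j p) = c.π.app i p :=
  (Scheme.Hom.comp_apply (c.π.app j) (D.map φ) p).symm.trans (by rw [c.w]; rfl)

/-- Every germ of the limit comes from some stage over a given one. -/
theorem exists_stalkMap_eq (hc : IsLimit c) (p : c.pt) (a : c.pt.presheaf.stalk p) :
    ∃ (j : I) (b : (D.obj j).presheaf.stalk (c.π.app j p)), (c.π.app j).stalkMap p b = a := by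
  obtain ⟨W, hpW, r, rfl⟩ := c.pt.presheaf.exists_germ_eq a
  obtain ⟨_, ⟨i, V, hV, rfl⟩, hpV, hVW⟩ :=
    TopologicalSpace.Opens.isBasis_iff_nbhd.mp (isBasis_preimage_isAffineOpen D c hc) hpW
  obtain ⟨j, φ, t, e, ht⟩ := exists_appLE_eq hc hV (c.pt.presheaf.map (homOfLE hVW).op r)
  have hp : c.π.app j p ∈ D.map φ ⁻¹ᵁ V := e hpV
  refine ⟨j, (D.obj j).presheaf.germ _ _ hp t, ?_⟩
  rw [Scheme.Hom.germ_stalkMap_apply, ← TopCat.Presheaf.germ_res_apply c.pt.presheaf (homOfLE hVW) p hpV r,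
    ← ht, Scheme.Hom.appLE, ConcreteCategory.comp_apply]
  exact (TopCat.Presheaf.germ_res_apply c.pt.presheaf (homOfLE e) p hpV _).symm

/-- Germs at some stage with the same image in the limit agree at a later stage. -/
theorem exists_stalkMap_map_eq (hc : IsLimit c) {i : I} (p : c.pt)
    (b b' : (D.obj i).presheaf.stalk (c.π.app i p))
    (h : (c.π.app i).stalkMap p b = (c.π.app i).stalkMap p b') :
    ∃ (j : I) (φ : j ⟶ i),
      (D.map φ).stalkMap (c.π.app j p) (((D.obj i).presheaf.stalkCongr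
          (.of_eq (map_apply φ p).symm)).hom b) =
        (D.map φ).stalkMap (c.π.app j p) (((D.obj i).presheaf.stalkCongr
          (.of_eq (map_apply φ p).symm)).hom b') := by
  obtain ⟨U, hpU, r, rfl⟩ := (D.obj i).presheaf.exists_germ_eq b
  obtain ⟨U', hpU', r', rfl⟩ := (D.obj i).presheaf.exists_germ_eq b'
  rw [Scheme.Hom.germ_stalkMap_apply, Scheme.Hom.germ_stalkMap_apply] at h
  obtain ⟨W, hpW, hWU, hWU', hW⟩ := c.pt.presheaf.germ_eq p _ _ _ _ h
  obtain ⟨_, ⟨k₀, V₀, hV₀, rfl⟩, hpV₀, hV₀W⟩ :=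
    TopologicalSpace.Opens.isBasis_iff_nbhd.mp (isBasis_preimage_isAffineOpen D c hc) hpW
  let k := IsCofiltered.min i k₀
  let φ : k ⟶ i := IsCofiltered.minToLeft i k₀
  let ψ : k ⟶ k₀ := IsCofiltered.minToRight i k₀
  obtain ⟨_, ⟨V, hV, rfl⟩, hpV, hV'⟩ := (D.obj k).isBasis_affineOpens.exists_subset_of_mem_open
    (show c.π.app k p ∈ (D.map φ ⁻¹ᵁ (U ⊓ U') ⊓ D.map ψ ⁻¹ᵁ V₀ : (D.obj k).Opens) from
      ⟨show D.map φ (c.π.app k p) ∈ U ⊓ U' by rw [map_apply φ p]; exact ⟨hpU, hpU'⟩,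
        show D.map ψ (c.π.app k p) ∈ V₀ by rw [map_apply ψ p]; exact hpV₀⟩)
    (D.map φ ⁻¹ᵁ (U ⊓ U') ⊓ D.map ψ ⁻¹ᵁ V₀).2
  have hVU : V ≤ D.map φ ⁻¹ᵁ U := fun x hx => (hV' hx).1.1
  have hVU' : V ≤ D.map φ ⁻¹ᵁ U' := fun x hx => (hV' hx).1.2
  have hVW : c.π.app k ⁻¹ᵁ V ≤ W := fun x hx => hV₀W (by
    have := (hV' hx).2
    change D.map ψ (c.π.app k x) ∈ V₀ at this
    rwa [map_apply ψ x] at this)
  have key : (c.π.app k).app V ((D.map φ).appLE U V hVU r) =
      (c.π.app k).app V ((D.map φ).appLE U' V hVU' r') := by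
    simp only [← ConcreteCategory.comp_apply, Scheme.Hom.app_eq_appLE, Scheme.Hom.appLE_comp_appLE,
      c.w]
    have := congr(c.pt.presheaf.map (homOfLE hVW).op $hW)
    simp only [← ConcreteCategory.comp_apply, Category.assoc, ← Functor.map_comp,
      Scheme.Hom.app_eq_appLE, Scheme.Hom.appLE_map, Scheme.Hom.appLE_map_assoc] at this
    erw [← ConcreteCategory.comp_apply, ← ConcreteCategory.comp_apply, Scheme.Hom.appLE_map,
      Scheme.Hom.appLE_map] at this
    exact this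
  obtain ⟨j, χ, hχ⟩ := exists_app_map_eq_map_of_isLimit D c hc hV.isCompact _ _ key
  refine ⟨j, χ ≫ φ, ?_⟩
  have hpj : c.π.app j p ∈ D.map χ ⁻¹ᵁ V := show D.map χ (c.π.app j p) ∈ V by
    rw [map_apply χ p]; exact hpV
  have aux : ∀ (U : (D.obj i).Opens) (hpU : c.π.app i p ∈ U) (hVU : V ≤ D.map φ ⁻¹ᵁ U) (r : Γ(D.obj i, U)),
      (D.map (χ ≫ φ)).stalkMap (c.π.app j p) (((D.obj i).presheaf.stalkCongr
          (.of_eq (map_apply (χ ≫ φ) p).symm)).hom ((D.obj i).presheaf.germ U _ hpU r)) =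
        (D.obj j).presheaf.germ _ _ hpj ((D.map χ).app V ((D.map φ).appLE U V hVU r)) := by
    intro U hpU hVU r
    have e : D.map χ ⁻¹ᵁ V ≤ D.map (χ ≫ φ) ⁻¹ᵁ U := by
      rw [D.map_comp, Scheme.Hom.comp_preimage]
      exact Scheme.Hom.preimage_mono _ hVU
    simp only [TopCat.Presheaf.stalkCongr_hom, TopCat.Presheaf.germ_stalkSpecializes_apply,
      Scheme.Hom.germ_stalkMap_apply]
    rw [← TopCat.Presheaf.germ_res_apply (D.obj j).presheaf (homOfLE e) _ hpj]
    congr 1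
    simp only [← ConcreteCategory.comp_apply, Scheme.Hom.app_eq_appLE, Scheme.Hom.appLE_comp_appLE,
      Scheme.Hom.appLE_map, D.map_comp]
  rw [aux U hpU hVU r, aux U' hpU' hVU' r', hχ]

/-- Every element of a residue field of the limit comes from some stage. -/
theorem exists_residueFieldMap_eq (hc : IsLimit c) (p : c.pt) (a : c.pt.residueField p) :
    ∃ (j : I) (b : (D.obj j).residueField (c.π.app j p)), (c.π.app j).residueFieldMap p b = a := by
  obtain ⟨a, rfl⟩ := c.pt.residue_surjective p a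
  obtain ⟨j, b, rfl⟩ := exists_stalkMap_eq hc p a
  refine ⟨j, (D.obj j).residue _ b, ?_⟩
  rw [← ConcreteCategory.comp_apply, Scheme.residue_residueFieldMap, ConcreteCategory.comp_apply]
  rfl

end Groth.L19.Limit
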