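import Groth.Agent.L19.Limit.CC
import Groth.Agent.L19.Limit.BaseChange
import Groth.Agent.L19.Limit.Stalk
import Groth.Agent.L06.SpectralLimit

/-!
# Constructible sets in cofiltered limits of schemes
-/

universe u

open CategoryTheory CategoryTheory.Limits AlgebraicGeometry Topology

namespace Groth.L19.Limit

set_option backward.isDefEq.respectTransparency.types false
set_option backward.isDefEq.respectTransparency false
set_option backward.defeqAttrib.useBackward true

local notation "cons" => constructibleTopology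

variable {I : Type u} [Category.{u} I] [IsCofiltered I] {D : I ⥤ Scheme.{u}} {c : Cone D}
  [∀ {i j} (f : i ⟶ j), IsAffineHom (D.map f)]

theorem exists_mem_of_cc_of_isAffine [∀ i, IsAffine (D.obj i)] (hc : IsLimit c)
    (Z : ∀ j, Set (D.obj j)) (hZ : ∀ j, CC (Z j)) (hne : ∀ j, (Z j).Nonempty)
    (hmap : ∀ ⦃j k : I⦄ (a : j ⟶ k), Set.MapsTo (D.map a) (Z j) (Z k)) :
    ∃ s : c.pt, ∀ j, c.π.app j s ∈ Z j := by
  obtain ⟨x, hx, hxZ⟩ := Groth.L06.Spectral.exists_section (D ⋙ Scheme.forgetToTop)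
    (fun j => spectralSpace_of_isAffine (D.obj j)) (fun {i j} a => (D.map a).isSpectralMap)
    Z (fun j => (hZ j).isClosed_of_isAffine) (fun O k T => by
      obtain ⟨z, hz⟩ := hne k
      exact ⟨z, fun j hj => hmap (T j hj) hz⟩)
  obtain ⟨s, hs⟩ := exists_apply_eq hc x (fun j k a => hx a)
  exact ⟨s, fun j => by rw [hs j]; exact hxZ j⟩

theorem apply_comm {A B B' C : Scheme.{u}} {f : A ⟶ B} {g : B ⟶ C} {f' : A ⟶ B'} {g' : B' ⟶ C}
    (h : f ≫ g = f' ≫ g') (x : A) : g (f x) = g' (f' x) := by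
  rw [← Scheme.Hom.comp_apply, ← Scheme.Hom.comp_apply, h]

/-- A compatible system of nonempty constructibly closed subsets over a quasi-compact stage has
a point of the limit lying over all of them. -/
theorem exists_mem_of_cc (hc : IsLimit c) {i : I} [CompactSpace (D.obj i)]
    (Z : ∀ j, (j ⟶ i) → Set (D.obj j)) (hZ : ∀ j φ, CC (Z j φ))
    (hne : ∀ j φ, (Z j φ).Nonempty)
    (hmap : ∀ ⦃j k : I⦄ (a : j ⟶ k) (φ : k ⟶ i), Set.MapsTo (D.map a) (Z j (a ≫ φ)) (Z k φ)) :
    ∃ s : c.pt, ∀ j φ, c.π.app j s ∈ Z j φ := by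
  classical
  let 𝒰 := (D.obj i).affineCover.finiteSubcover
  obtain ⟨k, hk⟩ : ∃ k : 𝒰.I₀, ∀ (j : I) (φ : j ⟶ i),
      (Z j φ ∩ D.map φ ⁻¹' Set.range (𝒰.f k)).Nonempty := by
    by_contra! H
    choose j φ hφ using H
    obtain ⟨l, ψ, χ, hχ⟩ := IsCofiltered.wideCospan φ
    obtain ⟨z, hz⟩ := hne l ψ
    obtain ⟨k, w, hw⟩ := 𝒰.exists_eq (D.map ψ z)
    refine (Set.eq_empty_iff_forall_notMem.mp (hφ k)) (D.map (χ k) z) ⟨?_, w, ?_⟩
    · exact hmap (χ k) (φ k) (by rw [hχ k]; exact hz)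
    · rw [hw, ← Scheme.Hom.comp_apply, ← D.map_comp, hχ k]
  let U : (D.obj i).Opens := (𝒰.f k).opensRange
  have hU : IsAffineOpen U := by
    haveI : IsAffine (𝒰.X k) := inferInstanceAs (IsAffine (Spec _))
    exact isAffineOpen_opensRange _
  haveI : ∀ j, IsAffine ((opensDiagram D i U).obj j) := fun j => hU.preimage _
  obtain ⟨s, hs⟩ := exists_mem_of_cc_of_isAffine (isLimitOpensCone D c hc i U)
    (fun j => ((opensDiagramι D i U).app j) ⁻¹' Z j.left j.hom)
    (fun j => (hZ _ _).preimage _) (fun j => by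
      obtain ⟨z, hz, hzU⟩ := hk j.left j.hom
      exact ⟨⟨z, hzU⟩, hz⟩)
    (fun j j' a z hz => by
      have h := hmap a.left j'.hom (x := (opensDiagramι D i U).app j z) (by rw [Over.w a]; exact hz)
      have e : (opensDiagramι D i U).app j' ((opensDiagram D i U).map a z) =
          D.map a.left ((opensDiagramι D i U).app j z) :=
        apply_comm ((opensDiagramι D i U).naturality a) z
      change (opensDiagramι D i U).app j' ((opensDiagram D i U).map a z) ∈ Z j'.left j'.hom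
      rw [e]
      exact h)
  refine ⟨(c.π.app i ⁻¹ᵁ U).ι s, fun j φ => ?_⟩
  have := hs (Over.mk φ)
  change (opensDiagramι D i U).app (Over.mk φ) ((opensCone D c i U).π.app (Over.mk φ) s) ∈ Z j φ at this
  have e : (opensDiagramι D i U).app (Over.mk φ) ((opensCone D c i U).π.app (Over.mk φ) s) =
      c.π.app j ((c.π.app i ⁻¹ᵁ U).ι s) :=
    apply_comm (show (opensCone D c i U).π.app (Over.mk φ) ≫ (opensDiagramι D i U).app (Over.mk φ) =
      (c.π.app i ⁻¹ᵁ U).ι ≫ c.π.app j by simp [opensCone, opensDiagramι]) s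
  rwa [e] at this

/-- A constructibly closed subset of a quasi-compact stage with empty preimage in the limit has
empty preimage at some stage. -/
theorem exists_preimage_eq_empty (hc : IsLimit c) {i : I} [CompactSpace (D.obj i)]
    {C : Set (D.obj i)} (hC : CC C) (h : c.π.app i ⁻¹' C = ∅) :
    ∃ (j : I) (φ : j ⟶ i), D.map φ ⁻¹' C = ∅ := by
  by_contra! hne
  obtain ⟨s, hs⟩ := exists_mem_of_cc hc (fun j φ => D.map φ ⁻¹' C) (fun j φ => hC.preimage _) hne
    (fun j k a φ z hz => by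
      rwa [Set.mem_preimage, ← Scheme.Hom.comp_apply, ← D.map_comp])
  have := hs i (𝟙 i)
  rw [Set.mem_preimage, map_apply (𝟙 i) s] at this
  exact (Set.eq_empty_iff_forall_notMem.mp h s) this

omit [IsCofiltered I] [∀ {i j} (f : i ⟶ j), IsAffineHom (D.map f)] in
theorem preimage_preimage_map {i j : I} (φ : j ⟶ i) (S : Set (D.obj i)) :
    c.π.app j ⁻¹' (D.map φ ⁻¹' S) = c.π.app i ⁻¹' S := by
  ext s
  simp only [Set.mem_preimage, map_apply φ s]

omit [IsCofiltered I] [∀ {i j} (f : i ⟶ j), IsAffineHom (D.map f)] in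
theorem preimage_map_comp {i j k : I} (a : k ⟶ j) (φ : j ⟶ i) (S : Set (D.obj i)) :
    D.map a ⁻¹' (D.map φ ⁻¹' S) = D.map (a ≫ φ) ⁻¹' S := by
  ext s
  simp only [Set.mem_preimage, ← Scheme.Hom.comp_apply, ← D.map_comp]

theorem exists_preimage_subset (hc : IsLimit c) {i : I} [CompactSpace (D.obj i)]
    {A B : Set (D.obj i)} (hA : CC A) (hB : CC Bᶜ) (h : c.π.app i ⁻¹' A ⊆ c.π.app i ⁻¹' B) :
    ∃ (j : I) (φ : j ⟶ i), D.map φ ⁻¹' A ⊆ D.map φ ⁻¹' B := by
  obtain ⟨j, φ, hφ⟩ := exists_preimage_eq_empty hc (hA.inter hB)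
    (Set.eq_empty_iff_forall_notMem.mpr fun s hs => hs.2 (h hs.1))
  refine ⟨j, φ, fun z hz => by_contra fun hz' => ?_⟩
  exact Set.eq_empty_iff_forall_notMem.mp hφ z ⟨hz, hz'⟩

theorem exists_preimage_eq_preimage (hc : IsLimit c) {i : I} [CompactSpace (D.obj i)]
    {A B : Set (D.obj i)} (hA : IsLocallyConstructible A) (hB : IsLocallyConstructible B)
    (h : c.π.app i ⁻¹' A = c.π.app i ⁻¹' B) :
    ∃ (j : I) (φ : j ⟶ i), D.map φ ⁻¹' A = D.map φ ⁻¹' B := by
  obtain ⟨j, φ, h1⟩ := exists_preimage_subset hc (cc_of_isLocallyConstructible hA)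
    (cc_compl_of_isLocallyConstructible hB) h.le
  obtain ⟨j', φ', h2⟩ := exists_preimage_subset hc (cc_of_isLocallyConstructible hB)
    (cc_compl_of_isLocallyConstructible hA) h.ge
  obtain ⟨k, a, a', e⟩ := IsCofiltered.cospan φ φ'
  refine ⟨k, a ≫ φ, Set.Subset.antisymm ?_ ?_⟩
  · rw [← preimage_map_comp, ← preimage_map_comp]
    exact Set.preimage_mono h1
  · rw [e, ← preimage_map_comp, ← preimage_map_comp]
    exact Set.preimage_mono h2

end Groth.L19.Limit
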