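import Mathlib.AlgebraicGeometry.AffineTransitionLimit
import Mathlib.AlgebraicGeometry.RelativeGluing
import Mathlib.AlgebraicGeometry.AffineScheme

/-!
# Existence of cofiltered limits with affine transition maps
-/

universe u

open CategoryTheory CategoryTheory.Limits AlgebraicGeometry

namespace Groth.L19.Limit

set_option backward.isDefEq.respectTransparency.types false
set_option backward.isDefEq.respectTransparency false
set_option backward.defeqAttrib.useBackward true
set_option linter.style.haveILetI false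

/-- A diagram of affine schemes has a limit. -/
theorem hasLimit_of_isAffine {J : Type u} [Category.{u} J] (F : J ⥤ Scheme.{u})
    [∀ j, IsAffine (F.obj j)] : HasLimit F := by
  haveI : PreservesLimitsOfSize.{u, u} Scheme.Spec.{u} := ΓSpec.adjunction.rightAdjoint_preservesLimits
  let G : J ⥤ CommRingCat.{u}ᵒᵖ := F ⋙ Scheme.Γ.rightOp
  haveI : HasLimit G := inferInstance
  haveI : HasLimit (G ⋙ Scheme.Spec) :=
    ⟨⟨⟨Scheme.Spec.mapCone (limit.cone G), isLimitOfPreserves Scheme.Spec (limit.isLimit G)⟩⟩⟩
  exact hasLimit_of_iso (NatIso.ofComponents (fun j => (F.obj j).isoSpec.symm) (fun {i j} f => by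
    exact Scheme.isoSpec_inv_naturality (F.map f)) : G ⋙ Scheme.Spec ≅ F)

variable {I : Type u} [Category.{u} I] (D : I ⥤ Scheme.{u}) (i : I)
  [∀ {i j} (f : i ⟶ j), IsAffineHom (D.map f)]

instance hasLimit_opensDiagram (U : (D.obj i).affineOpens) : HasLimit (opensDiagram D i U.1) :=
  haveI : ∀ j, IsAffine ((opensDiagram D i U.1).obj j) := fun j => U.2.preimage (D.map j.hom)
  hasLimit_of_isAffine _

/-- The transition from the part over `U` to the part over `V`. -/
noncomputable def restrictTrans {U V : (D.obj i).Opens} (h : U ≤ V) :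
    opensDiagram D i U ⟶ opensDiagram D i V where
  app j := (D.obj j.left).homOfLE ((D.map j.hom).preimage_mono h)
  naturality j k f := by
    rw [← cancel_mono (D.map k.hom ⁻¹ᵁ V).ι]
    simp [opensDiagram]

/-- The limit part over `U`, mapping to `U`. -/
noncomputable def partToBase (U : (D.obj i).affineOpens) :
    limit (opensDiagram D i U.1) ⟶ U.1.toScheme :=
  limit.π (opensDiagram D i U.1) (Over.mk (𝟙 i)) ≫
    (D.map (𝟙 i)).resLE U.1 (D.map (𝟙 i) ⁻¹ᵁ U.1) le_rfl

theorem partToBase_ι (U : (D.obj i).affineOpens) (j : Over i) :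
    partToBase D i U ≫ U.1.ι =
      limit.π (opensDiagram D i U.1) j ≫ (D.map j.hom ⁻¹ᵁ U.1).ι ≫ D.map j.hom := by
  have e := (limit.w (opensDiagram D i U.1)
    (Over.homMk j.hom (by simp) : j ⟶ Over.mk (𝟙 i))).symm
  simp only [partToBase]
  rw [e]
  simp [opensDiagram]

/-- The functor of parts. -/
noncomputable def parts : (D.obj i).affineOpens ⥤ Scheme.{u} where
  obj U := limit (opensDiagram D i U.1)
  map {U V} h := limMap (restrictTrans D i (show U.1 ≤ V.1 from h.le))
  map_id U := by
    apply limit.hom_ext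
    intro j
    simp [restrictTrans]
  map_comp {U V W} f g := by
    apply limit.hom_ext
    intro j
    simp [restrictTrans]

theorem isPullback_parts {U V : (D.obj i).affineOpens} (h : U ⟶ V) :
    IsPullback ((parts D i).map h) (partToBase D i U) (partToBase D i V)
      ((D.obj i).homOfLE (show U.1 ≤ V.1 from h.le)) := by
  have hle : U.1 ≤ V.1 := h.le
  have w : (parts D i).map h ≫ partToBase D i V = partToBase D i U ≫ (D.obj i).homOfLE hle := by
    rw [← cancel_mono V.1.ι, Category.assoc, Category.assoc, Scheme.homOfLE_ι,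
      partToBase_ι D i U (Over.mk (𝟙 i)), partToBase_ι D i V (Over.mk (𝟙 i))]
    simp [parts, restrictTrans]
  have key : ∀ (s : PullbackCone (partToBase D i V) ((D.obj i).homOfLE hle)) (j : Over i),
      Set.range (s.fst ≫ limit.π (opensDiagram D i V.1) j ≫ (D.map j.hom ⁻¹ᵁ V.1).ι) ⊆
        Set.range (D.map j.hom ⁻¹ᵁ U.1).ι := by
    intro s j
    rw [Scheme.Opens.range_ι]
    rintro _ ⟨x, rfl⟩
    show D.map j.hom _ ∈ U.1
    rw [← Scheme.Hom.comp_apply, Category.assoc, Category.assoc, ← partToBase_ι D i V j,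
      s.condition_assoc, Scheme.homOfLE_ι, Scheme.Hom.comp_apply]
    exact (s.snd x).2
  let app : ∀ (s : PullbackCone (partToBase D i V) ((D.obj i).homOfLE hle)) (j : Over i),
      s.pt ⟶ (opensDiagram D i U.1).obj j := fun s j =>
    IsOpenImmersion.lift (D.map j.hom ⁻¹ᵁ U.1).ι _ (key s j)
  have happ : ∀ s j, app s j ≫ (D.map j.hom ⁻¹ᵁ U.1).ι =
      s.fst ≫ limit.π (opensDiagram D i V.1) j ≫ (D.map j.hom ⁻¹ᵁ V.1).ι := fun s j =>
    IsOpenImmersion.lift_fac _ _ _
  let cone : ∀ s : PullbackCone (partToBase D i V) ((D.obj i).homOfLE hle),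
      Cone (opensDiagram D i U.1) := fun s =>
    { pt := s.pt
      π :=
        { app := app s
          naturality := fun j k f => by
            dsimp
            rw [Category.id_comp, ← cancel_mono (D.map k.hom ⁻¹ᵁ U.1).ι, happ, Category.assoc,
              Scheme.Hom.resLE_comp_ι, reassoc_of% (happ s j),
              ← limit.w (opensDiagram D i V.1) f]
            simp [opensDiagram] } }
  refine ⟨⟨w⟩, ⟨PullbackCone.IsLimit.mk _ (fun s => limit.lift _ (cone s)) (fun s => ?_)
    (fun s => ?_) (fun s m h1 h2 => ?_)⟩⟩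
  · apply limit.hom_ext
    intro j
    rw [← cancel_mono (D.map j.hom ⁻¹ᵁ V.1).ι]
    simp [parts, restrictTrans, cone, happ s j]
  · rw [← cancel_mono U.1.ι, Category.assoc, partToBase_ι D i U (Over.mk (𝟙 i)),
      limit.lift_π_assoc, reassoc_of% (happ s (Over.mk (𝟙 i))),
      ← partToBase_ι D i V (Over.mk (𝟙 i)), s.condition_assoc, Scheme.homOfLE_ι]
  · apply limit.hom_ext
    intro j
    rw [← cancel_mono (D.map j.hom ⁻¹ᵁ U.1).ι, limit.lift_π]
    show (m ≫ limit.π _ j) ≫ _ = app s j ≫ _
    rw [happ, ← h1]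
    simp [parts, restrictTrans]

/-- The gluing datum of the parts. -/
noncomputable def partsData :
    Scheme.Cover.RelativeGluingData (D.obj i).directedAffineCover where
  functor := parts D i
  natTrans :=
    { app := fun U => partToBase D i U
      naturality := fun U V h => (isPullback_parts D i h).w }
  equifibered := fun {U V} h => isPullback_parts D i h

/-- The glued limit. -/
noncomputable abbrev glued : Scheme.{u} := (partsData D i).glued

/-- The inclusion of the part over `U`. -/
noncomputable def gluedι (U : (D.obj i).affineOpens) :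
    limit (opensDiagram D i U.1) ⟶ glued D i :=
  colimit.ι (partsData D i).functor U

/-- The projections of the glued limit. -/
noncomputable def gluedπ (j : Over i) : glued D i ⟶ D.obj j.left :=
  colimit.desc (partsData D i).functor
    { pt := D.obj j.left
      ι :=
        { app := fun U => limit.π (opensDiagram D i U.1) j ≫ (D.map j.hom ⁻¹ᵁ U.1).ι
          naturality := fun U V h => by simp [partsData, parts, restrictTrans] } }

theorem gluedι_π (U : (D.obj i).affineOpens) (j : Over i) :
    gluedι D i U ≫ gluedπ D i j = limit.π (opensDiagram D i U.1) j ≫ (D.map j.hom ⁻¹ᵁ U.1).ι :=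
  colimit.ι_desc _ _

theorem gluedι_toBase (U : (D.obj i).affineOpens) :
    gluedι D i U ≫ (partsData D i).toBase = partToBase D i U ≫ U.1.ι :=
  (partsData D i).ι_toBase U

theorem toBase_eq (j : Over i) : (partsData D i).toBase = gluedπ D i j ≫ D.map j.hom := by
  refine colimit.hom_ext fun U => ?_
  show gluedι D i U ≫ _ = gluedι D i U ≫ _
  rw [gluedι_toBase, partToBase_ι D i U j, reassoc_of% gluedι_π D i U j]

theorem gluedπ_naturality {j k : Over i} (f : j ⟶ k) :
    gluedπ D i j ≫ D.map f.left = gluedπ D i k := by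
  refine colimit.hom_ext fun U => ?_
  show gluedι D i U ≫ _ = gluedι D i U ≫ _
  rw [reassoc_of% gluedι_π D i U j, gluedι_π D i U k, ← limit.w (opensDiagram D i U.1) f]
  simp [opensDiagram]

theorem glued_hom_ext {T : Scheme.{u}} {g g' : T ⟶ glued D i}
    (h : ∀ j, g ≫ gluedπ D i j = g' ≫ gluedπ D i j) : g = g' := by
  have hb : g ≫ (partsData D i).toBase = g' ≫ (partsData D i).toBase := by
    rw [toBase_eq D i (Over.mk (𝟙 i))]
    exact (Category.assoc ..).symm.trans ((congrArg (· ≫ _) (h _)).trans (Category.assoc ..))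
  let 𝒱 : T.OpenCover := (D.obj i).directedAffineCover.pullback₁ (g ≫ (partsData D i).toBase)
  refine 𝒱.hom_ext _ _ fun U => ?_
  haveI : IsOpenImmersion (gluedι D i U) := inferInstanceAs (IsOpenImmersion ((partsData D i).cover.f U))
  have hr : ∀ m : T ⟶ glued D i, m ≫ (partsData D i).toBase = g ≫ (partsData D i).toBase →
      Set.range (𝒱.f U ≫ m) ⊆ Set.range (gluedι D i U) := by
    intro m hm
    rw [show Set.range (gluedι D i U) = (partsData D i).toBase ⁻¹' Set.range U.1.ι from
      ((partsData D i).preimage_toBase_eq_range_ι U).symm]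
    rintro _ ⟨x, rfl⟩
    refine ⟨pullback.snd (g ≫ (partsData D i).toBase) U.1.ι x, ?_⟩
    rw [← Scheme.Hom.comp_apply, ← Scheme.Hom.comp_apply, Category.assoc, hm]
    exact congrArg (fun n => n x) (pullback.condition (f := g ≫ (partsData D i).toBase) (g := U.1.ι)).symm
  have e1 := IsOpenImmersion.lift_fac (gluedι D i U) (𝒱.f U ≫ g) (hr g rfl)
  have e2 := IsOpenImmersion.lift_fac (gluedι D i U) (𝒱.f U ≫ g') (hr g' hb.symm)
  rw [← e1, ← e2]
  congr 1
  apply limit.hom_ext
  intro j
  rw [← cancel_mono (D.map j.hom ⁻¹ᵁ U.1).ι, Category.assoc, Category.assoc, ← gluedι_π,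
    reassoc_of% e1, reassoc_of% e2]
  exact congrArg (𝒱.f U ≫ ·) (h j)

theorem exists_lift (s : Cone (Over.forget i ⋙ D)) :
    ∃ l : s.pt ⟶ glued D i, ∀ j, l ≫ gluedπ D i j = s.π.app j := by
  let J : Over i := Over.mk (𝟙 i)
  let f : s.pt ⟶ D.obj i := s.π.app J
  have hf : ∀ j : Over i, s.π.app j ≫ D.map j.hom = f := fun j => by
    exact (s.w (Over.homMk j.hom (by simp [J]) : j ⟶ J))
  let 𝒱 : s.pt.OpenCover := (D.obj i).directedAffineCover.pullback₁ f
  have hr : ∀ (U : (D.obj i).affineOpens) (j : Over i),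
      Set.range (𝒱.f U ≫ s.π.app j) ⊆ Set.range (D.map j.hom ⁻¹ᵁ U.1).ι := by
    intro U j
    rw [Scheme.Opens.range_ι]
    rintro _ ⟨x, rfl⟩
    show D.map j.hom _ ∈ U.1
    rw [show D.map j.hom ((𝒱.f U ≫ s.π.app j) x) = (pullback.fst f U.1.ι ≫ f) x from
      (Scheme.Hom.comp_apply (𝒱.f U ≫ s.π.app j) (D.map j.hom) x).symm.trans
        (congrArg (fun n : 𝒱.X U ⟶ D.obj i => n x) ((Category.assoc ..).trans (congrArg _ (hf j))))]
    have e := congrArg (fun n => n x) (pullback.condition (f := f) (g := U.1.ι))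
    exact Eq.mpr (congrArg (· ∈ U.1) e) (pullback.snd f U.1.ι x).2
  let cU : ∀ U : (D.obj i).affineOpens, Cone (opensDiagram D i U.1) := fun U =>
    { pt := 𝒱.X U
      π :=
        { app := fun j => IsOpenImmersion.lift (D.map j.hom ⁻¹ᵁ U.1).ι _ (hr U j)
          naturality := fun j k m => by
            dsimp
            rw [Category.id_comp, ← cancel_mono (D.map k.hom ⁻¹ᵁ U.1).ι]
            simp only [Category.assoc, IsOpenImmersion.lift_fac, Scheme.Hom.resLE_comp_ι,
              IsOpenImmersion.lift_fac_assoc]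
            rw [← s.w m]
            simp } }
  let l : ∀ U, 𝒱.X U ⟶ glued D i := fun U => limit.lift _ (cU U) ≫ gluedι D i U
  have hl : ∀ U j, l U ≫ gluedπ D i j = 𝒱.f U ≫ s.π.app j := fun U j => by
    rw [Category.assoc, gluedι_π, limit.lift_π_assoc]
    exact IsOpenImmersion.lift_fac _ _ _
  refine ⟨𝒱.glueMorphisms l fun U V => glued_hom_ext D i fun j => ?_, fun j => ?_⟩
  · refine (Category.assoc ..).trans (((congrArg _ (hl U j)).trans ?_).trans
      ((congrArg _ (hl V j)).symm.trans (Category.assoc ..).symm))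
    rw [pullback.condition_assoc]
  · exact 𝒱.hom_ext _ _ fun U => by rw [Scheme.Cover.ι_glueMorphisms_assoc, hl]

theorem hasLimit [IsCofiltered I] : HasLimit D := by
  obtain ⟨i⟩ := IsCofiltered.nonempty (C := I)
  haveI : HasLimit (Over.forget i ⋙ D) := ⟨⟨⟨
    { pt := glued D i
      π := { app := gluedπ D i
             naturality := fun j k f => by
              dsimp
              rw [Category.id_comp, gluedπ_naturality] } },
    { lift := fun s => (exists_lift D i s).choose
      fac := fun s j => (exists_lift D i s).choose_spec j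
      uniq := fun s m hm => glued_hom_ext D i fun j => by
        rw [(exists_lift D i s).choose_spec j]
        exact hm j }⟩⟩⟩
  exact Functor.Initial.hasLimit_of_comp (Over.forget i)

end Groth.L19.Limit
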