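import Groth.Agent.L19.Limit.RelAmpleCons
import Groth.Agent.L19.LimMod.Free
import Groth.Agent.L03.ShStab.RankOneSlope
import Groth.Agent.L18.LocFreeFP
import Groth.Agent.L18.NormModule
import Groth.Agent.L18.NormPre

/-!
# Existence of a relatively ample invertible module and field extensions
-/

set_option autoImplicit false
set_option linter.style.haveILetI false
set_option linter.unusedSectionVars false
set_option backward.isDefEq.respectTransparency false
set_option backward.isDefEq.respectTransparency.types false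
set_option backward.defeqAttrib.useBackward true

universe u

open CategoryTheory CategoryTheory.Limits AlgebraicGeometry TopologicalSpace Opposite

noncomputable section

namespace Groth.L19.Limit

open Groth.L18.Ample

section Bc

variable {X Y S T T' : Scheme.{u}} (f : X ⟶ Y) (g : Y ⟶ S)

/-- The morphism induced on base changes. -/
abbrev bcHom (t : T ⟶ S) : pullback (f ≫ g) t ⟶ pullback g t :=
  pullback.lift (pullback.fst (f ≫ g) t ≫ f) (pullback.snd (f ≫ g) t)
    ((Category.assoc _ _ _).trans pullback.condition)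

/-- The morphism of base changes given by a morphism of bases. -/
abbrev bcMap (σ : T' ⟶ T) (t : T ⟶ S) (t' : T' ⟶ S) (h : σ ≫ t = t') : pullback g t' ⟶ pullback g t :=
  pullback.lift (pullback.fst g t') (pullback.snd g t' ≫ σ) (by rw [Category.assoc, h]; exact pullback.condition)

theorem isPullback_bcMap (σ : T' ⟶ T) (t : T ⟶ S) (t' : T' ⟶ S) (h : σ ≫ t = t') :
    IsPullback (bcMap g σ t t' h) (pullback.snd g t') (pullback.snd g t) σ := by
  refine IsPullback.of_right ?_ (pullback.lift_snd _ _ _) (IsPullback.of_hasPullback g t)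
  rw [pullback.lift_fst, h]
  exact IsPullback.of_hasPullback g t'

theorem bcHom_isPullback (t : T ⟶ S) :
    IsPullback (pullback.fst (f ≫ g) t) (bcHom f g t) f (pullback.fst g t) := by
  refine IsPullback.of_bot ?_ (pullback.lift_fst _ _ _).symm (IsPullback.of_hasPullback g t)
  rw [pullback.lift_snd]
  exact IsPullback.of_hasPullback (f ≫ g) t

theorem isPullback_bcHom (σ : T' ⟶ T) (t : T ⟶ S) (t' : T' ⟶ S) (h : σ ≫ t = t') :
    IsPullback (bcMap (f ≫ g) σ t t' h) (bcHom f g t') (bcHom f g t) (bcMap g σ t t' h) := by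
  refine IsPullback.of_right ?_ ?_ (bcHom_isPullback f g t)
  · rw [pullback.lift_fst, pullback.lift_fst]
    exact bcHom_isPullback f g t'
  · apply pullback.hom_ext <;> simp

/-- There is an invertible module on the base change which is ample relative to the induced morphism. -/
def HasAmple (t : T ⟶ S) : Prop :=
  ∃ L : (pullback (f ≫ g) t).Modules, PicF.IsInvertible L ∧ RelAmple.IsRelAmple (bcHom f g t) L

theorem HasAmple.comp {t : T ⟶ S} (σ : T' ⟶ T) {t' : T' ⟶ S} (h : σ ≫ t = t') (H : HasAmple f g t) :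
    HasAmple f g t' :=
  let ⟨L, hL, hA⟩ := H
  ⟨_, isInvertible_pullback _ hL, isRelAmple_of_isPullback (isPullback_bcHom f g σ t t' h) hA⟩

theorem isRelAmple_comp_affine {Z : Scheme.{u}} (h : X ⟶ Z) (a : Z ⟶ Y) [IsAffineHom a] {L : X.Modules}
    (hL : RelAmple.IsRelAmple h L) : RelAmple.IsRelAmple (h ≫ a) L := by
  haveI := hL.1
  exact ⟨inferInstance, fun V => hL.2 ⟨a ⁻¹ᵁ V.1, V.2.preimage a⟩⟩

theorem HasAmple.of_finite_extension [QuasiCompact f] {k : Type u} [Field k] (t₀ : Spec (CommRingCat.of k) ⟶ S)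
    (k' : Type u) [Field k'] [Algebra k k'] [Module.Finite k k']
    (H : HasAmple f g (Spec.map (CommRingCat.ofHom (algebraMap k k')) ≫ t₀)) : HasAmple f g t₀ := by
  obtain ⟨L', hL', hA⟩ := H
  let u : Spec (CommRingCat.of k') ⟶ Spec (CommRingCat.of k) := Spec.map (CommRingCat.ofHom (algebraMap k k'))
  haveI : IsFinite u := by rw [IsFinite.SpecMap_iff]; exact RingHom.finite_algebraMap.mpr inferInstance
  haveI : Flat u := HasRingHomProperty.Spec_iff.mpr (RingHom.flat_algebraMap_iff.mpr inferInstance)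
  haveI : LocallyOfFinitePresentation u := HasRingHomProperty.Spec_iff.mpr
    (RingHom.finitePresentation_algebraMap.mpr (Algebra.FinitePresentation.of_finiteType.mp inferInstance))
  haveI : Surjective u := ⟨fun x => ⟨default, Subsingleton.elim _ _⟩⟩
  have sqY := isPullback_bcMap g u t₀ (u ≫ t₀) rfl
  have sqX := isPullback_bcHom f g u t₀ (u ≫ t₀) rfl
  let gY := bcMap g u t₀ (u ≫ t₀) rfl
  let gX := bcMap (f ≫ g) u t₀ (u ≫ t₀) rfl
  haveI : IsAffineHom gY := MorphismProperty.of_isPullback sqY.flip inferInstance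
  have sqX' := isPullback_bcMap (f ≫ g) u t₀ (u ≫ t₀) rfl
  haveI : IsFinite gX := MorphismProperty.of_isPullback sqX'.flip inferInstance
  haveI : Surjective gX := MorphismProperty.of_isPullback sqX'.flip inferInstance
  have hg : Mor2.IsFinLocFree gX := ⟨inferInstance, MorphismProperty.of_isPullback sqX'.flip inferInstance,
    MorphismProperty.of_isPullback sqX'.flip inferInstance⟩
  haveI : QuasiCompact (bcHom f g t₀) := MorphismProperty.of_isPullback (bcHom_isPullback f g t₀) inferInstance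
  have h2 : RelAmple.IsRelAmple (gX ≫ bcHom f g t₀) L' := by
    rw [sqX.w]
    exact isRelAmple_comp_affine _ gY hA
  obtain ⟨N⟩ := Groth.L18.NormFree.exists_preNorm_of_goodBases
    (Groth.L18.NormFree.exists_goodBasis (Groth.L19.FinLocPush.isFinLocFree_push gX hg).2)
  exact Groth.L18.NormDesc.exists_isRelAmple_of_preNorm (bcHom f g t₀) N h2 hL'

end Bc

variable {I : Type u} [SmallCategory I] [IsCofiltered I] {D : I ⥤ Scheme.{u}} {c : Cone D}
  [∀ (i j : I) (f : i ⟶ j), IsAffineHom (D.map f)] [∀ i, CompactSpace (D.obj i)]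
  [∀ i, QuasiSeparatedSpace (D.obj i)]

/-- An invertible module on the limit of a base change comes from a stage. -/
theorem exists_invertible_base (hc : IsLimit c) {X S : Scheme.{u}} (v : X ⟶ S) [QuasiCompact v]
    [QuasiSeparated v] (toS : ∀ i, D.obj i ⟶ S) (htoS : ∀ {i j} (φ : i ⟶ j), D.map φ ≫ toS j = toS i)
    (i₀ : I) (t : c.pt ⟶ S) (ht : ∀ i, c.π.app i ≫ toS i = t) (L : (pullback v t).Modules)
    (hL : PicF.IsInvertible L) :
    ∃ (j : I) (_ : j ⟶ i₀) (L₁ : (pullback v (toS j)).Modules), PicF.IsInvertible L₁ ∧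
      Nonempty ((Scheme.Modules.pullback (bcMap v (c.π.app j) (toS j) t (ht j))).obj L₁ ≅ L) := by
  let a : pullback v (toS i₀) ⟶ D.obj i₀ := pullback.snd v (toS i₀)
  haveI : QuasiCompact a := MorphismProperty.pullback_snd _ _ inferInstance
  haveI : QuasiSeparated a := MorphismProperty.pullback_snd _ _ inferInstance
  let D' := bcDiagram D a
  haveI hA : ∀ {x y : I} (φ : x ⟶ y), IsAffineHom (D.map φ) := fun φ => inferInstance
  haveI : ∀ j, CompactSpace (D'.obj j) := fun j =>
    haveI : QuasiCompact (pullback.fst (D.map j.hom) a) := MorphismProperty.pullback_fst _ _ inferInstance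
    QuasiCompact.compactSpace_of_compactSpace (pullback.fst (D.map j.hom) a)
  haveI : ∀ j, QuasiSeparatedSpace (D'.obj j) := fun j =>
    haveI : QuasiSeparated (pullback.fst (D.map j.hom) a) := MorphismProperty.pullback_fst _ _ inferInstance
    quasiSeparatedSpace_of_quasiSeparated (pullback.fst (D.map j.hom) a)
  haveI : ∀ (x y : Over i₀) (φ : x ⟶ y), IsAffineHom (D'.map φ) := fun x y φ => inferInstance
  have hsq := isPullback_bcMap v (c.π.app i₀) (toS i₀) t (ht i₀)
  have hc' := isLimitSqCone hc hsq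
  haveI : Coh.IsQCoh L := Groth.L21.Extend.isQCoh_of_isInvertible hL
  have h1 := Groth.L03.ShStab.RankOneSlope.rank_one_of_invertible hL
  obtain ⟨j, -, Fj, hFq, hFp, ⟨e⟩⟩ := Groth.L19.LimMod.exists_module D' (sqCone hsq) hc' (i := Over.mk (𝟙 i₀)) L
    (Groth.L18.LFP.isFP_of_isFinLocFree L fun x => by obtain ⟨U, hx, e⟩ := h1 x; exact ⟨U, 1, hx, e⟩)
  haveI := hFq
  obtain ⟨k, φ, hk⟩ := Groth.L19.LimMod.exists_locFree D' (sqCone hsq) hc' (i := j) hFp (fun n => n = 1)
    (fun x => by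
      obtain ⟨U, hxU, hU⟩ := h1 x
      exact ⟨U, 1, rfl, hxU, Groth.L19.LimMod.freeOn_of_iso e.symm hU⟩)
  let L₁ := (Scheme.Modules.pullback (D'.map φ)).obj Fj
  have hL₁ : PicF.IsInvertible L₁ := fun x => by
    obtain ⟨U, n, hn, hxU, ⟨eU⟩⟩ := hk x
    subst hn
    exact ⟨U, hxU, ⟨eU ≪≫ coproductUniqueIso (fun _ : Fin 1 => Coh.structureModule (↑U : Scheme.{u}))⟩⟩
  let ψ : pullback v (toS k.left) ⟶ D'.obj k :=
    pullback.lift (pullback.snd v (toS k.left))
      (bcMap v (D.map k.hom) (toS i₀) (toS k.left) (htoS k.hom)) (isPullback_bcMap v (D.map k.hom) (toS i₀) (toS k.left) (htoS k.hom)).w.symm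
  refine ⟨k.left, k.hom, _, isInvertible_pullback ψ hL₁, ⟨?_⟩⟩
  refine Groth.L19.LimMod.cmp (bcMap v (c.π.app k.left) (toS k.left) t (ht k.left)) ψ
    (r := toStage hsq k) ?_ L₁ ≪≫
      Groth.L19.LimMod.cmp ((sqCone hsq).π.app k) (D'.map φ) ((sqCone hsq).w φ) Fj ≪≫ e
  apply pullback.hom_ext
  · simp [ψ, toStage]
    exact (pullback.lift_fst _ _ _).symm
  · apply pullback.hom_ext <;> simp [ψ, toStage, a]

/-- A relatively ample invertible module on the limit gives one at a stage. -/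
theorem exists_stage_hasAmple (hc : IsLimit c) {X Y S : Scheme.{u}} (f : X ⟶ Y) (g : Y ⟶ S)
    [QuasiCompact g] [QuasiSeparated g] [QuasiCompact f] [QuasiSeparated f]
    (toS : ∀ i, D.obj i ⟶ S) (htoS : ∀ {i j} (φ : i ⟶ j), D.map φ ≫ toS j = toS i)
    (i₀ : I) (t : c.pt ⟶ S) (ht : ∀ i, c.π.app i ≫ toS i = t) (h : HasAmple f g t) :
    ∃ (j : I) (_ : j ⟶ i₀), HasAmple f g (toS j) := by
  haveI hA : ∀ {x y : I} (φ : x ⟶ y), IsAffineHom (D.map φ) := fun φ => inferInstance
  obtain ⟨L, hL, hamp⟩ := h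
  obtain ⟨i₁, φ₁, L₁, hL₁, ⟨e⟩⟩ := exists_invertible_base hc (f ≫ g) toS htoS i₀ t ht L hL
  let g₀ : pullback g (toS i₁) ⟶ D.obj i₁ := pullback.snd g (toS i₁)
  let f₀ : pullback (f ≫ g) (toS i₁) ⟶ pullback g (toS i₁) := bcHom f g (toS i₁)
  haveI : QuasiCompact g₀ := MorphismProperty.pullback_snd _ _ inferInstance
  haveI : CompactSpace ↥(pullback g (toS i₁)) := QuasiCompact.compactSpace_of_compactSpace g₀
  haveI : QuasiCompact f₀ := MorphismProperty.of_isPullback (bcHom_isPullback f g (toS i₁)) inferInstance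
  haveI : QuasiSeparated f₀ := MorphismProperty.of_isPullback (bcHom_isPullback f g (toS i₁)) inferInstance
  have hamp' : RelAmple.IsRelAmple (bcHom f g t)
      ((Scheme.Modules.pullback (bcMap (f ≫ g) (c.π.app i₁) (toS i₁) t (ht i₁))).obj L₁) :=
    ⟨hamp.1, fun V => isAmple_of_iso ((Scheme.Modules.restrictFunctor _).mapIso e.symm) (hamp.2 V)⟩
  obtain ⟨j, φ, Xj, Yj, fj, gj, pY, pX, h1, h2, hj⟩ := exists_stage_isRelAmple hc f₀ g₀ L₁ hL₁
    (isPullback_bcMap g (c.π.app i₁) (toS i₁) t (ht i₁))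
    (isPullback_bcHom f g (c.π.app i₁) (toS i₁) t (ht i₁)) hamp'
  have hY := isPullback_bcMap g (D.map φ) (toS i₁) (toS j) (htoS φ)
  let s := h1.lift (bcMap g (D.map φ) (toS i₁) (toS j) (htoS φ)) (pullback.snd g (toS j)) hY.w
  have hs : s ≫ pY = bcMap g (D.map φ) (toS i₁) (toS j) (htoS φ) := h1.lift_fst _ _ _
  have hX : IsPullback (bcMap (f ≫ g) (D.map φ) (toS i₁) (toS j) (htoS φ)) (bcHom f g (toS j)) f₀ (s ≫ pY) := by
    rw [hs]; exact isPullback_bcHom f g (D.map φ) (toS i₁) (toS j) (htoS φ)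
  let r := h2.lift (bcMap (f ≫ g) (D.map φ) (toS i₁) (toS j) (htoS φ)) (bcHom f g (toS j) ≫ s)
    (by rw [Category.assoc]; exact hX.w)
  have hr : r ≫ pX = bcMap (f ≫ g) (D.map φ) (toS i₁) (toS j) (htoS φ) := h2.lift_fst _ _ _
  exact ⟨j, φ ≫ φ₁, _, isInvertible_pullback r (isInvertible_pullback pX hL₁),
    isRelAmple_of_isPullback (IsPullback.of_right (by rw [hr]; exact hX) (h2.lift_snd _ _ _) h2) hj⟩

theorem HasAmple.of_fieldExtension {X Y S : Scheme.{u}} {f : X ⟶ Y} {g : Y ⟶ S}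
    [QuasiCompact g] [QuasiSeparated g] [QuasiCompact f] [QuasiSeparated f]
    {k : Type u} [Field k] (t₀ : Spec (CommRingCat.of k) ⟶ S) (K : Type u) [Field K] [Algebra k K]
    (H : HasAmple f g (Spec.map (CommRingCat.ofHom (algebraMap k K)) ≫ t₀)) : HasAmple f g t₀ := by
  haveI : ∀ i, CompactSpace ((L02.ConsP.FGA.specDiagram k K).obj i) := fun i =>
    inferInstanceAs (CompactSpace (Spec _))
  haveI : ∀ i, QuasiSeparatedSpace ((L02.ConsP.FGA.specDiagram k K).obj i) := fun i =>
    inferInstanceAs (QuasiSeparatedSpace (Spec _))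
  obtain ⟨j, -, hj⟩ := exists_stage_hasAmple (D := L02.ConsP.FGA.specDiagram k K)
    (c := L02.ConsP.FGA.specCone k K) (L02.ConsP.FGA.isLimitSpecCone k K) f g
    (fun i => Spec.map (CommRingCat.ofHom (algebraMap k i.unop.1)) ≫ t₀)
    (fun φ => by show Spec.map _ ≫ Spec.map _ ≫ _ = _; rw [← Category.assoc, ← Spec.map_comp]; rfl)
    (op ⟨⊥, Subalgebra.fg_bot⟩) _
    (fun i => by show Spec.map _ ≫ Spec.map _ ≫ _ = _; rw [← Category.assoc, ← Spec.map_comp]; rfl) H
  let A := j.unop.1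
  haveI : Algebra.FiniteType k A := (Subalgebra.fg_iff_finiteType _).mp j.unop.2
  obtain ⟨n, hn⟩ := Ideal.exists_maximal A
  letI : Field (A ⧸ n) := Ideal.Quotient.field n
  haveI : Algebra.FiniteType k (A ⧸ n) :=
    Algebra.FiniteType.of_surjective (Ideal.Quotient.mkₐ k n) Ideal.Quotient.mk_surjective
  haveI : Module.Finite k (A ⧸ n) := finite_of_finite_type_of_isJacobsonRing k (A ⧸ n)
  exact HasAmple.of_finite_extension f g t₀ (A ⧸ n)
    (hj.comp f g (Spec.map (CommRingCat.ofHom (Ideal.Quotient.mk n)))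
      (by rw [← Category.assoc, ← Spec.map_comp]; rfl))

end Groth.L19.Limit
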