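import Mathlib.AlgebraicGeometry.AffineTransitionLimit
import Mathlib.AlgebraicGeometry.PullbackCarrier
import Mathlib.CategoryTheory.Limits.Shapes.Pullback.Connected
import Mathlib.CategoryTheory.Limits.Constructions.Over.Connected

/-!
# Base change of a scheme over a base along a cofiltered system of schemes over the base
-/

set_option autoImplicit false

universe u

open CategoryTheory CategoryTheory.Limits AlgebraicGeometry

namespace Groth.L19.Limit

set_option backward.isDefEq.respectTransparency.types false
set_option backward.isDefEq.respectTransparency false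
set_option backward.defeqAttrib.useBackward true

noncomputable section

variable {I : Type u} [Category.{u} I] {D : I ⥤ Scheme.{u}} {c : Cone D} {X S : Scheme.{u}} (p : X ⟶ S)
  (t : ∀ i, D.obj i ⟶ S) (ht : ∀ {i j : I} (φ : i ⟶ j), D.map φ ≫ t j = t i)

/-- The system `X ×[S] D i`. -/
def baseDiagram : I ⥤ Scheme.{u} where
  obj i := pullback p (t i)
  map {i j} φ := pullback.map _ _ _ _ (𝟙 X) (D.map φ) (𝟙 S) (by simp) (by rw [Category.comp_id, ht])
  map_id i := by apply pullback.hom_ext <;> simp
  map_comp φ ψ := by apply pullback.hom_ext <;> simp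

/-- The projection to the original system. -/
def baseSnd : baseDiagram p t ht ⟶ D where
  app i := pullback.snd p (t i)
  naturality i j φ := by simp [baseDiagram]

variable (T : c.pt ⟶ S) (hT : ∀ i, c.π.app i ≫ t i = T)

/-- The cone with apex `X ×[S] lim D`. -/
def baseCone : Cone (baseDiagram p t ht) where
  pt := pullback p T
  π :=
    { app := fun i => pullback.map _ _ _ _ (𝟙 X) (c.π.app i) (𝟙 S) (by simp) (by rw [Category.comp_id, hT])
      naturality := fun i j φ => by
        apply pullback.hom_ext <;> simp [baseDiagram] }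

theorem isPullback_baseCone (i : I) :
    IsPullback ((baseCone p t ht T hT).π.app i) (pullback.snd p T) ((baseSnd p t ht).app i) (c.π.app i) := by
  have h1 : (baseCone p t ht T hT).π.app i ≫ pullback.fst p (t i) = pullback.fst p T := by simp [baseCone]
  have h2 : (baseCone p t ht T hT).π.app i ≫ pullback.snd p (t i) = pullback.snd p T ≫ c.π.app i := by
    simp [baseCone]
  refine IsPullback.of_right (h₁₂ := pullback.fst p (t i)) (h₂₂ := t i) ?_ h2
    (IsPullback.of_hasPullback p (t i))
  rw [h1, hT]
  exact IsPullback.of_hasPullback p T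

/-- `X ×[S] lim D` is the limit of `X ×[S] D i`. -/
def isLimitBaseCone [IsCofiltered I] (hc : IsLimit c) : IsLimit (baseCone p t ht T hT) :=
  haveI : IsConnected I := IsCofiltered.isConnected _
  isLimitOfIsPullbackOfIsConnected (baseSnd p t ht) (baseCone p t ht T hT) c
    { hom := pullback.snd p T
      w := fun i => (isPullback_baseCone p t ht T hT i).w.symm }
    (fun i => isPullback_baseCone p t ht T hT i) hc

theorem isAffineHom_baseDiagram_map [∀ {i j} (f : i ⟶ j), IsAffineHom (D.map f)] {i j : I} (φ : i ⟶ j) :
    IsAffineHom ((baseDiagram p t ht).map φ) := by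
  have h : IsPullback ((baseDiagram p t ht).map φ) (pullback.snd p (t i)) (pullback.snd p (t j)) (D.map φ) := by
    refine IsPullback.of_right (h₁₂ := pullback.fst p (t j)) (h₂₂ := t j) ?_ (by simp [baseDiagram])
      (IsPullback.of_hasPullback p (t j))
    rw [show (baseDiagram p t ht).map φ ≫ pullback.fst p (t j) = pullback.fst p (t i) by simp [baseDiagram],
      ht φ]
    exact IsPullback.of_hasPullback p (t i)
  exact MorphismProperty.of_isPullback h.flip inferInstance

include ht in
/-- A quasi-compact open of `X ×[S] lim D` comes from some stage. -/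
theorem exists_stage_open [IsCofiltered I] [∀ {i j} (f : i ⟶ j), IsAffineHom (D.map f)] (hc : IsLimit c)
    (V : (pullback p T).Opens) (hV : IsCompact (V : Set ↥(pullback p T))) :
    ∃ (i : I) (W : (pullback p (t i)).Opens), IsCompact (W : Set ↥(pullback p (t i))) ∧
      pullback.map p T p (t i) (𝟙 X) (c.π.app i) (𝟙 S) (by simp) (by rw [Category.comp_id, hT]) ⁻¹ᵁ W = V := by
  haveI : ∀ {i j : I} (φ : i ⟶ j), IsAffineHom ((baseDiagram p t ht).map φ) := fun φ =>
    isAffineHom_baseDiagram_map p t ht φ
  obtain ⟨i, W, hW, hWV⟩ := AlgebraicGeometry.exists_preimage_eq (baseDiagram p t ht) (baseCone p t ht T hT)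
    (isLimitBaseCone p t ht T hT hc) V hV
  exact ⟨i, W, hW, hWV⟩

end

end Groth.L19.Limit
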