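import Groth.Agent.L19.Limit.AmpleProper
import Groth.Agent.L19.Limit.OverBase
import Groth.Agent.L19.Limit.AmpleExists
import Groth.Agent.S2079

/-!
# A module ample on the fibre of a proper morphism is ample near the point
-/

set_option autoImplicit false
set_option linter.style.haveILetI false
set_option linter.unusedSectionVars false
set_option backward.isDefEq.respectTransparency false
set_option backward.isDefEq.respectTransparency.types false
set_option backward.defeqAttrib.useBackward true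

universe u

open CategoryTheory CategoryTheory.Limits AlgebraicGeometry TopologicalSpace Opposite

noncomputable section

namespace Groth.L19.Limit

open Groth.L18.Ample

variable {X S : Scheme.{u}}

theorem isInvertible_stage {I : Type u} [SmallCategory I] [IsCofiltered I] (D : I ⥤ Scheme.{u}) (c : Cone D)
    (hc : IsLimit c) [∀ (i j : I) (f : i ⟶ j), IsAffineHom (D.map f)] [∀ i, CompactSpace (D.obj i)]
    [∀ i, QuasiSeparatedSpace (D.obj i)] (i₀ : I) (L : c.pt.Modules) (hL : PicF.IsInvertible L) :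
    ∃ (k : I) (L₁ : (D.obj k).Modules), PicF.IsInvertible L₁ ∧
      Nonempty ((Scheme.Modules.pullback (c.π.app k)).obj L₁ ≅ L) := by
  haveI : Coh.IsQCoh L := Groth.L21.Extend.isQCoh_of_isInvertible hL
  have h1 := Groth.L03.ShStab.RankOneSlope.rank_one_of_invertible hL
  obtain ⟨j, -, Fj, hFq, hFp, ⟨e⟩⟩ := Groth.L19.LimMod.exists_module D c hc (i := i₀) L
    (Groth.L18.LFP.isFP_of_isFinLocFree L fun x => by obtain ⟨U, hx, e⟩ := h1 x; exact ⟨U, 1, hx, e⟩)
  haveI := hFq
  obtain ⟨k, φ, hk⟩ := Groth.L19.LimMod.exists_locFree D c hc (i := j) hFp (fun n => n = 1)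
    (fun x => by
      obtain ⟨U, hxU, hU⟩ := h1 x
      exact ⟨U, 1, rfl, hxU, Groth.L19.LimMod.freeOn_of_iso e.symm hU⟩)
  refine ⟨k, (Scheme.Modules.pullback (D.map φ)).obj Fj, fun x => ?_,
    ⟨Groth.L19.LimMod.cmp (c.π.app k) (D.map φ) (c.w φ) Fj ≪≫ e⟩⟩
  obtain ⟨U, n, hn, hxU, ⟨eU⟩⟩ := hk x
  subst hn
  exact ⟨U, hxU, ⟨eU ≪≫ coproductUniqueIso (fun _ : Fin 1 => Coh.structureModule (↑U : Scheme.{u}))⟩⟩

/-- For a proper morphism to an affine scheme, ampleness on a fibre spreads to a neighbourhood. -/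
theorem exists_nhd_isAmple_of_fibre [IsAffine S] (f : X ⟶ S) [IsProper f] (L : X.Modules)
    (hL : PicF.IsInvertible L) (y : S) (hy : y ∈ ampleLocus f L) :
    ∃ V : S.Opens, IsAffineOpen V ∧ y ∈ V ∧ CohB1.IsAmple (L.restrict (f ⁻¹ᵁ V).ι) := by
  obtain ⟨I, _, _, D, c, hc, e, htr, hst⟩ := Groth.Agent.S2079.result f
  haveI : IsConnected I := IsCofiltered.isConnected _
  let D₀ : I ⥤ Scheme.{u} := D ⋙ Over.forget S
  let c₀ : Cone D₀ := (Over.forget S).mapCone c
  let hc₀ : IsLimit c₀ := isLimitOfPreserves (Over.forget S) hc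
  haveI : ∀ (i j : I) (a : i ⟶ j), IsAffineHom (D₀.map a) := fun i j a =>
    haveI : IsClosedImmersion (D₀.map a) := htr i j a
    inferInstance
  haveI : ∀ i, IsProper (D.obj i).hom := fun i => (hst i).2.1
  haveI : ∀ i, LocallyOfFinitePresentation (D.obj i).hom := fun i => (hst i).2.2
  haveI : ∀ i, CompactSpace (D₀.obj i) := fun i =>
    QuasiCompact.compactSpace_of_compactSpace (D.obj i).hom
  haveI : ∀ i, QuasiSeparatedSpace (D₀.obj i) := fun i =>
    quasiSeparatedSpace_of_quasiSeparated (D.obj i).hom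
  let e₀ : c₀.pt ≅ X := (Over.forget S).mapIso e
  have he₀ : e₀.hom ≫ f = c.pt.hom := Over.w e.hom
  obtain ⟨i₀⟩ := IsCofiltered.nonempty (C := I)
  obtain ⟨j, Lj, hLj, ⟨ej⟩⟩ := isInvertible_stage D₀ c₀ hc₀ i₀ _ (isInvertible_pullback e₀.hom hL)
  let p : Spec (S.residueField y) ⟶ S := S.fromSpecResidueField y
  let t : ∀ i, D₀.obj i ⟶ S := fun i => (D.obj i).hom
  have ht : ∀ {i k : I} (φ : i ⟶ k), D₀.map φ ≫ t k = t i := fun φ => Over.w (D.map φ)
  let T₀ : c₀.pt ⟶ S := c.pt.hom
  have hT : ∀ i, c₀.π.app i ≫ t i = T₀ := fun i => Over.w (c.π.app i)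
  let E := baseDiagram p t ht
  let cE := baseCone (c := c₀) p t ht T₀ hT
  haveI : ∀ {i k : I} (a : i ⟶ k), IsAffineHom (E.map a) := fun a => isAffineHom_baseDiagram_map p t ht a
  haveI : ∀ i, CompactSpace (E.obj i) := fun i =>
    haveI : QuasiCompact (pullback.fst p (t i)) := MorphismProperty.pullback_fst _ _ inferInstance
    QuasiCompact.compactSpace_of_compactSpace (pullback.fst p (t i))
  haveI : ∀ i, QuasiSeparatedSpace (E.obj i) := fun i =>
    haveI : QuasiSeparated (pullback.fst p (t i)) := MorphismProperty.pullback_fst _ _ inferInstance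
    quasiSeparatedSpace_of_quasiSeparated (pullback.fst p (t i))
  let M : (E.obj j).Modules := (Scheme.Modules.pullback (pullback.snd p (t j))).obj Lj
  have hlim : CohB1.IsAmple ((Scheme.Modules.pullback (cE.π.app j)).obj M) := by
    rw [isAmple_pullback_comp_iff _ _ (show cE.π.app j ≫ pullback.snd p (t j) =
      pullback.snd p T₀ ≫ c₀.π.app j by simp [cE, baseCone]), ← isAmple_pullback_comp_iff _ _ rfl]
    refine isAmple_of_iso ((Scheme.Modules.pullback _).mapIso ej).symm ?_
    rw [isAmple_pullback_comp_iff _ _ rfl]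
    have sq : IsPullback (pullback.snd p T₀ ≫ e₀.hom) (pullback.fst p T₀) f p :=
      (IsPullback.of_hasPullback p T₀).flip.of_iso (Iso.refl _) e₀ (Iso.refl _) (Iso.refl _)
        (by simp) (by simp) (by simp [T₀, he₀]) (by simp)
    rw [isAmple_pullback_congr sq.isoPullback _ _ sq.isoPullback_hom_fst]
    exact hy
  obtain ⟨k, m, hk⟩ := exists_isAmple E cE (isLimitBaseCone p t ht T₀ hT hc₀) (i := j) M
    (isInvertible_pullback _ hLj) hlim
  let Lk : (D₀.obj k).Modules := (Scheme.Modules.pullback (D₀.map m)).obj Lj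
  have hyk : y ∈ ampleLocus (t k) Lk := by
    rw [atStage, isAmple_pullback_comp_iff _ _ (show E.map m ≫ pullback.snd p (t j) =
      pullback.snd p (t k) ≫ D₀.map m by simp [E, baseDiagram]), ← isAmple_pullback_comp_iff _ _ rfl] at hk
    have sq : IsPullback (pullback.snd p (t k)) (pullback.fst p (t k)) (t k) p :=
      (IsPullback.of_hasPullback p (t k)).flip
    rw [isAmple_pullback_congr sq.isoPullback _ _ sq.isoPullback_hom_fst] at hk
    exact hk
  obtain ⟨V, hV, hyV, hA⟩ := (exists_ample_nhd_affine (t k) Lk (isInvertible_pullback _ hLj)).2 y hyk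
  refine ⟨V, hV, hyV, ?_⟩
  let q : X ⟶ D₀.obj k := e₀.inv ≫ c₀.π.app k
  haveI : IsClosedImmersion (c₀.π.app k) := (hst k).1
  haveI : IsClosedImmersion q := inferInstance
  haveI : IsAffineHom (q ∣_ (t k ⁻¹ᵁ V)) :=
    MorphismProperty.of_isPullback (isPullback_morphismRestrict q _).flip inferInstance
  have h2 := isAmple_pullback_of_isAffineHom (q ∣_ (t k ⁻¹ᵁ V)) ((isAmple_restrict_iff_pullback _).1 hA)
  rw [isAmple_pullback_comp_iff _ _ (morphismRestrict_ι q _), ← isAmple_pullback_comp_iff _ _ rfl] at h2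
  have e' : f ⁻¹ᵁ V = q ⁻¹ᵁ (t k ⁻¹ᵁ V) := by
    rw [← Scheme.Hom.comp_preimage]
    have : f = q ≫ t k := by
      rw [← cancel_epi e₀.hom, he₀]
      simp [q, hT k, T₀]
    exact congrArg (fun g => g ⁻¹ᵁ V) this
  rw [isAmple_restrict_congr e', isAmple_restrict_iff_pullback]
  refine isAmple_of_iso ((Scheme.Modules.pullback _).mapIso ?_) h2
  exact (Groth.L19.LimMod.cmp q (D₀.map m) (show q ≫ D₀.map m = e₀.inv ≫ c₀.π.app j by simp [q]) Lj) ≪≫
    ((Scheme.Modules.pullbackComp e₀.inv (c₀.π.app j)).app Lj).symm ≪≫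
    (Scheme.Modules.pullback e₀.inv).mapIso ej ≪≫ (Scheme.Modules.pullbackComp e₀.inv e₀.hom).app L ≪≫
    (Scheme.Modules.pullbackCongr e₀.inv_hom_id).app L ≪≫ (Scheme.Modules.pullbackId X).app L

end Groth.L19.Limit
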