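import Groth.Agent.L19.Limit.Topo
import Mathlib.Topology.NoetherianSpace
import Mathlib.Topology.Sober

/-!
# Components of a cofiltered limit
-/

universe u

open CategoryTheory CategoryTheory.Limits AlgebraicGeometry Topology Set

namespace Groth.L19.Limit

set_option backward.isDefEq.respectTransparency.types false
set_option backward.isDefEq.respectTransparency false

/-- Bijection on irreducible components from separation of the closures of the images. -/
theorem bijOn_irreducibleComponents {X Y : Type*} [TopologicalSpace X] [TopologicalSpace Y]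
    [TopologicalSpace.NoetherianSpace X] (f : X → Y) (hf : Continuous f) (hd : DenseRange f)
    (h : ∀ A ∈ irreducibleComponents X, ∀ B ∈ irreducibleComponents X,
      closure (f '' A) ⊆ closure (f '' B) → A = B) :
    BijOn (fun A : Set X => closure (f '' A)) (irreducibleComponents X) (irreducibleComponents Y) := by
  have hfin := TopologicalSpace.NoetherianSpace.finite_irreducibleComponents (α := X)
  have hirr : ∀ A ∈ irreducibleComponents X, IsIrreducible (closure (f '' A)) := fun A hA =>
    (hA.1.image f hf.continuousOn).closure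
  have hcov : ∀ T : Set Y, IsIrreducible T →
      ∃ B ∈ irreducibleComponents X, T ⊆ closure (f '' B) := by
    intro T hT
    classical
    have hsub : T ⊆ ⋃₀ ↑(hfin.toFinset.image fun A => closure (f '' A)) := by
      intro y _
      have hy : y ∈ closure (⋃ A ∈ irreducibleComponents X, f '' A) := by
        rw [← image_iUnion₂, ← sUnion_eq_biUnion, sUnion_irreducibleComponents, image_univ, hd.closure_range]
        trivial
      rw [hfin.closure_biUnion] at hy
      obtain ⟨A, hA, hyA⟩ := mem_iUnion₂.mp hy
      exact ⟨_, Finset.mem_coe.mpr (Finset.mem_image_of_mem _ (hfin.mem_toFinset.mpr hA)), hyA⟩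
    obtain ⟨Z, hZ, hTZ⟩ := isIrreducible_iff_sUnion_isClosed.mp hT _ (fun z hz => by
      obtain ⟨A, -, rfl⟩ := Finset.mem_image.mp hz
      exact isClosed_closure) hsub
    obtain ⟨A, hA, rfl⟩ := Finset.mem_image.mp hZ
    exact ⟨A, hfin.mem_toFinset.mp hA, hTZ⟩
  refine ⟨fun A hA => ⟨hirr A hA, fun T hT hAT => ?_⟩, fun A hA B hB e => h A hA B hB e.le,
    fun T hT => ?_⟩
  · obtain ⟨B, hB, hTB⟩ := hcov T hT
    have := h A hA B hB (Set.Subset.trans hAT hTB)
    subst this
    exact hTB
  · obtain ⟨B, hB, hTB⟩ := hcov T hT.1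
    exact ⟨B, hB, Set.Subset.antisymm (hT.2 (hirr B hB) hTB) hTB⟩

theorem finite_range_connectedComponent (X : Type*) [TopologicalSpace X]
    [TopologicalSpace.NoetherianSpace X] : (range (connectedComponent : X → Set X)).Finite := by
  classical
  have hfin := TopologicalSpace.NoetherianSpace.finite_irreducibleComponents (α := X)
  refine (hfin.image fun A : Set X => if h : A.Nonempty then connectedComponent h.some else ∅).subset ?_
  rintro _ ⟨x, rfl⟩
  refine ⟨irreducibleComponent x, irreducibleComponent_mem_irreducibleComponents x, ?_⟩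
  have hne : (irreducibleComponent x).Nonempty := ⟨x, mem_irreducibleComponent⟩
  simp only [dif_pos hne]
  exact (connectedComponent_eq (isIrreducible_irreducibleComponent.isConnected.isPreconnected.subset_connectedComponent
    mem_irreducibleComponent hne.some_mem)).symm

theorem isClopen_connectedComponent_of_noetherian {X : Type*} [TopologicalSpace X]
    [TopologicalSpace.NoetherianSpace X] (x : X) : IsClopen (connectedComponent x) := by
  refine ⟨isClosed_connectedComponent, ?_⟩
  have e : connectedComponent x =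
      (⋃ C ∈ range (connectedComponent : X → Set X) \ {connectedComponent x}, C)ᶜ := by
    ext y
    simp only [mem_compl_iff, mem_iUnion, not_exists]
    refine ⟨fun hy C hC hyC => ?_, fun hy => ?_⟩
    · obtain ⟨⟨z, rfl⟩, hne⟩ := hC
      exact hne ((connectedComponent_eq hyC).trans (connectedComponent_eq hy).symm)
    · by_contra hyx
      exact hy _ ⟨⟨y, rfl⟩, fun e => hyx (e ▸ mem_connectedComponent)⟩ mem_connectedComponent
  rw [e]
  refine (Set.Finite.isClosed_biUnion ((finite_range_connectedComponent X).subset sdiff_subset) ?_).isOpen_compl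
  rintro _ ⟨⟨z, rfl⟩, -⟩
  exact isClosed_connectedComponent

/-- Bijection on connected components from a family of clopens at the target. -/
theorem bijOn_connectedComponents {X Y : Type*} [TopologicalSpace X] [TopologicalSpace Y]
    [TopologicalSpace.NoetherianSpace X] (f : X → Y) (hf : Continuous f) (hd : DenseRange f)
    (h : ∀ C ∈ range (connectedComponent : X → Set X), ∃ A : Set Y, IsClopen A ∧ f ⁻¹' A = C) :
    BijOn (fun C : Set X => closure (f '' C)) (range (connectedComponent : X → Set X))
      (range (connectedComponent : Y → Set Y)) := by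
  choose A hA hAC using h
  have key : ∀ C hC, closure (f '' C) = A C hC := fun C hC => by
    refine Set.Subset.antisymm (closure_minimal ?_ (hA C hC).1) fun y hy => mem_closure_iff.mpr fun W hW hyW => ?_
    · rintro _ ⟨x, hx, rfl⟩
      exact (hAC C hC).ge hx
    · obtain ⟨z, hz, x, rfl⟩ := hd.inter_open_nonempty _ (hW.inter (hA C hC).2) ⟨y, hyW, hy⟩
      exact ⟨f x, hz.1, x, (hAC C hC).le hz.2, rfl⟩
  have keyC : ∀ C hC, ∀ y ∈ A C hC, connectedComponent y = A C hC := fun C hC y hy => by
    refine Set.Subset.antisymm ((hA C hC).connectedComponent_subset hy) ?_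
    have hconn : IsConnected (A C hC) := by
      rw [← key C hC]
      obtain ⟨x, rfl⟩ := hC
      exact (isConnected_connectedComponent.image f hf.continuousOn).closure
    exact hconn.isPreconnected.subset_connectedComponent hy
  refine ⟨fun C hC => ?_, fun C hC C' hC' e => ?_, fun T hT => ?_⟩
  · obtain ⟨x, rfl⟩ := hC
    refine ⟨f x, ?_⟩
    show connectedComponent (f x) = closure (f '' connectedComponent x)
    rw [key _ ⟨x, rfl⟩]
    exact keyC _ _ _ ((hAC _ ⟨x, rfl⟩).ge mem_connectedComponent)
  · simp only [key C hC, key C' hC'] at e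
    rw [← hAC C hC, ← hAC C' hC', e]
  · obtain ⟨y, rfl⟩ := hT
    have hy : y ∈ closure (⋃ C ∈ range (connectedComponent : X → Set X), f '' C) := by
      rw [← image_iUnion₂, show (⋃ C ∈ range (connectedComponent : X → Set X), C) = univ from
        eq_univ_of_forall fun x => mem_biUnion ⟨x, rfl⟩ mem_connectedComponent, image_univ,
        hd.closure_range]
      trivial
    rw [(finite_range_connectedComponent X).closure_biUnion] at hy
    obtain ⟨C, hC, hyC⟩ := mem_iUnion₂.mp hy
    refine ⟨C, hC, ?_⟩
    show closure (f '' C) = connectedComponent y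
    rw [key C hC] at hyC ⊢
    exact (keyC C hC y hyC).symm

variable {I : Type u} [Category.{u} I] [IsCofiltered I] {D : I ⥤ Scheme.{u}} {c : Cone D}
  [∀ {i j} (f : i ⟶ j), IsAffineHom (D.map f)]

omit [IsCofiltered I] in
theorem exists_common {α : Type*} {S : Set α} (hS : S.Finite) [IsCofiltered I] (i : I)
    (P : α → I → Prop) (hmono : ∀ a ⦃j k : I⦄, (k ⟶ j) → P a j → P a k)
    (h : ∀ a ∈ S, ∃ (j : I) (_ : j ⟶ i), P a j) :
    ∃ (j : I) (_ : j ⟶ i), ∀ a ∈ S, ∀ (k : I), (k ⟶ j) → P a k := by
  haveI := hS.to_subtype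
  choose j φ hj using fun a : S => h a a.2
  obtain ⟨l, ψ, χ, -⟩ := IsCofiltered.wideCospan φ
  exact ⟨l, ψ, fun a ha k b => hmono a (b ≫ χ ⟨a, ha⟩) (hj ⟨a, ha⟩)⟩

theorem eventually_bijOn_irreducibleComponents (hc : IsLimit c) (i : I)
    [TopologicalSpace.NoetherianSpace c.pt]
    (hdom : ∀ (j : I) (_ : j ⟶ i), DenseRange (c.π.app j : c.pt → D.obj j)) :
    ∃ (i' : I) (_ : i' ⟶ i), ∀ (j : I) (_ : j ⟶ i'),
      BijOn (fun Y : Set c.pt => closure (c.π.app j '' (Y : Set c.pt) : Set (D.obj j)))
        (irreducibleComponents c.pt) (irreducibleComponents (D.obj j)) := by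
  have hfin := TopologicalSpace.NoetherianSpace.finite_irreducibleComponents (α := c.pt)
  obtain ⟨i', φ, hi'⟩ := exists_common (S := irreducibleComponents c.pt ×ˢ irreducibleComponents c.pt)
    (hfin.prod hfin) i
    (fun p j => closure (c.π.app j '' p.1 : Set (D.obj j)) ⊆ closure (c.π.app j '' p.2) → p.1 = p.2)
    (fun p j k a h hsub => h (by
      have himg : ∀ S : Set c.pt, (c.π.app j '' S : Set (D.obj j)) = D.map a '' (c.π.app k '' S) := fun S => by
        rw [image_image]; simp only [map_apply]; rfl
      refine closure_minimal (fun y hy => ?_) isClosed_closure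
      rw [himg] at hy ⊢
      obtain ⟨z, hz, rfl⟩ := hy
      exact image_closure_subset_closure_image (D.map a).continuous
        ⟨z, hsub (subset_closure hz), rfl⟩))
    (fun p hp => by
      by_cases he : p.1 = p.2
      · exact ⟨i, 𝟙 i, fun _ => he⟩
      obtain ⟨η, hη, hη'⟩ : ∃ η ∈ p.1, η ∉ p.2 := Set.not_subset.mp fun hsub =>
        he (Set.Subset.antisymm hsub (hp.1.2 hp.2.1 hsub))
      obtain ⟨j, ψ, V, hV, hVW⟩ := exists_nhds_stage hc i
        (isClosed_of_mem_irreducibleComponents _ hp.2).isOpen_compl hη'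
      refine ⟨j, ψ, fun hsub => absurd (hsub (subset_closure ⟨η, hη, rfl⟩)) fun hmem => ?_⟩
      obtain ⟨_, hxV, x, hx, rfl⟩ := mem_closure_iff.mp hmem V V.2 hV
      exact hVW hxV hx)
  exact ⟨i', φ, fun j a => bijOn_irreducibleComponents _ (c.π.app j).continuous
    (hdom j (a ≫ φ)) fun A hA B hB => hi' (A, B) ⟨hA, hB⟩ j a⟩

theorem eventually_bijOn_connectedComponents (hc : IsLimit c) (i : I) [CompactSpace (D.obj i)]
    [TopologicalSpace.NoetherianSpace c.pt]
    (hdom : ∀ (j : I) (_ : j ⟶ i), DenseRange (c.π.app j : c.pt → D.obj j)) :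
    ∃ (i' : I) (_ : i' ⟶ i), ∀ (j : I) (_ : j ⟶ i'),
      BijOn (fun C : Set c.pt => closure (c.π.app j '' (C : Set c.pt) : Set (D.obj j)))
        (range (connectedComponent : c.pt → Set c.pt))
        (range (connectedComponent : D.obj j → Set (D.obj j))) := by
  obtain ⟨i', φ, hi'⟩ := exists_common (finite_range_connectedComponent c.pt) i
    (fun C j => ∃ A : Set (D.obj j), IsClopen A ∧ (c.π.app j ⁻¹' A : Set c.pt) = C)
    (fun C j k a ⟨A, hA, hAC⟩ => ⟨D.map a ⁻¹' A, hA.preimage (D.map a).continuous, by
      rw [preimage_preimage_map, hAC]⟩)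
    (fun C hC => by
      have hcl : IsClopen C := by
        obtain ⟨x, rfl⟩ := hC
        exact isClopen_connectedComponent_of_noetherian x
      haveI := compactSpace_pt hc i
      obtain ⟨j, ψ, A, B, hAB, hA, hB⟩ := exists_disjoint_descend hc i (fun k b A' B' _ _ h => by
          refine ⟨k, 𝟙 k, eq_empty_iff_forall_notMem.mpr fun z hz => ?_⟩
          obtain ⟨_, hy, x, rfl⟩ := (hdom k b).inter_open_nonempty _ (A'.2.inter B'.2) ⟨_, hz⟩
          exact eq_empty_iff_forall_notMem.mp h x hy)
        ⟨C, hcl.2⟩ ⟨Cᶜ, hcl.1.isOpen_compl⟩ hcl.1.isCompact hcl.compl.1.isCompact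
        (inter_compl_self C)
      haveI := compactSpace_stage (D := D) ψ
      obtain ⟨k, a, hk⟩ := exists_preimage_eq_empty hc
        (cc_of_isClosed (A.isOpen.union B.isOpen).isClosed_compl) (by
          rw [preimage_compl, preimage_union, hA, hB]
          simp)
      refine ⟨k, a ≫ ψ, D.map a ⁻¹' (A : Set (D.obj j)), ⟨?_, A.2.preimage (D.map a).continuous⟩, ?_⟩
      · have e : D.map a ⁻¹' (A : Set (D.obj j)) = (D.map a ⁻¹' (B : Set (D.obj j)))ᶜ := by
          ext z
          refine ⟨fun h1 h2 => eq_empty_iff_forall_notMem.mp hAB _ ⟨h1, h2⟩, fun h2 => ?_⟩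
          by_contra h1
          exact eq_empty_iff_forall_notMem.mp hk z fun h3 => h3.elim h1 h2
        rw [e]
        exact (B.2.preimage (D.map a).continuous).isClosed_compl
      · rw [preimage_preimage_map]
        exact hA)
  exact ⟨i', φ, fun j a => bijOn_connectedComponents _ (c.π.app j).continuous (hdom j (a ≫ φ))
    fun C hC => hi' C hC j a⟩

theorem exists_forall_denseRange_of_isEmbedding (hc : IsLimit c) (i : I)
    [TopologicalSpace.NoetherianSpace (D.obj i)]
    (he : ∀ (j : I) (φ : j ⟶ i), IsEmbedding (D.map φ)) :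
    ∃ (i' : I) (_ : i' ⟶ i), ∀ (j : I) (_ : j ⟶ i'), DenseRange (c.π.app j : c.pt → D.obj j) := by
  haveI : CompactSpace (D.obj i) := inferInstance
  let C : Set (D.obj i) := (closure (range (c.π.app i : c.pt → D.obj i)))ᶜ
  have hC : CC C := fun U hU => by
    haveI := spectralSpace_opens hU
    have hopen : IsOpen C := isClosed_closure.isOpen_compl
    haveI : TopologicalSpace.NoetherianSpace U.toScheme :=
      Topology.IsInducing.noetherianSpace U.ι.isOpenEmbedding.isInducing
    exact (Groth.L06.Spectral.isClopen_cons (hopen.preimage U.ι.continuous)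
      (TopologicalSpace.NoetherianSpace.isCompact _)).1
  obtain ⟨i', φ, hi'⟩ := exists_preimage_eq_empty hc hC
    (eq_empty_iff_forall_notMem.mpr fun s hs => hs (subset_closure ⟨s, rfl⟩))
  refine ⟨i', φ, fun j a y => ?_⟩
  rw [(he j (a ≫ φ)).closure_eq_preimage_closure_image]
  have himg : D.map (a ≫ φ) '' range (c.π.app j : c.pt → D.obj j) = range (c.π.app i : c.pt → D.obj i) := by
    rw [← range_comp]
    exact congrArg range (funext fun x => map_apply (a ≫ φ) x)
  rw [mem_preimage, himg]
  by_contra hn
  refine eq_empty_iff_forall_notMem.mp hi' (D.map a y) ?_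
  show D.map φ (D.map a y) ∈ C
  rw [← Scheme.Hom.comp_apply, ← D.map_comp]
  exact hn

end Groth.L19.Limit
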