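import Groth.Agent.L19.Limit.Descend
import Mathlib.AlgebraicGeometry.Morphisms.UniversallyOpen
import Mathlib.AlgebraicGeometry.Morphisms.UnderlyingMap

/-!
# Topological properties of cofiltered limits of schemes
-/

universe u

open CategoryTheory CategoryTheory.Limits AlgebraicGeometry Topology

namespace Groth.L19.Limit

set_option backward.isDefEq.respectTransparency.types false
set_option backward.isDefEq.respectTransparency false
set_option backward.defeqAttrib.useBackward true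

variable {I : Type u} [Category.{u} I] [IsCofiltered I] {D : I ⥤ Scheme.{u}} {c : Cone D}
  [∀ {i j} (f : i ⟶ j), IsAffineHom (D.map f)]

theorem isDominant_π (hc : IsLimit c) (i : I) (h : ∀ (j : I) (φ : j ⟶ i), IsDominant (D.map φ)) :
    IsDominant (X := c.pt) (c.π.app i) := by
  refine ⟨?_⟩
  rw [DenseRange, dense_iff_inter_open]
  rintro W hW ⟨x, hx⟩
  obtain ⟨_, ⟨(V : (D.obj i).Opens), hV, rfl⟩, hxV, hVW⟩ :=
    (D.obj i).isBasis_affineOpens.exists_subset_of_mem_open hx hW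
  haveI : IsAffine (V : Scheme.{u}) := hV
  obtain ⟨z⟩ := nonempty_pullback (g := V.ι) hc fun j φ => by
    obtain ⟨_, hy, y, rfl⟩ := (h j φ).denseRange.inter_open_nonempty (V : Set _) V.2 ⟨x, hxV⟩
    obtain ⟨z, -⟩ := Scheme.Pullback.exists_preimage_pullback (f := D.map φ) (g := V.ι) y
      (⟨_, hy⟩ : (V : Scheme.{u})) rfl
    exact ⟨z⟩
  refine ⟨c.π.app i (pullback.fst (c.π.app i) V.ι z), hVW ?_, ⟨_, rfl⟩⟩
  rw [← Scheme.Hom.comp_apply, pullback.condition, Scheme.Hom.comp_apply]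
  exact (pullback.snd (c.π.app i) V.ι z).2

/-- Every neighbourhood in the limit contains the preimage of a neighbourhood at a stage over a
given one. -/
theorem exists_nhds_stage (hc : IsLimit c) (i : I) {W : Set c.pt} (hW : IsOpen W) {p : c.pt}
    (hp : p ∈ W) : ∃ (j : I) (_ : j ⟶ i) (V : (D.obj j).Opens),
      c.π.app j p ∈ V ∧ (c.π.app j ⁻¹' (V : Set (D.obj j)) : Set c.pt) ⊆ W := by
  obtain ⟨_, ⟨k, V, hV, rfl⟩, hpV, hVW⟩ := TopologicalSpace.Opens.isBasis_iff_nbhd.mp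
    (isBasis_preimage_isAffineOpen D c hc) (show p ∈ (⟨W, hW⟩ : c.pt.Opens) from hp)
  refine ⟨IsCofiltered.min i k, IsCofiltered.minToLeft i k,
    D.map (IsCofiltered.minToRight i k) ⁻¹ᵁ V, ?_, ?_⟩
  · show D.map (IsCofiltered.minToRight i k) (c.π.app _ p) ∈ V
    rw [map_apply (IsCofiltered.minToRight i k) p]
    exact hpV
  · intro q hq
    apply hVW
    change D.map (IsCofiltered.minToRight i k) (c.π.app _ q) ∈ V at hq
    rwa [map_apply (IsCofiltered.minToRight i k) q] at hq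

/-- If the projections to the stages over `i` are surjective and the transition maps to `i` are
open, then so is the projection to `i`. -/
theorem isOpenMap_π (hc : IsLimit c) (i : I)
    (hs : ∀ (j : I) (_ : j ⟶ i), Function.Surjective (c.π.app j))
    (h : ∀ (j : I) (φ : j ⟶ i), IsOpenMap (D.map φ)) : IsOpenMap (c.π.app i) := by
  intro W hW
  rw [isOpen_iff_forall_mem_open]
  rintro _ ⟨p, hp, rfl⟩
  obtain ⟨j, φ, V, hpV, hVW⟩ := exists_nhds_stage hc i hW hp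
  refine ⟨D.map φ '' (V : Set (D.obj j)), ?_, h j φ _ V.2, ⟨c.π.app j p, hpV, map_apply φ p⟩⟩
  rintro _ ⟨v, hv, rfl⟩
  obtain ⟨q, rfl⟩ := hs j φ v
  exact ⟨q, hVW hv, (map_apply φ q).symm⟩

omit [IsCofiltered I] [∀ {i j} (f : i ⟶ j), IsAffineHom (D.map f)] in
theorem isOpenMap_map_of_π (i : I) {j : I} (φ : j ⟶ i) (hs : Function.Surjective (c.π.app j))
    (h : IsOpenMap (c.π.app i)) : IsOpenMap (D.map φ) := by
  intro V hV
  have : D.map φ '' V = c.π.app i '' (c.π.app j ⁻¹' V) := by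
    ext y
    refine ⟨?_, ?_⟩
    · rintro ⟨v, hv, rfl⟩
      obtain ⟨q, rfl⟩ := hs v
      exact ⟨q, hv, (map_apply φ q).symm⟩
    · rintro ⟨q, hq, rfl⟩
      exact ⟨c.π.app j q, hq, map_apply φ q⟩
  rw [this]
  exact h _ (hV.preimage (c.π.app j).continuous)

/-- A stage at which the preimage of the limit is empty. -/
theorem exists_isEmpty (hc : IsLimit c) (i : I) [CompactSpace (D.obj i)] [IsEmpty c.pt] :
    ∃ (j : I) (_ : j ⟶ i), IsEmpty (D.obj j) := by
  obtain ⟨j, φ, h⟩ := exists_preimage_eq_empty hc (cc_univ (X := D.obj i))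
    (Set.eq_empty_iff_forall_notMem.mpr fun s => (IsEmpty.false (α := c.pt) s).elim)
  exact ⟨j, φ, ⟨fun z => Set.eq_empty_iff_forall_notMem.mp h z trivial⟩⟩

omit [IsCofiltered I] [∀ {i j} (f : i ⟶ j), IsAffineHom (D.map f)] in
theorem isEmpty_stage {j k : I} (a : k ⟶ j) [IsEmpty (D.obj j)] : IsEmpty (D.obj k) :=
  Function.isEmpty (D.map a)

/-- Two disjoint compact opens of the limit come from disjoint opens of a stage over `i`, provided
disjointness of compact opens can be descended. -/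
theorem exists_disjoint_descend (hc : IsLimit c) (i : I)
    (hd : ∀ (j : I) (_ : j ⟶ i) (A B : (D.obj j).Opens), IsCompact (A : Set (D.obj j)) →
      IsCompact (B : Set (D.obj j)) →
      (c.π.app j ⁻¹' ((A : Set (D.obj j)) ∩ B) : Set c.pt) = ∅ →
        ∃ (k : I) (a : k ⟶ j), D.map a ⁻¹' ((A : Set (D.obj j)) ∩ B) = ∅)
    (U W : c.pt.Opens) (hU : IsCompact (U : Set c.pt)) (hW : IsCompact (W : Set c.pt))
    (hUW : (U : Set c.pt) ∩ W = ∅) :
    ∃ (j : I) (_ : j ⟶ i) (A B : (D.obj j).Opens),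
      (A : Set (D.obj j)) ∩ B = ∅ ∧ (c.π.app j ⁻¹' (A : Set (D.obj j)) : Set c.pt) = U ∧
        (c.π.app j ⁻¹' (B : Set (D.obj j)) : Set c.pt) = W := by
  obtain ⟨j₁, φ₁, A, hA, hAU⟩ := exists_isCompact_preimage_eq hc i U hU
  obtain ⟨j₂, φ₂, B, hB, hBW⟩ := exists_isCompact_preimage_eq hc j₁ W hW
  have hA' : IsCompact (D.map φ₂ ⁻¹' (A : Set (D.obj j₁))) :=
    QuasiCompact.isCompact_preimage (f := D.map φ₂) _ A.2 hA
  obtain ⟨k, a, hk⟩ := hd j₂ (φ₂ ≫ φ₁) (D.map φ₂ ⁻¹ᵁ A) B hA' hB (by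
    rw [Set.preimage_inter, ← hUW, ← hAU, ← hBW]
    exact congrArg (· ∩ _) (preimage_preimage_map φ₂ (A : Set (D.obj j₁))))
  refine ⟨k, a ≫ φ₂ ≫ φ₁, D.map a ⁻¹ᵁ (D.map φ₂ ⁻¹ᵁ A), D.map a ⁻¹ᵁ B, hk, ?_, ?_⟩
  · rw [← hAU]
    exact (preimage_preimage_map a _).trans (preimage_preimage_map φ₂ _)
  · rw [← hBW]
    exact preimage_preimage_map a _

theorem exists_forall_not_preconnectedSpace (hc : IsLimit c) (i : I) [CompactSpace (D.obj i)]
    (hd : ∀ (j : I) (_ : j ⟶ i) (A B : (D.obj j).Opens), IsCompact (A : Set (D.obj j)) →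
      IsCompact (B : Set (D.obj j)) →
      (c.π.app j ⁻¹' ((A : Set (D.obj j)) ∩ B) : Set c.pt) = ∅ →
        ∃ (k : I) (a : k ⟶ j), D.map a ⁻¹' ((A : Set (D.obj j)) ∩ B) = ∅)
    (h : ¬ PreconnectedSpace c.pt) :
    ∃ (j : I) (_ : j ⟶ i), ∀ (k : I) (_ : k ⟶ j), ¬ PreconnectedSpace (D.obj k) := by
  haveI := compactSpace_pt hc i
  obtain ⟨S, hS, hS0, hS1⟩ : ∃ S : Set c.pt, IsClopen S ∧ S.Nonempty ∧ Sᶜ.Nonempty := by
    rw [preconnectedSpace_iff_clopen] at h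
    push_neg at h
    obtain ⟨S, hS, h0, h1⟩ := h
    exact ⟨S, hS, h0, Set.nonempty_compl.mpr h1⟩
  obtain ⟨j, φ, A, B, hAB, hA, hB⟩ := exists_disjoint_descend hc i hd ⟨S, hS.2⟩ ⟨Sᶜ, hS.1.isOpen_compl⟩
    hS.1.isCompact hS.compl.1.isCompact (Set.inter_compl_self S)
  haveI := compactSpace_stage (D := D) φ
  obtain ⟨j', a, hj'⟩ := exists_preimage_eq_empty hc
    (cc_of_isClosed (A.isOpen.union B.isOpen).isClosed_compl) (by
      rw [Set.preimage_compl, Set.preimage_union, hA, hB]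
      simp)
  refine ⟨j', a ≫ φ, fun k b hk => ?_⟩
  have hcl : IsClopen (D.map (b ≫ a) ⁻¹' (A : Set (D.obj j))) := by
    refine ⟨?_, A.2.preimage (D.map (b ≫ a)).continuous⟩
    have e : D.map (b ≫ a) ⁻¹' (A : Set (D.obj j)) = (D.map (b ≫ a) ⁻¹' (B : Set (D.obj j)))ᶜ := by
      ext z
      refine ⟨fun h1 h2 => Set.eq_empty_iff_forall_notMem.mp hAB _ ⟨h1, h2⟩, fun h2 => ?_⟩
      by_contra h1
      refine Set.eq_empty_iff_forall_notMem.mp hj' (D.map b z) fun h3 => ?_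
      rw [← Scheme.Hom.comp_apply, ← D.map_comp] at h3
      exact h3.elim h1 h2
    rw [e]
    exact (B.2.preimage (D.map (b ≫ a)).continuous).isClosed_compl
  obtain ⟨p, hp⟩ := hS0
  obtain ⟨q, hq⟩ := hS1
  rcases (preconnectedSpace_iff_clopen.mp hk _ hcl) with h0 | h0
  · refine Set.eq_empty_iff_forall_notMem.mp h0 (c.π.app k p) ?_
    rw [Set.mem_preimage, map_apply (b ≫ a) p]
    exact hA.ge hp
  · have h1 : c.π.app k q ∈ D.map (b ≫ a) ⁻¹' (A : Set (D.obj j)) := h0.ge trivial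
    rw [Set.mem_preimage, map_apply (b ≫ a) q] at h1
    exact hq (hA.le h1)

theorem exists_forall_not_irreducibleSpace (hc : IsLimit c) (i : I) [CompactSpace (D.obj i)]
    [TopologicalSpace.NoetherianSpace c.pt]
    (hd : ∀ (j : I) (_ : j ⟶ i) (A B : (D.obj j).Opens), IsCompact (A : Set (D.obj j)) →
      IsCompact (B : Set (D.obj j)) →
      (c.π.app j ⁻¹' ((A : Set (D.obj j)) ∩ B) : Set c.pt) = ∅ →
        ∃ (k : I) (a : k ⟶ j), D.map a ⁻¹' ((A : Set (D.obj j)) ∩ B) = ∅)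
    (h : ¬ IrreducibleSpace c.pt) :
    ∃ (j : I) (_ : j ⟶ i), ∀ (k : I) (_ : k ⟶ j), ¬ IrreducibleSpace (D.obj k) := by
  rcases isEmpty_or_nonempty c.pt with he | hne
  · obtain ⟨j, φ, hj⟩ := exists_isEmpty hc i
    refine ⟨j, φ, fun k a hk => ?_⟩
    haveI := isEmpty_stage (D := D) a
    exact not_isEmpty_of_nonempty (D.obj k) inferInstance
  obtain ⟨U, W, hU, hW, hU0, hW0, hUW⟩ : ∃ U W : Set c.pt, IsOpen U ∧ IsOpen W ∧ U.Nonempty ∧
      W.Nonempty ∧ U ∩ W = ∅ := by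
    by_contra hcon
    refine h (@IrreducibleSpace.mk _ _ ⟨fun U W hU hW hU0 hW0 => ?_⟩ hne)
    rw [Set.univ_inter] at hU0 hW0 ⊢
    by_contra hUW
    exact hcon ⟨U, W, hU, hW, hU0, hW0, Set.not_nonempty_iff_eq_empty.mp hUW⟩
  obtain ⟨j, φ, A, B, hAB, hA, hB⟩ := exists_disjoint_descend hc i hd ⟨U, hU⟩ ⟨W, hW⟩
    (TopologicalSpace.NoetherianSpace.isCompact U) (TopologicalSpace.NoetherianSpace.isCompact W) hUW
  refine ⟨j, φ, fun k a hk => ?_⟩
  have hmem : ∀ {S : Set c.pt} {A : (D.obj j).Opens},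
      (c.π.app j ⁻¹' (A : Set (D.obj j)) : Set c.pt) = S → S.Nonempty →
      (D.map a ⁻¹' (A : Set (D.obj j))).Nonempty := by
    rintro S A rfl ⟨p, hp⟩
    exact ⟨c.π.app k p, show D.map a (c.π.app k p) ∈ A by rwa [map_apply a p]⟩
  obtain ⟨z, hzA, hzB⟩ := nonempty_preirreducible_inter (A.2.preimage (D.map a).continuous)
    (B.2.preimage (D.map a).continuous) (hmem hA hU0) (hmem hB hW0)
  exact Set.eq_empty_iff_forall_notMem.mp hAB _ ⟨hzA, hzB⟩

theorem hd_of_quasiSeparated (hc : IsLimit c) (i : I) [CompactSpace (D.obj i)]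
    [QuasiSeparatedSpace (D.obj i)] (j : I) (φ : j ⟶ i) (A B : (D.obj j).Opens)
    (hA : IsCompact (A : Set (D.obj j))) (hB : IsCompact (B : Set (D.obj j)))
    (h : (c.π.app j ⁻¹' ((A : Set (D.obj j)) ∩ B) : Set c.pt) = ∅) :
    ∃ (k : I) (a : k ⟶ j), D.map a ⁻¹' ((A : Set (D.obj j)) ∩ B) = ∅ := by
  haveI := compactSpace_stage (D := D) φ
  haveI := quasiSeparatedSpace_stage (D := D) φ
  exact exists_preimage_eq_empty hc
    (cc_of_isConstructible ((hA.isConstructible A.2).inter (hB.isConstructible B.2))) h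

theorem hd_of_isDominant (hc : IsLimit c)
    (hdom : ∀ (i j : I) (φ : i ⟶ j), IsDominant (D.map φ)) (j : I) (A B : (D.obj j).Opens)
    (h : (c.π.app j ⁻¹' ((A : Set (D.obj j)) ∩ B) : Set c.pt) = ∅) :
    ∃ (k : I) (a : k ⟶ j), D.map a ⁻¹' ((A : Set (D.obj j)) ∩ B) = ∅ := by
  refine ⟨j, 𝟙 j, Set.eq_empty_iff_forall_notMem.mpr fun z hz => ?_⟩
  haveI := isDominant_π hc j fun k a => hdom k j a
  obtain ⟨_, hy, p, rfl⟩ := (Scheme.Hom.denseRange (c.π.app j)).inter_open_nonempty _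
    (A.2.inter B.2) ⟨_, hz⟩
  exact Set.eq_empty_iff_forall_notMem.mp h p hy

end Groth.L19.Limit
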