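import Groth.Agent.L19.Limit.Cons
import Mathlib.Topology.LocalAtTarget
import Mathlib.Topology.LocallyClosed

/-!
# Descending topological properties of subsets along cofiltered limits
-/

universe u

open CategoryTheory CategoryTheory.Limits AlgebraicGeometry Topology

namespace Groth.L19.Limit

set_option backward.isDefEq.respectTransparency.types false
set_option backward.isDefEq.respectTransparency false
set_option backward.defeqAttrib.useBackward true

variable {I : Type u} [Category.{u} I] [IsCofiltered I] {D : I ⥤ Scheme.{u}} {c : Cone D}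
  [∀ {i j} (f : i ⟶ j), IsAffineHom (D.map f)]

theorem compactSpace_stage {i j : I} (φ : j ⟶ i) [CompactSpace (D.obj i)] :
    CompactSpace (D.obj j) :=
  QuasiCompact.compactSpace_of_compactSpace (D.map φ)

theorem quasiSeparatedSpace_stage {i j : I} (φ : j ⟶ i) [QuasiSeparatedSpace (D.obj i)] :
    QuasiSeparatedSpace (D.obj j) :=
  quasiSeparatedSpace_of_quasiSeparated (D.map φ)

theorem compactSpace_pt (hc : IsLimit c) (i : I) [CompactSpace (D.obj i)] : CompactSpace c.pt :=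
  haveI := isAffineHom_π_app D c hc i
  QuasiCompact.compactSpace_of_compactSpace (c.π.app i)

theorem quasiSeparatedSpace_pt (hc : IsLimit c) (i : I) [QuasiSeparatedSpace (D.obj i)] :
    QuasiSeparatedSpace c.pt :=
  haveI := isAffineHom_π_app D c hc i
  quasiSeparatedSpace_of_quasiSeparated (c.π.app i)

theorem isCompact_of_cc {X : Scheme.{u}} [CompactSpace X] {S : Set X} (hS : CC S) : IsCompact S := by
  let 𝒰 := X.affineCover.finiteSubcover
  haveI : ∀ k, IsAffine (𝒰.X k) := fun k => inferInstanceAs (IsAffine (Spec _))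
  have e : S = ⋃ k, (𝒰.f k) '' ((𝒰.f k) ⁻¹' S) := by
    ext x
    refine ⟨fun hx => ?_, fun hx => ?_⟩
    · obtain ⟨k, y, rfl⟩ := 𝒰.exists_eq x
      exact Set.mem_iUnion.mpr ⟨k, y, hx, rfl⟩
    · obtain ⟨k, y, hy, rfl⟩ := Set.mem_iUnion.mp hx
      exact hy
  rw [e]
  refine isCompact_iUnion fun k => IsCompact.image ?_ (𝒰.f k).continuous
  haveI := spectralSpace_of_isAffine (𝒰.X k)
  exact Groth.L06.Spectral.isCompact_of_isClosed_cons (hS.preimage (𝒰.f k)).isClosed_of_isAffine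

theorem isConstructible_preimage {X Y : Scheme.{u}} (f : X ⟶ Y) [QuasiCompact f] [CompactSpace X]
    [QuasiSeparatedSpace X] [CompactSpace Y] {Z : Set Y} (hZ : IsConstructible Z) :
    IsConstructible (f ⁻¹' Z) :=
  IsConstructible.preimage f.continuous
    (fun U hU hU' => (QuasiCompact.isCompact_preimage (f := f) U hU hU'.isCompact).isRetrocompact
      (hU.preimage f.continuous)) hZ

/-- A compact open of the limit is the preimage of a compact open of some stage over a given one. -/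
theorem exists_isCompact_preimage_eq (hc : IsLimit c) (i : I) (W : c.pt.Opens)
    (hW : IsCompact (W : Set c.pt)) :
    ∃ (j : I) (_ : j ⟶ i) (V : (D.obj j).Opens),
      IsCompact (V : Set (D.obj j)) ∧
      (c.π.app j ⁻¹' (V : Set (D.obj j)) : Set c.pt) = (W : Set c.pt) := by
  obtain ⟨k, V, hV, hVW⟩ := exists_preimage_eq D c hc W hW
  refine ⟨IsCofiltered.min i k, IsCofiltered.minToLeft i k, D.map (IsCofiltered.minToRight i k) ⁻¹ᵁ V,
    QuasiCompact.isCompact_preimage (f := D.map (IsCofiltered.minToRight i k)) _ V.2 hV, ?_⟩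
  rw [← hVW]
  exact preimage_preimage_map (c := c) (IsCofiltered.minToRight i k) (V : Set (D.obj k))

/-- Every constructible subset of the limit comes from a stage. -/
theorem exists_isConstructible_preimage_eq (hc : IsLimit c) (i : I) [CompactSpace (D.obj i)]
    [QuasiSeparatedSpace (D.obj i)] (Z : Set c.pt) (hZ : IsConstructible Z) :
    ∃ (j : I) (_ : j ⟶ i) (Zj : Set (D.obj j)),
      IsConstructible Zj ∧ c.π.app j ⁻¹' Zj = Z := by
  haveI := compactSpace_pt hc i
  haveI := quasiSeparatedSpace_pt hc i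
  induction hZ using IsConstructible.empty_union_induction with
  | open_retrocompact U hU hU' =>
    obtain ⟨j, φ, V, hV, hVW⟩ := exists_isCompact_preimage_eq hc i ⟨U, hU⟩ hU'.isCompact
    haveI := quasiSeparatedSpace_stage (D := D) φ
    exact ⟨j, φ, V, hV.isConstructible V.2, hVW⟩
  | union s hs t ht h1 h2 =>
    obtain ⟨j, φ, A, hA, rfl⟩ := h1
    obtain ⟨k, ψ, B, hB, rfl⟩ := h2
    obtain ⟨l, a, b, -⟩ := IsCofilteredOrEmpty.cone_objs j k
    haveI := compactSpace_stage (D := D) (a ≫ φ)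
    haveI := quasiSeparatedSpace_stage (D := D) (a ≫ φ)
    haveI := compactSpace_stage (D := D) φ
    haveI := compactSpace_stage (D := D) ψ
    haveI := quasiSeparatedSpace_stage (D := D) φ
    haveI := quasiSeparatedSpace_stage (D := D) ψ
    refine ⟨l, a ≫ φ, D.map a ⁻¹' A ∪ D.map b ⁻¹' B,
      (IsLocallyConstructible.isConstructible ?_).union (IsLocallyConstructible.isConstructible ?_),
      ?_⟩
    · exact (IsConstructible.preimage (D.map a).continuous
        (fun U hU hU' => (QuasiCompact.isCompact_preimage (f := D.map a) U hU hU'.isCompact).isRetrocompact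
          (hU.preimage (D.map a).continuous)) hA).isLocallyConstructible
    · exact (IsConstructible.preimage (D.map b).continuous
        (fun U hU hU' => (QuasiCompact.isCompact_preimage (f := D.map b) U hU hU'.isCompact).isRetrocompact
          (hU.preimage (D.map b).continuous)) hB).isLocallyConstructible
    · rw [Set.preimage_union, preimage_preimage_map, preimage_preimage_map]
  | compl s hs h =>
    obtain ⟨j, φ, A, hA, rfl⟩ := h
    exact ⟨j, φ, Aᶜ, hA.compl, rfl⟩

theorem exists_isOpen_of_isAffine [∀ j, IsAffine (D.obj j)] (hc : IsLimit c) {i : I}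
    {Z : Set (D.obj i)} (hZ : IsLocallyConstructible Z) (h : IsOpen (c.π.app i ⁻¹' Z)) :
    ∃ (j : I) (φ : j ⟶ i), IsOpen (D.map φ ⁻¹' Z) := by
  haveI : ∀ {i} , IsAffine (D.obj i) := fun {i} => inferInstance
  haveI : IsAffine c.pt := Scheme.isAffine_of_isLimit c hc
  haveI := spectralSpace_of_isAffine c.pt
  have hcomp : IsCompact (c.π.app i ⁻¹' Z : Set c.pt) :=
    isCompact_of_cc (X := c.pt) ((cc_of_isLocallyConstructible hZ).preimage (X := c.pt) (c.π.app i))
  obtain ⟨j, φ, V, hV, hVW⟩ := exists_isCompact_preimage_eq hc i ⟨_, h⟩ hcomp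
  haveI := spectralSpace_of_isAffine (D.obj j)
  have hZj : IsLocallyConstructible (D.map φ ⁻¹' Z) :=
    (IsConstructible.preimage (D.map φ).continuous
      (fun U hU hU' => (QuasiCompact.isCompact_preimage (f := D.map φ) U hU hU'.isCompact).isRetrocompact
        (hU.preimage (D.map φ).continuous)) hZ.isConstructible).isLocallyConstructible
  obtain ⟨k, a, hk⟩ := exists_preimage_eq_preimage hc hZj
    (hV.isConstructible V.2).isLocallyConstructible
    (show c.π.app j ⁻¹' (D.map φ ⁻¹' Z) = c.π.app j ⁻¹' (V : Set (D.obj j)) by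
      rw [preimage_preimage_map, hVW]; rfl)
  refine ⟨k, a ≫ φ, ?_⟩
  rw [← preimage_map_comp, hk]
  exact V.2.preimage (D.map a).continuous

theorem exists_isLocallyClosed_preimage_eq (hc : IsLimit c) (i : I) [CompactSpace (D.obj i)]
    [QuasiSeparatedSpace (D.obj i)] (Z : Set c.pt) (hZ : IsConstructible Z)
    (hZ' : IsLocallyClosed Z) :
    ∃ (j : I) (_ : j ⟶ i) (Zj : Set (D.obj j)),
      IsConstructible Zj ∧ IsLocallyClosed Zj ∧ c.π.app j ⁻¹' Zj = Z := by
  haveI := compactSpace_pt hc i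
  haveI := quasiSeparatedSpace_pt hc i
  have hZc : ∀ S : Set c.pt, IsConstructible S → IsCompact S := fun S hS =>
    isCompact_of_cc (cc_of_isConstructible hS)
  obtain ⟨U, hU, hUc, hZU, hUcl⟩ : ∃ U : c.pt.Opens, IsCompact (U : Set c.pt) ∧
      IsConstructible (U : Set c.pt) ∧ Z ⊆ U ∧ IsOpen ((U : Set c.pt) \ Z) := by
    have hco : IsOpen (coborder Z) := hZ'.isOpen_coborder
    obtain ⟨W, hW, hZW, hWco⟩ : ∃ W : c.pt.Opens, IsCompact (W : Set c.pt) ∧ Z ⊆ W ∧
        (W : Set c.pt) ⊆ coborder Z := by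
      have := hZc Z hZ
      choose V hV hxV hVco using fun x : Z =>
        TopologicalSpace.Opens.isBasis_iff_nbhd.mp c.pt.isBasis_affineOpens
          (show x.1 ∈ (⟨coborder Z, hco⟩ : c.pt.Opens) from subset_coborder x.2)
      obtain ⟨t, ht⟩ := this.elim_finite_subcover (fun x : Z => (V x : Set c.pt)) (fun x => (V x).2)
        (fun x hx => Set.mem_iUnion.mpr ⟨⟨x, hx⟩, hxV _⟩)
      refine ⟨⟨⋃ x ∈ t, (V x : Set c.pt), isOpen_biUnion fun x _ => (V x).2⟩,
        t.finite_toSet.isCompact_biUnion fun x _ => (hV x).isCompact, ht,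
        Set.iUnion₂_subset fun x _ => hVco x⟩
    refine ⟨W, hW, hW.isConstructible W.2, hZW, ?_⟩
    have e : (W : Set c.pt) \ Z = (W : Set c.pt) ∩ (closure Z)ᶜ := by
      ext x
      refine ⟨fun hx => ⟨hx.1, fun hcl => ?_⟩, fun hx => ⟨hx.1, fun h => hx.2 (subset_closure h)⟩⟩
      have := hWco hx.1
      rw [coborder, Set.mem_compl_iff] at this
      exact this ⟨hcl, hx.2⟩
    rw [e]
    exact W.2.inter isClosed_closure.isOpen_compl
  obtain ⟨j, φ, A, hA, hAU⟩ := exists_isCompact_preimage_eq hc i U hU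
  obtain ⟨k, ψ, B, hB, hBU⟩ := exists_isCompact_preimage_eq hc j ⟨_, hUcl⟩ (hZc _ (hUc.sdiff hZ))
  haveI := quasiSeparatedSpace_stage (D := D) (ψ ≫ φ)
  have hA' : IsCompact (D.map ψ ⁻¹' (A : Set (D.obj j))) :=
    QuasiCompact.isCompact_preimage (f := D.map ψ) _ A.2 hA
  refine ⟨k, ψ ≫ φ, D.map ψ ⁻¹' (A : Set (D.obj j)) \ B,
    (hA'.isConstructible (A.2.preimage (D.map ψ).continuous)).sdiff (hB.isConstructible B.2),
    (A.2.preimage (D.map ψ).continuous).isLocallyClosed.inter B.2.isClosed_compl.isLocallyClosed, ?_⟩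
  rw [Set.preimage_sdiff, preimage_preimage_map, hAU, hBU]
  show (U : Set c.pt) \ ((U : Set c.pt) \ Z) = Z
  rw [Set.sdiff_sdiff_cancel_left hZU]

theorem exists_isLocallyClosed_of_isAffine [∀ j, IsAffine (D.obj j)] (hc : IsLimit c) {i : I}
    {Z : Set (D.obj i)} (hZ : IsLocallyConstructible Z)
    (h : IsLocallyClosed (c.π.app i ⁻¹' Z)) :
    ∃ (j : I) (φ : j ⟶ i), IsLocallyClosed (D.map φ ⁻¹' Z) := by
  haveI : IsAffine c.pt := Scheme.isAffine_of_isLimit c hc
  haveI : IsAffineHom (X := c.pt) (c.π.app i) := isAffineHom_π_app D c hc i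
  obtain ⟨j, φ, Zj, hZj, hlc, he⟩ := exists_isLocallyClosed_preimage_eq hc i _
    (isConstructible_preimage (X := c.pt) (c.π.app i) hZ.isConstructible) h
  have hZ' : IsLocallyConstructible (D.map φ ⁻¹' Z) :=
    (IsConstructible.preimage (D.map φ).continuous
      (fun U hU hU' => (QuasiCompact.isCompact_preimage (f := D.map φ) U hU hU'.isCompact).isRetrocompact
        (hU.preimage (D.map φ).continuous)) hZ.isConstructible).isLocallyConstructible
  obtain ⟨k, a, hk⟩ := exists_preimage_eq_preimage hc hZ' hZj.isLocallyConstructible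
    (show c.π.app j ⁻¹' (D.map φ ⁻¹' Z) = c.π.app j ⁻¹' Zj by rw [preimage_preimage_map, he]; rfl)
  refine ⟨k, a ≫ φ, ?_⟩
  rw [← preimage_map_comp, hk]
  exact hlc.preimage (D.map a).continuous

/-- A property of subsets that is local and stable under preimages descends to a stage as soon
as it does so when all stages are affine. -/
theorem exists_of_local (P : ∀ X : Scheme.{u}, Set X → Prop)
    (hpre : ∀ {X Y : Scheme.{u}} (f : X ⟶ Y) (S : Set Y), P Y S → P X (f ⁻¹' S))
    (hloc : ∀ {X : Scheme.{u}} {ι : Type u} (U : ι → X.Opens), TopologicalSpace.IsOpenCover U →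
      ∀ S : Set X, (∀ k, P (U k) ((U k).ι ⁻¹' S)) → P X S)
    (haff : ∀ {J : Type u} [Category.{u} J] [IsCofiltered J] {D' : J ⥤ Scheme.{u}} {c' : Cone D'}
      [∀ {i j} (f : i ⟶ j), IsAffineHom (D'.map f)] [∀ j, IsAffine (D'.obj j)], IsLimit c' →
      ∀ {i : J} {Z : Set (D'.obj i)}, IsLocallyConstructible Z → P c'.pt (c'.π.app i ⁻¹' Z) →
        ∃ (j : J) (φ : j ⟶ i), P (D'.obj j) (D'.map φ ⁻¹' Z))
    (hc : IsLimit c) {i : I} [CompactSpace (D.obj i)] {Z : Set (D.obj i)}
    (hZ : IsLocallyConstructible Z) (h : P c.pt (c.π.app i ⁻¹' Z)) :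
    ∃ (j : I) (φ : j ⟶ i), P (D.obj j) (D.map φ ⁻¹' Z) := by
  let 𝒰 := (D.obj i).affineCover.finiteSubcover
  haveI : ∀ k, IsAffine (𝒰.X k) := fun k => inferInstanceAs (IsAffine (Spec _))
  have key : ∀ k, ∃ (j : I) (φ : j ⟶ i),
      P (D.map φ ⁻¹ᵁ (𝒰.f k).opensRange) ((D.map φ ⁻¹ᵁ (𝒰.f k).opensRange).ι ⁻¹' (D.map φ ⁻¹' Z)) := by
    intro k
    let U : (D.obj i).Opens := (𝒰.f k).opensRange
    have hU : IsAffineOpen U := isAffineOpen_opensRange _
    haveI : ∀ j, IsAffine ((opensDiagram D i U).obj j) := fun j => hU.preimage _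
    obtain ⟨j, a, hj⟩ := haff (isLimitOpensCone D c hc i U) (i := Over.mk (𝟙 i))
      (Z := (D.map (𝟙 i) ⁻¹ᵁ U).ι ⁻¹' (D.map (𝟙 i) ⁻¹' Z))
      (IsLocallyConstructible.preimage_of_isOpenEmbedding
        (IsLocallyConstructible.preimage_of_isOpenEmbedding hZ (D.map (𝟙 i)).isOpenEmbedding)
        (D.map (𝟙 i) ⁻¹ᵁ U).ι.isOpenEmbedding) (by
        refine Eq.mp (congrArg (P _) ?_) (hpre (c.π.app i ⁻¹ᵁ U).ι _ h)
        ext s
        show c.π.app i ((c.π.app i ⁻¹ᵁ U).ι s) ∈ Z ↔
          D.map (𝟙 i) ((D.map (𝟙 i) ⁻¹ᵁ U).ι ((opensCone D c i U).π.app (Over.mk (𝟙 i)) s)) ∈ Z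
        exact iff_of_eq (congrArg (· ∈ Z) ((map_apply (𝟙 i) _).symm.trans
          (congrArg (D.map (𝟙 i))
            (apply_comm (show (opensCone D c i U).π.app (Over.mk (𝟙 i)) ≫ (D.map (𝟙 i) ⁻¹ᵁ U).ι =
              (c.π.app i ⁻¹ᵁ U).ι ≫ c.π.app i by simp [opensCone]) s).symm))))
    refine ⟨j.left, j.hom, ?_⟩
    refine Eq.mpr (congrArg (P _) ?_) hj
    ext s
    show D.map j.hom ((D.map j.hom ⁻¹ᵁ U).ι s) ∈ Z ↔
      D.map (𝟙 i) ((D.map (𝟙 i) ⁻¹ᵁ U).ι ((opensDiagram D i U).map a s)) ∈ Z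
    have ha : a.left = j.hom := by simpa using Over.w a
    have e := apply_comm (show ((opensDiagram D i U).map a ≫ (D.map (𝟙 i) ⁻¹ᵁ U).ι) ≫ D.map (𝟙 i) =
      (D.map j.hom ⁻¹ᵁ U).ι ≫ D.map j.hom by simp [opensDiagram, ha]) s
    exact iff_of_eq (congrArg (· ∈ Z) (e.symm.trans (congrArg (D.map (𝟙 i)) (Scheme.Hom.comp_apply ..))))
  choose j φ hφ using key
  obtain ⟨l, ψ, χ, hχ⟩ := IsCofiltered.wideCospan φ
  refine ⟨l, ψ, hloc (fun k => D.map ψ ⁻¹ᵁ (𝒰.f k).opensRange) ?_ _ fun k => ?_⟩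
  · exact (Scheme.OpenCover.isOpenCover_opensRange 𝒰).comap (D.map ψ).base.hom
  · have hle : D.map ψ ⁻¹ᵁ (𝒰.f k).opensRange ≤ D.map (χ k) ⁻¹ᵁ (D.map (φ k) ⁻¹ᵁ (𝒰.f k).opensRange) := by
      rw [← Scheme.Hom.comp_preimage, ← D.map_comp, hχ k]
    refine Eq.mpr (congrArg (P _) ?_) (hpre ((D.map (χ k)).resLE _ _ hle) _ (hφ k))
    ext s
    simp only [Set.mem_preimage, ← Scheme.Hom.comp_apply]
    rw [Category.assoc, Scheme.Hom.resLE_comp_ι_assoc, ← D.map_comp, hχ k]

theorem exists_isOpen (hc : IsLimit c) {i : I} [CompactSpace (D.obj i)] {Z : Set (D.obj i)}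
    (hZ : IsLocallyConstructible Z) (h : IsOpen (c.π.app i ⁻¹' Z)) :
    ∃ (j : I) (φ : j ⟶ i), IsOpen (D.map φ ⁻¹' Z) :=
  exists_of_local (fun _ S => IsOpen S) (fun f _ hS => hS.preimage f.continuous)
    (fun U hU S hS => hU.isOpen_iff_coe_preimage.mpr hS)
    (fun hc' => exists_isOpen_of_isAffine hc') hc hZ h

theorem exists_isLocallyClosed (hc : IsLimit c) {i : I} [CompactSpace (D.obj i)] {Z : Set (D.obj i)}
    (hZ : IsLocallyConstructible Z) (h : IsLocallyClosed (c.π.app i ⁻¹' Z)) :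
    ∃ (j : I) (φ : j ⟶ i), IsLocallyClosed (D.map φ ⁻¹' Z) :=
  exists_of_local (fun _ S => IsLocallyClosed S) (fun f _ hS => hS.preimage f.continuous)
    (fun U hU S hS => hU.isLocallyClosed_iff_coe_preimage.mpr hS)
    (fun hc' => exists_isLocallyClosed_of_isAffine hc') hc hZ h

end Groth.L19.Limit
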