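import Groth.Agent.L19.Limit.Pullback
import Groth.Agent.L19.Limit.Descend
import Mathlib.AlgebraicGeometry.Morphisms.QuasiSeparated

/-!
# Morphisms between base changes to a cofiltered limit
-/

universe u

open CategoryTheory CategoryTheory.Limits AlgebraicGeometry

namespace Groth.L19.Limit

set_option backward.isDefEq.respectTransparency.types false
set_option backward.isDefEq.respectTransparency false
set_option backward.defeqAttrib.useBackward true
set_option linter.style.haveILetI false

variable {I : Type u} [Category.{u} I] [IsCofiltered I] {D : I ⥤ Scheme.{u}} {c : Cone D}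
  [∀ {i j} (f : i ⟶ j), IsAffineHom (D.map f)] {i : I} {Xi Yi X Y : Scheme.{u}}
  {xi : Xi ⟶ D.obj i} {yi : Yi ⟶ D.obj i} {qX : X ⟶ Xi} {pX : X ⟶ c.pt}

variable (D xi) in
/-- The structure maps of the base changes to the stage `D i`. -/
noncomputable def bcBase : bcDiagram D xi ⟶ (Functor.const (Over i)).obj (D.obj i) where
  app k := pullback.snd (D.map k.hom) xi ≫ xi
  naturality k l m := by simp [bcDiagram]

theorem compactSpace_bc [CompactSpace Xi] (k : Over i) :
    CompactSpace ((bcDiagram D xi).obj k) :=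
  QuasiCompact.compactSpace_of_compactSpace (pullback.snd (D.map k.hom) xi)

theorem quasiSeparatedSpace_bc [QuasiSeparatedSpace Xi] (k : Over i) :
    QuasiSeparatedSpace ((bcDiagram D xi).obj k) :=
  quasiSeparatedSpace_of_quasiSeparated (pullback.snd (D.map k.hom) xi)

/-- Two morphisms with the same base change to the limit agree at some stage. -/
theorem exists_fst_comp_eq (hc : IsLimit c) [CompactSpace Xi] [LocallyOfFiniteType yi]
    (hX : IsPullback qX pX xi (c.π.app i)) (f g : Xi ⟶ Yi) (hf : f ≫ yi = xi) (hg : g ≫ yi = xi)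
    (h : qX ≫ f = qX ≫ g) :
    ∃ (j : I) (φ : j ⟶ i), pullback.fst xi (D.map φ) ≫ f = pullback.fst xi (D.map φ) ≫ g := by
  haveI : ∀ k, CompactSpace ((bcDiagram D xi).obj k) := compactSpace_bc
  let J : Over i := Over.mk (𝟙 i)
  obtain ⟨k, m, hk⟩ := Scheme.exists_hom_comp_eq_comp_of_locallyOfFiniteType (bcDiagram D xi)
    (bcBase D xi) yi (sqCone hX) (isLimitSqCone hc hX) (i := J)
    (pullback.snd (D.map J.hom) xi ≫ f) (pullback.snd (D.map J.hom) xi ≫ g)
    (by simp [bcBase, hf]) (by simp [bcBase, hg])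
    ((toStage_snd_assoc hX J f).trans (h.trans (toStage_snd_assoc hX J g).symm))
  refine ⟨k.left, k.hom, ?_⟩
  have e : (bcDiagram D xi).map m ≫ pullback.snd (D.map J.hom) xi = pullback.snd (D.map k.hom) xi :=
    (pullback.lift_snd ..).trans (Category.comp_id _)
  rw [reassoc_of% e, reassoc_of% e] at hk
  rw [← pullbackSymmetry_hom_comp_snd, Category.assoc, Category.assoc, hk]

/-- A morphism between base changes to the limit comes from a stage. -/
theorem exists_hom_stage (hc : IsLimit c) [CompactSpace Xi] [QuasiSeparatedSpace Xi]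
    [LocallyOfFinitePresentation yi] (hX : IsPullback qX pX xi (c.π.app i)) {qY : Y ⟶ Yi}
    {pY : Y ⟶ c.pt} (hY : IsPullback qY pY yi (c.π.app i)) (f : X ⟶ Y) (hf : f ≫ pY = pX) :
    ∃ (j : I) (φ : j ⟶ i) (fj : pullback xi (D.map φ) ⟶ pullback yi (D.map φ))
      (sX : X ⟶ pullback xi (D.map φ)) (sY : Y ⟶ pullback yi (D.map φ)),
      fj ≫ pullback.snd yi (D.map φ) = pullback.snd xi (D.map φ) ∧
      sX ≫ pullback.fst xi (D.map φ) = qX ∧ sX ≫ pullback.snd xi (D.map φ) = pX ≫ c.π.app j ∧
      sY ≫ pullback.fst yi (D.map φ) = qY ∧ sY ≫ pullback.snd yi (D.map φ) = pY ≫ c.π.app j ∧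
      sX ≫ fj = f ≫ sY := by
  haveI : ∀ k, CompactSpace ((bcDiagram D xi).obj k) := compactSpace_bc
  haveI : ∀ k, QuasiSeparatedSpace ((bcDiagram D xi).obj k) := quasiSeparatedSpace_bc
  obtain ⟨k, g, hg, hgy⟩ := Scheme.exists_π_app_comp_eq_of_locallyOfFinitePresentation
    (bcDiagram D xi) (bcBase D xi) yi (sqCone hX) (isLimitSqCone hc hX) (f ≫ qY) (by
      ext k : 2
      show toStage hX k ≫ pullback.snd (D.map k.hom) xi ≫ xi = (f ≫ qY) ≫ yi
      rw [toStage_snd_assoc, hX.w, Category.assoc, hY.w, ← Category.assoc, hf])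
  let e := (pullbackSymmetry xi (D.map k.hom)).hom
  let fj : pullback xi (D.map k.hom) ⟶ pullback yi (D.map k.hom) :=
    pullback.lift (e ≫ g) (pullback.snd xi (D.map k.hom)) (by
      rw [Category.assoc, hgy]
      show e ≫ pullback.snd (D.map k.hom) xi ≫ xi = _
      rw [← Category.assoc, pullbackSymmetry_hom_comp_snd, pullback.condition])
  let sX : X ⟶ pullback xi (D.map k.hom) :=
    pullback.lift qX (pX ≫ c.π.app k.left) (by rw [Category.assoc, c.w, hX.w])
  let sY : Y ⟶ pullback yi (D.map k.hom) :=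
    pullback.lift qY (pY ≫ c.π.app k.left) (by rw [Category.assoc, c.w, hY.w])
  refine ⟨k.left, k.hom, fj, sX, sY, pullback.lift_snd _ _ _, pullback.lift_fst _ _ _,
    pullback.lift_snd _ _ _, pullback.lift_fst _ _ _, pullback.lift_snd _ _ _, ?_⟩
  have hs : sX ≫ e = toStage hX k := by
    apply pullback.hom_ext <;> simp [sX, e, toStage]
  apply pullback.hom_ext
  · rw [Category.assoc, Category.assoc, pullback.lift_fst, pullback.lift_fst, reassoc_of% hs]
    exact hg
  · rw [Category.assoc, Category.assoc, pullback.lift_snd, pullback.lift_snd, pullback.lift_snd,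
      reassoc_of% hf]

end Groth.L19.Limit
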