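import Groth.Agent.L19.Limit.Dominant
import Groth.Agent.L19.Limit.Descend
import Mathlib.AlgebraicGeometry.Morphisms.Immersion
import Mathlib.AlgebraicGeometry.Morphisms.Separated

/-!
# A limit which is separated over the base comes from separated stages
-/

universe u

open CategoryTheory CategoryTheory.Limits AlgebraicGeometry Topology

namespace Groth.L19.Limit

set_option backward.isDefEq.respectTransparency.types false
set_option backward.isDefEq.respectTransparency false
set_option backward.defeqAttrib.useBackward true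
set_option linter.style.haveILetI false

variable {I : Type u} [Category.{u} I] (D : I ⥤ Scheme.{u}) (c : Cone D) {i : I} {S : Scheme.{u}}
  (a : D.obj i ⟶ S)

/-- The diagram `D j ×[S] D j` over the indices `j ⟶ i`. -/
noncomputable def sqDiagram : Over i ⥤ Scheme.{u} where
  obj j := pullback (D.map j.hom ≫ a) (D.map j.hom ≫ a)
  map {j k} f := pullback.map _ _ _ _ (D.map f.left) (D.map f.left) (𝟙 _)
    (by rw [Category.comp_id, ← D.map_comp_assoc, Over.w f])
    (by rw [Category.comp_id, ← D.map_comp_assoc, Over.w f])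
  map_id j := by apply pullback.hom_ext <;> simp
  map_comp f g := by apply pullback.hom_ext <;> simp

/-- The cone with apex `lim D ×[S] lim D`. -/
noncomputable def sqProdCone : Cone (sqDiagram D a) where
  pt := pullback (c.π.app i ≫ a) (c.π.app i ≫ a)
  π :=
    { app := fun j => pullback.map _ _ _ _ (c.π.app j.left) (c.π.app j.left) (𝟙 _)
        (by rw [Category.comp_id, c.w_assoc]) (by rw [Category.comp_id, c.w_assoc])
      naturality := fun j k f => by
        apply pullback.hom_ext <;> simp [sqDiagram] }

variable {D c}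

/-- `lim D ×[S] lim D` is the limit of the `D j ×[S] D j`. -/
noncomputable def isLimitSqProdCone [IsCofiltered I] (hc : IsLimit c) :
    IsLimit (sqProdCone D c a) :=
  let hc' := (Functor.Initial.isLimitWhiskerEquiv (Over.forget i) c).symm hc
  let fstT : sqDiagram D a ⟶ Over.forget i ⋙ D :=
    { app := fun j => pullback.fst _ _
      naturality := fun j k f => by simp [sqDiagram] }
  let sndT : sqDiagram D a ⟶ Over.forget i ⋙ D :=
    { app := fun j => pullback.snd _ _
      naturality := fun j k f => by simp [sqDiagram] }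
  { lift := fun s => pullback.lift (hc'.lift ((Cone.postcompose fstT).obj s))
      (hc'.lift ((Cone.postcompose sndT).obj s)) (by
        have h1 := hc'.fac ((Cone.postcompose fstT).obj s) (Over.mk (𝟙 i))
        have h2 := hc'.fac ((Cone.postcompose sndT).obj s) (Over.mk (𝟙 i))
        simp [fstT, sndT] at h1 h2
        rw [reassoc_of% h1, reassoc_of% h2]
        have := pullback.condition (f := D.map (Over.mk (𝟙 i)).hom ≫ a)
          (g := D.map (Over.mk (𝟙 i)).hom ≫ a)
        simp at this
        simp [this])
    fac := fun s j => by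
      apply pullback.hom_ext
      · have h := hc'.fac ((Cone.postcompose fstT).obj s) j
        simpa [sqProdCone, fstT] using h
      · have h := hc'.fac ((Cone.postcompose sndT).obj s) j
        simpa [sqProdCone, sndT] using h
    uniq := fun s m hm => by
      apply pullback.hom_ext
      · rw [pullback.lift_fst]
        exact hc'.uniq ((Cone.postcompose fstT).obj s) _ fun j => by
          simp [fstT, ← hm j, sqProdCone]
      · rw [pullback.lift_snd]
        exact hc'.uniq ((Cone.postcompose sndT).obj s) _ fun j => by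
          simp [sndT, ← hm j, sqProdCone] }

variable [∀ {i j} (f : i ⟶ j), IsAffineHom (D.map f)]

instance {j k : Over i} (f : j ⟶ k) : IsAffineHom ((sqDiagram D a).map f) :=
  MorphismProperty.pullbackMap (P := @IsAffineHom) (inferInstanceAs (IsAffineHom (D.map f.left)))
    (inferInstanceAs (IsAffineHom (D.map f.left)))
    (by rw [← D.map_comp_assoc, Over.w f]) (by rw [← D.map_comp_assoc, Over.w f])

/-- A limit separated over `S` has a stage separated over `S`. -/
theorem exists_isSeparated [IsCofiltered I] (hc : IsLimit c) [CompactSpace (D.obj i)]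
    [QuasiSeparatedSpace (D.obj i)] [QuasiCompact a] [QuasiSeparated a]
    [IsSeparated (c.π.app i ≫ a)] : ∃ (j : I) (φ : j ⟶ i), IsSeparated (D.map φ ≫ a) := by
  let E := sqDiagram D a
  let R : Set ↥(pullback a a) := Set.range (pullback.diagonal a)
  let B : Set ↥(pullback a a) := (coborder R)ᶜ
  have hB : IsClosed B := (pullback.diagonal a).isLocallyClosed_range.isOpen_coborder.isClosed_compl
  let e : ∀ j : Over i, E.obj j ⟶ pullback a a := fun j =>
    pullback.map _ _ _ _ (D.map j.hom) (D.map j.hom) (𝟙 _) (by simp) (by simp)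
  have he : ∀ {j k : Over i} (f : j ⟶ k), E.map f ≫ e k = e j := fun {j k} f => by
    apply pullback.hom_ext <;> simp [E, e, sqDiagram, ← D.map_comp]
  let Δ : ∀ j : Over i, D.obj j.left ⟶ E.obj j := fun j => pullback.diagonal (D.map j.hom ≫ a)
  have hΔ : ∀ {j k : Over i} (f : j ⟶ k), Δ j ≫ E.map f = D.map f.left ≫ Δ k := fun {j k} f => by
    apply pullback.hom_ext <;> simp [E, Δ, sqDiagram]
  let J : Over i := Over.mk (𝟙 i)
  haveI : ∀ j : Over i, CompactSpace (D.obj j.left) := fun j => compactSpace_stage (D := D) j.hom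
  haveI : ∀ j : Over i, QuasiSeparatedSpace (D.obj j.left) := fun j =>
    quasiSeparatedSpace_stage (D := D) j.hom
  haveI hEc : ∀ j : Over i, CompactSpace (E.obj j) := fun j =>
    QuasiCompact.compactSpace_of_compactSpace (pullback.fst (D.map j.hom ≫ a) (D.map j.hom ≫ a))
  haveI hEs : ∀ j : Over i, QuasiSeparatedSpace (E.obj j) := fun j =>
    quasiSeparatedSpace_of_quasiSeparated (pullback.fst (D.map j.hom ≫ a) (D.map j.hom ≫ a))
  -- the closure of the diagonal avoids the boundary at some stage
  obtain ⟨j, hj⟩ : ∃ j : Over i, closure (Set.range (Δ j)) ∩ e j ⁻¹' B = ∅ := by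
    by_contra! hne
    obtain ⟨p, hp⟩ := exists_mem_of_cc (isLimitSqProdCone a hc) (i := J)
      (fun j _ => closure (Set.range (Δ j)) ∩ e j ⁻¹' B)
      (fun j _ => cc_of_isClosed (isClosed_closure.inter (hB.preimage (e j).continuous)))
      (fun j _ => hne j) (fun j k f _ z hz => by
        refine ⟨map_mem_closure (E.map f).continuous hz.1 ?_, ?_⟩
        · rintro _ ⟨x, rfl⟩
          exact ⟨D.map f.left x, (apply_comm (hΔ f).symm x)⟩
        · show e k (E.map f z) ∈ B
          rw [← Scheme.Hom.comp_apply, he f]
          exact hz.2)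
    have hp' : ∀ j : Over i, (sqProdCone D c a).π.app j p ∈ closure (Set.range (Δ j)) ∩ e j ⁻¹' B :=
      fun j => hp j (Over.homMk j.hom (by simp [J]))
    obtain ⟨s, hs⟩ : p ∈ Set.range (pullback.diagonal (c.π.app i ≫ a)) := by
      by_contra hpn
      obtain ⟨_, ⟨V', ⟨j, V, hV, rfl⟩, rfl⟩, hpV, hdisj⟩ :=
        (isBasis_preimage_isAffineOpen E (sqProdCone D c a)
          (isLimitSqProdCone a hc)).exists_subset_of_mem_open
        (show p ∈ (Set.range (pullback.diagonal (c.π.app i ≫ a)))ᶜ from hpn)
        (IsClosedEmbedding.isClosed_range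
          (IsClosedImmersion.base_closed (f := pullback.diagonal (c.π.app i ≫ a)))).isOpen_compl
      have hW : CC (X := D.obj j.left) (Δ j ⁻¹' (V : Set (E.obj j))) :=
        (cc_of_isConstructible (hV.isCompact.isConstructible V.2)).preimage (Δ j)
      have hempty : c.π.app j.left ⁻¹' (Δ j ⁻¹' (V : Set (E.obj j))) = ∅ := by
        refine Set.eq_empty_iff_forall_notMem.mpr fun s hs => ?_
        refine hdisj (a := pullback.diagonal (c.π.app i ≫ a) s) ?_ ⟨s, rfl⟩
        show (sqProdCone D c a).π.app j (pullback.diagonal (c.π.app i ≫ a) s) ∈ V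
        exact (apply_comm (show pullback.diagonal (c.π.app i ≫ a) ≫ (sqProdCone D c a).π.app j =
          c.π.app j.left ≫ Δ j by apply pullback.hom_ext <;> simp [sqProdCone, Δ]) s).symm ▸ hs
      obtain ⟨k, φ, hk⟩ := exists_preimage_eq_empty hc hW hempty
      let k' : Over i := Over.mk (φ ≫ j.hom)
      let f : k' ⟶ j := Over.homMk φ (by simp [k'])
      obtain ⟨z, hz, x, rfl⟩ : ((E.map f ⁻¹' (V : Set (E.obj j))) ∩ Set.range (Δ k')).Nonempty := by
        refine mem_closure_iff.mp (hp' k').1 _ (V.2.preimage (E.map f).continuous) ?_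
        show E.map f ((sqProdCone D c a).π.app k' p) ∈ V
        rw [← Scheme.Hom.comp_apply, (sqProdCone D c a).w]
        exact hpV
      refine Set.eq_empty_iff_forall_notMem.mp hk x ?_
      show Δ j (D.map φ x) ∈ V
      have e1 := apply_comm (hΔ f) x
      exact e1 ▸ hz
    have hB' : e J ((sqProdCone D c a).π.app J p) ∈ B := (hp' J).2
    refine hB' (subset_coborder ⟨c.π.app i s, ?_⟩)
    rw [← hs]
    exact (apply_comm (show pullback.diagonal (c.π.app i ≫ a) ≫ ((sqProdCone D c a).π.app J ≫ e J) =
      c.π.app i ≫ pullback.diagonal a by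
      apply pullback.hom_ext <;> simp [sqProdCone, e, J]) s).symm.trans (Scheme.Hom.comp_apply ..)
  -- so the diagonal is closed there
  refine ⟨j.left, j.hom, ⟨IsClosedImmersion.of_isPreimmersion _ ?_⟩⟩
  show IsClosed (Set.range (Δ j))
  let m : pullback (D.map j.hom) (D.map j.hom) ⟶ E.obj j :=
    pullback.map (D.map j.hom) (D.map j.hom) (D.map j.hom ≫ a) (D.map j.hom ≫ a) (𝟙 _) (𝟙 _) a
      (Category.id_comp _).symm (Category.id_comp _).symm
  have hsq := pullback_map_diagonal_isPullback (D.map j.hom) (D.map j.hom) a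
  haveI : IsImmersion m := MorphismProperty.of_isPullback (P := @IsImmersion) hsq inferInstance
  have hm : Set.range m = e j ⁻¹' R := range_of_isPullback hsq
  have hΔm : pullback.diagonal (D.map j.hom) ≫ m = Δ j := by
    apply pullback.hom_ext <;> simp [m, Δ]
  refine closure_subset_iff_isClosed.mp fun z hz => ?_
  have hzR : e j z ∈ R := by
    have h1 : e j z ∈ closure R := by
      refine map_mem_closure (e j).continuous hz ?_
      rintro _ ⟨x, rfl⟩
      refine ⟨D.map j.hom x, ?_⟩
      exact apply_comm (show D.map j.hom ≫ pullback.diagonal a = Δ j ≫ e j by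
        apply pullback.hom_ext <;> simp [Δ, e]) x
    by_contra h2
    refine Set.eq_empty_iff_forall_notMem.mp hj z ⟨hz, ?_⟩
    exact fun h => h ⟨h1, h2⟩
  obtain ⟨w, rfl⟩ : z ∈ Set.range m := hm.ge hzR
  haveI : IsSeparated (D.map j.hom) := inferInstance
  obtain ⟨x, rfl⟩ : w ∈ Set.range (pullback.diagonal (D.map j.hom)) := by
    rw [← (IsClosedImmersion.base_closed (f := pullback.diagonal (D.map j.hom))).isClosed_range.closure_eq,
      m.isEmbedding.closure_eq_preimage_closure_image, ← Set.range_comp]
    show m w ∈ closure (Set.range (m ∘ pullback.diagonal (D.map j.hom)))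
    have e1 : ⇑m ∘ ⇑(pullback.diagonal (D.map j.hom)) = ⇑(Δ j) := by
      rw [← hΔm]
      exact funext fun x => (Scheme.Hom.comp_apply _ _ x).symm
    rw [e1]
    exact hz
  exact ⟨x, by rw [← hΔm, Scheme.Hom.comp_apply]⟩

end Groth.L19.Limit
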