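import Mathlib.AlgebraicGeometry.AffineTransitionLimit
import Mathlib.AlgebraicGeometry.Morphisms.FinitePresentation
import Mathlib.RingTheory.FinitePresentation

/-!
# Morphisms commuting with limits of affine schemes are locally of finite presentation
-/

universe u

open CategoryTheory CategoryTheory.Limits AlgebraicGeometry Opposite

namespace Groth.L19.Limit

set_option backward.isDefEq.respectTransparency.types false
set_option backward.isDefEq.respectTransparency false
set_option backward.defeqAttrib.useBackward true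
set_option linter.style.haveILetI false

/-- Recognising filtered colimits of rings. -/
theorem isColimit_of_elements {J : Type u} [SmallCategory J] [IsFiltered J] {F : J ⥤ CommRingCat.{u}}
    (c : Cocone F) (hsurj : ∀ x : c.pt, ∃ j y, c.ι.app j y = x)
    (hinj : ∀ j (x y : F.obj j), c.ι.app j x = c.ι.app j y →
      ∃ (k : J) (m : j ⟶ k), F.map m x = F.map m y) : Nonempty (IsColimit c) := by
  haveI : ReflectsFilteredColimits (forget CommRingCat.{u}) :=
    ⟨fun _ => reflectsColimitsOfShape_of_reflectsIsomorphisms⟩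
  exact ReflectsColimit.reflects (F := forget _) (Types.FilteredColimit.isColimitOf' _ _
    (fun x => by obtain ⟨j, y, hy⟩ := hsurj x; exact ⟨j, y, hy.symm⟩)
    (fun j x y e => by obtain ⟨k, m, hm⟩ := hinj j x y e; exact ⟨k, m, hm⟩))

/-- Surjectivity of `colim Mor(T_j, X) → Mor(lim T_j, X)` for systems of affine schemes. -/
def LiftsSystems {X S : Scheme.{u}} (f : X ⟶ S) : Prop :=
  ∀ (J : Type u) [Preorder J] [IsDirected J (· ≤ ·)] [Nonempty J] (D : Jᵒᵖ ⥤ Scheme.{u})
    (t : D ⟶ (Functor.const Jᵒᵖ).obj S) (c : Cone D) (_ : IsLimit c),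
    (∀ j, IsAffine (D.obj j)) → ∀ (j₀ : Jᵒᵖ) (g : c.pt ⟶ X), g ≫ f = c.π.app j₀ ≫ t.app j₀ →
      ∃ (j : Jᵒᵖ) (gj : D.obj j ⟶ X), gj ≫ f = t.app j ∧ c.π.app j ≫ gj = g

variable {X S : Scheme.{u}} {f : X ⟶ S}

theorem LiftsSystems.exists_retraction (h : LiftsSystems f) {W : S.Opens} (hW : IsAffineOpen W)
    {U : X.Opens} (hU : IsAffineOpen U) (e : U ≤ f ⁻¹ᵁ W) {J : Type u} [Preorder J]
    [IsDirected J (· ≤ ·)] [Nonempty J] (F : J ⥤ CommRingCat.{u})
    (ρ : ∀ j, Γ(S, W) ⟶ F.obj j) (hρ : ∀ {i j} (m : i ⟶ j), ρ i ≫ F.map m = ρ j)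
    (ι : ∀ j, F.obj j ⟶ Γ(X, U)) (hι : ∀ {i j} (m : i ⟶ j), F.map m ≫ ι j = ι i)
    (hρι : ∀ j, ρ j ≫ ι j = f.appLE W U e) (hsurj : ∀ x, ∃ j y, ι j y = x)
    (hinj : ∀ j (x y : F.obj j), ι j x = ι j y → ∃ (k : J) (m : j ⟶ k), F.map m x = F.map m y) :
    ∃ (k : J) (r : Γ(X, U) ⟶ F.obj k), f.appLE W U e ≫ r = ρ k ∧ r ≫ ι k = 𝟙 _ := by
  haveI : IsFiltered J := inferInstance
  let cc : Cocone F := ⟨Γ(X, U), { app := ι, naturality := fun i j m => by simp [hι m] }⟩
  obtain ⟨hcc⟩ := isColimit_of_elements cc hsurj hinj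
  haveI : PreservesLimitsOfSize.{u, u} Scheme.Spec.{u} := ΓSpec.adjunction.rightAdjoint_preservesLimits
  let D : Jᵒᵖ ⥤ Scheme.{u} := F.op ⋙ Scheme.Spec
  let c : Cone D := Scheme.Spec.mapCone cc.op
  have hc : IsLimit c := isLimitOfPreserves Scheme.Spec hcc.op
  haveI : ∀ j, IsAffine (D.obj j) := fun j => inferInstanceAs (IsAffine (Spec _))
  haveI : ∀ {i j} (m : i ⟶ j), IsAffineHom (D.map m) := fun m => inferInstance
  let t : D ⟶ (Functor.const Jᵒᵖ).obj S :=
    { app := fun j => Spec.map (ρ j.unop) ≫ hW.fromSpec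
      naturality := fun i j m => by
        show Spec.map (F.map m.unop) ≫ Spec.map (ρ j.unop) ≫ hW.fromSpec = _
        rw [← Category.assoc, ← Spec.map_comp, hρ]
        simp }
  let j₀ : Jᵒᵖ := op (Classical.arbitrary J)
  obtain ⟨j, gj, hgf, hg⟩ := h J D t c hc (fun j => inferInstance) j₀ hU.fromSpec (by
    show hU.fromSpec ≫ f = Spec.map (ι j₀.unop) ≫ Spec.map (ρ j₀.unop) ≫ hW.fromSpec
    rw [← Category.assoc, ← Spec.map_comp, hρι, hW.SpecMap_appLE_fromSpec f hU e])
  obtain ⟨k, m, hk⟩ := exists_map_eq_top D c hc (gj ⁻¹ᵁ U) (by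
    rw [← Scheme.Hom.comp_preimage, hg]
    exact hU.fromSpec_preimage_self)
  have hr : Set.range (D.map m ≫ gj) ⊆ Set.range hU.fromSpec := by
    rw [hU.range_fromSpec]
    rintro _ ⟨x, rfl⟩
    have hx : x ∈ D.map m ⁻¹ᵁ (gj ⁻¹ᵁ U) := by rw [hk]; trivial
    rw [Scheme.Hom.comp_apply]
    exact hx
  let l : D.obj k ⟶ Spec Γ(X, U) := IsOpenImmersion.lift hU.fromSpec (D.map m ≫ gj) hr
  have hl : l ≫ hU.fromSpec = D.map m ≫ gj := IsOpenImmersion.lift_fac _ _ _
  obtain ⟨r, hrl⟩ := Spec.map_surjective (R := Γ(X, U)) (S := F.obj k.unop) l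
  refine ⟨k.unop, r, Spec.map_injective ?_, Spec.map_injective ?_⟩
  · rw [← cancel_mono hW.fromSpec, Spec.map_comp, Category.assoc, hW.SpecMap_appLE_fromSpec f hU e,
      hrl, reassoc_of% hl, hgf]
    exact (t.naturality m).trans (Category.comp_id _)
  · rw [← cancel_mono hU.fromSpec, Spec.map_comp, Category.assoc, hrl, hl, Spec.map_id,
      Category.id_comp]
    exact (c.w_assoc m gj).trans hg

theorem LiftsSystems.finiteType_appLE (h : LiftsSystems f) {W : S.Opens} (hW : IsAffineOpen W)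
    {U : X.Opens} (hU : IsAffineOpen U) (e : U ≤ f ⁻¹ᵁ W) : (f.appLE W U e).hom.FiniteType := by
  classical
  letI := (f.appLE W U e).hom.toAlgebra
  let F : Finset Γ(X, U) ⥤ CommRingCat.{u} :=
    { obj := fun s => CommRingCat.of (Algebra.adjoin Γ(S, W) (s : Set Γ(X, U)))
      map := fun {s t} m => CommRingCat.ofHom
        (Subalgebra.inclusion (Algebra.adjoin_mono (Finset.coe_subset.mpr m.le))).toRingHom
      map_id := fun s => rfl
      map_comp := fun m n => rfl }
  obtain ⟨k, r, -, hr⟩ := h.exists_retraction hW hU e F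
    (fun s => CommRingCat.ofHom (algebraMap Γ(S, W) (Algebra.adjoin Γ(S, W) (s : Set Γ(X, U)))))
    (fun m => rfl) (fun s => CommRingCat.ofHom (Algebra.adjoin Γ(S, W) (s : Set Γ(X, U))).val.toRingHom)
    (fun m => rfl) (fun s => rfl)
    (fun x => ⟨{x}, ⟨x, Algebra.subset_adjoin (by simp)⟩, rfl⟩)
    (fun j x y hxy => ⟨j, 𝟙 j, congrArg _ (Subtype.ext hxy)⟩)
  refine ⟨⟨k, eq_top_iff.mpr fun x _ => ?_⟩⟩
  have : ((r x : Algebra.adjoin Γ(S, W) (k : Set Γ(X, U))) : Γ(X, U)) = x := congr($hr x)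
  rw [← this]
  exact (r x).2

theorem LiftsSystems.finitePresentation_appLE (h : LiftsSystems f) {W : S.Opens}
    (hW : IsAffineOpen W) {U : X.Opens} (hU : IsAffineOpen U) (e : U ≤ f ⁻¹ᵁ W) :
    (f.appLE W U e).hom.FinitePresentation := by
  classical
  letI := (f.appLE W U e).hom.toAlgebra
  haveI : Algebra.FiniteType Γ(S, W) Γ(X, U) := h.finiteType_appLE hW hU e
  obtain ⟨n, π, hπ⟩ := Algebra.FiniteType.iff_quotient_mvPolynomial''.mp
    (inferInstance : Algebra.FiniteType Γ(S, W) Γ(X, U))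
  let P := MvPolynomial (Fin n) Γ(S, W)
  let K : Finset (RingHom.ker π.toRingHom) → Ideal P := fun s => Ideal.span (Subtype.val '' (s : Set (RingHom.ker π.toRingHom)))
  have hK : ∀ {s t : Finset (RingHom.ker π.toRingHom)}, s ≤ t → K s ≤ K t := fun hst =>
    Ideal.span_mono (Set.image_mono (Finset.coe_subset.mpr hst))
  have hKπ : ∀ s, K s ≤ RingHom.ker π.toRingHom := fun s =>
    Ideal.span_le.mpr (by rintro _ ⟨x, -, rfl⟩; exact x.2)
  let F : Finset (RingHom.ker π.toRingHom) ⥤ CommRingCat.{u} :=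
    { obj := fun s => CommRingCat.of (P ⧸ K s)
      map := fun {s t} m => CommRingCat.ofHom (Ideal.Quotient.factor (hK m.le))
      map_id := fun s => CommRingCat.hom_ext (RingHom.ext fun x => by
        obtain ⟨x, rfl⟩ := Ideal.Quotient.mk_surjective x; rfl)
      map_comp := fun m n => CommRingCat.hom_ext (RingHom.ext fun x => by
        obtain ⟨x, rfl⟩ := Ideal.Quotient.mk_surjective x; rfl) }
  let ι : ∀ s, F.obj s ⟶ Γ(X, U) := fun s =>
    CommRingCat.ofHom (Ideal.Quotient.lift (K s) π.toRingHom (hKπ s))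
  let ρ : ∀ s, Γ(S, W) ⟶ F.obj s := fun s => CommRingCat.ofHom (algebraMap Γ(S, W) (P ⧸ K s))
  have hfac : ∀ {s t} (m : s ⟶ t) (p : P), F.map m (Ideal.Quotient.mk (K s) p) =
      Ideal.Quotient.mk (K t) p := fun m p => rfl
  have hιmk : ∀ s (p : P), ι s (Ideal.Quotient.mk (K s) p) = π p := fun s p => rfl
  obtain ⟨k, r, hr1, hr2⟩ := h.exists_retraction hW hU e F ρ
    (fun {i j} m => by ext x; exact hfac m _) ι
    (fun {i j} m => CommRingCat.hom_ext (RingHom.ext fun x => by
        obtain ⟨x, rfl⟩ := Ideal.Quotient.mk_surjective x; rfl))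
    (fun s => by ext x; exact π.commutes x)
    (fun x => by obtain ⟨p, rfl⟩ := hπ x; exact ⟨∅, Ideal.Quotient.mk _ p, rfl⟩)
    (fun j x y hxy => by
      obtain ⟨x, rfl⟩ := Ideal.Quotient.mk_surjective x
      obtain ⟨y, rfl⟩ := Ideal.Quotient.mk_surjective y
      have hd : x - y ∈ RingHom.ker π.toRingHom := by
        rw [RingHom.mem_ker, map_sub, sub_eq_zero]; exact hxy
      refine ⟨insert ⟨x - y, hd⟩ j, homOfLE (Finset.subset_insert _ _),
        Ideal.Quotient.eq.mpr (Ideal.subset_span ?_)⟩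
      exact ⟨⟨x - y, hd⟩, Finset.mem_insert_self _ _, rfl⟩)
  -- choose representatives of the images of the variables
  choose q hq using fun v : Fin n => Ideal.Quotient.mk_surjective (r (π (MvPolynomial.X v)))
  have hd : ∀ v, MvPolynomial.X v - q v ∈ RingHom.ker π.toRingHom := fun v => by
    rw [RingHom.mem_ker, map_sub, sub_eq_zero]
    have h2 : ι k (r (π (MvPolynomial.X v))) = π (MvPolynomial.X v) := congr($hr2 _)
    rw [← hq v, hιmk] at h2
    exact h2.symm
  let l : Finset (RingHom.ker π.toRingHom) := k ∪ Finset.univ.image fun v => ⟨_, hd v⟩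
  let m : k ⟶ l := homOfLE Finset.subset_union_left
  let r' : Γ(X, U) ⟶ F.obj l := r ≫ F.map m
  let r'' : Γ(X, U) →ₐ[Γ(S, W)] P ⧸ K l :=
    { r'.hom with
      commutes' := fun x => by
        show F.map m (r (f.appLE W U e x)) = _
        rw [show r (f.appLE W U e x) = ρ k x from congr($hr1 x)]
        exact hfac m _ }
  have hkey : (r''.comp π) = Ideal.Quotient.mkₐ Γ(S, W) (K l) := MvPolynomial.algHom_ext fun v => by
    show F.map m (r (π (MvPolynomial.X v))) = Ideal.Quotient.mk (K l) (MvPolynomial.X v)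
    rw [← hq v, hfac]
    refine (Ideal.Quotient.eq.mpr (Ideal.subset_span ?_)).symm
    exact ⟨⟨_, hd v⟩, Finset.mem_union_right _ (Finset.mem_image_of_mem _ (Finset.mem_univ v)), rfl⟩
  have hinj : RingHom.ker π.toRingHom = K l := le_antisymm (fun p hp => by
    refine Ideal.Quotient.eq_zero_iff_mem.mp ?_
    rw [← show (r''.comp π) p = Ideal.Quotient.mk (K l) p from congr($hkey p)]
    show r'' (π p) = 0
    rw [show π p = 0 from hp, map_zero]) (hKπ l)
  exact Algebra.FinitePresentation.of_surjective hπ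
    (hinj ▸ ⟨l.image Subtype.val, by rw [Finset.coe_image]⟩)

theorem LiftsSystems.locallyOfFinitePresentation (h : LiftsSystems f) :
    LocallyOfFinitePresentation f :=
  (HasRingHomProperty.iff_appLE (P := @LocallyOfFinitePresentation)).mpr fun W U e =>
    h.finitePresentation_appLE W.2 U.2 e

end Groth.L19.Limit
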