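import Groth.Agent.L19.Limit.Fixed
import Groth.Agent.L19.Limit.Descend
import Mathlib.AlgebraicGeometry.Morphisms.Immersion

/-!
# Immersions into a fixed base along cofiltered limits
-/

universe u

open CategoryTheory CategoryTheory.Limits AlgebraicGeometry Topology

namespace Groth.L19.Limit

set_option backward.isDefEq.respectTransparency.types false
set_option backward.isDefEq.respectTransparency false
set_option backward.defeqAttrib.useBackward true
set_option linter.style.haveILetI false

variable {I : Type u} [Category.{u} I] [IsCofiltered I] {D : I ⥤ Scheme.{u}} {c : Cone D}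
  [∀ {i j} (f : i ⟶ j), IsAffineHom (D.map f)]

theorem exists_compact_open_coborder {X : Scheme.{u}} {R : Set X} (hR : IsCompact R)
    (hR' : IsLocallyClosed R) : ∃ W : X.Opens, IsCompact (W : Set X) ∧ R ⊆ W ∧
      (W : Set X) ⊆ coborder R := by
  choose V hV hxV hVco using fun x : R =>
    TopologicalSpace.Opens.isBasis_iff_nbhd.mp X.isBasis_affineOpens
      (show x.1 ∈ (⟨coborder R, hR'.isOpen_coborder⟩ : X.Opens) from subset_coborder x.2)
  obtain ⟨t, ht⟩ := hR.elim_finite_subcover (fun x : R => (V x : Set X)) (fun x => (V x).2)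
    (fun x hx => Set.mem_iUnion.mpr ⟨⟨x, hx⟩, hxV _⟩)
  exact ⟨⟨⋃ x ∈ t, (V x : Set X), isOpen_biUnion fun x _ => (V x).2⟩,
    t.finite_toSet.isCompact_biUnion fun x _ => (hV x).isCompact, ht,
    Set.iUnion₂_subset fun x _ => hVco x⟩

/-- An immersion in the limit comes from immersions of stages, for closed immersion transition
maps. -/
theorem exists_isImmersion (hc : IsLimit c) [∀ j, CompactSpace (D.obj j)]
    [∀ j, QuasiSeparatedSpace (D.obj j)]
    (htr : ∀ {i j} (f : i ⟶ j), IsClosedImmersion (D.map f)) {i : I} {S : Scheme.{u}}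
    [QuasiSeparatedSpace S] (a : D.obj i ⟶ S) [LocallyOfFiniteType a]
    [IsImmersion (c.π.app i ≫ a)] : ∃ (j : I) (φ : j ⟶ i), IsImmersion (D.map φ ≫ a) := by
  haveI := compactSpace_pt hc i
  let p : c.pt ⟶ S := c.π.app i ≫ a
  haveI : IsImmersion p := ‹IsImmersion (c.π.app i ≫ a)›
  obtain ⟨W, hW, hpW, hWco⟩ :=
    exists_compact_open_coborder (isCompact_range p.continuous) p.isLocallyClosed_range
  obtain ⟨k, φ, hk⟩ := exists_map_eq_top D c hc (a ⁻¹ᵁ W) (eq_top_iff.mpr fun x _ => by
    have := hpW ⟨x, rfl⟩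
    rw [Scheme.Hom.comp_apply] at this
    exact this)
  let a' : D.obj k ⟶ W := IsOpenImmersion.lift W.ι (D.map φ ≫ a) (by
    rw [Scheme.Opens.range_ι]
    rintro _ ⟨x, rfl⟩
    have hx : x ∈ D.map φ ⁻¹ᵁ (a ⁻¹ᵁ W) := by rw [hk]; trivial
    rw [Scheme.Hom.comp_apply]
    exact hx)
  have ha' : a' ≫ W.ι = D.map φ ≫ a := IsOpenImmersion.lift_fac _ _ _
  haveI := htr φ
  haveI : CompactSpace W.toScheme := isCompact_iff_compactSpace.mp hW
  haveI : QuasiSeparatedSpace W.toScheme :=
    (isQuasiSeparated_iff_quasiSeparatedSpace _ W.2).mp (.of_quasiSeparatedSpace _)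
  haveI : LocallyOfFiniteType (a' ≫ W.ι) := by rw [ha']; infer_instance
  haveI : LocallyOfFiniteType a' := locallyOfFiniteType_of_comp a' W.ι
  haveI : QuasiCompact a' := quasiCompact_of_compactSpace a'
  haveI : IsClosedImmersion (c.π.app k ≫ a') := by
    have e : (c.π.app k ≫ a') ≫ W.ι = p := by rw [Category.assoc, ha', c.w_assoc]
    haveI : IsImmersion ((c.π.app k ≫ a') ≫ W.ι) := e ▸ inferInstance
    haveI : IsImmersion (c.π.app k ≫ a') := IsImmersion.of_comp _ W.ι
    refine IsClosedImmersion.of_isPreimmersion _ ?_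
    have hr : Set.range (c.π.app k ≫ a') = W.ι ⁻¹' closure (Set.range p) := by
      ext x
      have happ : ∀ y, W.ι ((c.π.app k ≫ a') y) = p y := fun y =>
        (Scheme.Hom.comp_apply (c.π.app k ≫ a') W.ι y).symm.trans (congrArg (fun m : c.pt ⟶ S => m y) e)
      refine ⟨fun ⟨y, hy⟩ => subset_closure ⟨y, ?_⟩, fun hx => ?_⟩
      · rw [← hy]; exact (happ y).symm
      · have hx' : W.ι x ∈ Set.range p := by
          by_contra hn
          exact hWco x.2 ⟨hx, hn⟩
        obtain ⟨y, hy⟩ := hx'
        refine ⟨y, W.ι.isEmbedding.injective ?_⟩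
        rw [← hy]; exact happ y
    rw [hr]
    exact isClosed_closure.preimage W.ι.continuous
  obtain ⟨l, m, hl⟩ := exists_isClosedImmersion hc htr a'
  refine ⟨l, m ≫ φ, ?_⟩
  rw [D.map_comp, Category.assoc, ← ha', ← Category.assoc]
  haveI := hl
  infer_instance

end Groth.L19.Limit
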