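import Groth.Agent.L19.Limit.Ample
import Groth.Agent.L19.Limit.Pullback
import Groth.Agent.L18.RelAmpleOps

/-!
# Relative ampleness descends along cofiltered limits
-/

set_option autoImplicit false
set_option linter.style.haveILetI false
set_option linter.unusedSectionVars false
set_option backward.isDefEq.respectTransparency false
set_option backward.isDefEq.respectTransparency.types false
set_option backward.defeqAttrib.useBackward true

universe u

open CategoryTheory CategoryTheory.Limits AlgebraicGeometry TopologicalSpace Opposite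

noncomputable section

namespace Groth.L19.Limit

open Groth.L18.Ample

variable {X Y Z : Scheme.{u}}

/-- iterated pullbacks and ampleness -/
theorem isAmple_pullback_comp_iff (u : X ⟶ Y) (v : Y ⟶ Z) {w : X ⟶ Z} (h : u ≫ v = w) (L : Z.Modules) :
    CohB1.IsAmple ((Scheme.Modules.pullback u).obj ((Scheme.Modules.pullback v).obj L)) ↔
      CohB1.IsAmple ((Scheme.Modules.pullback w).obj L) :=
  let e := (Scheme.Modules.pullbackComp u v ≪≫ Scheme.Modules.pullbackCongr h).app L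
  ⟨isAmple_of_iso e, isAmple_of_iso e.symm⟩

/-- Ampleness over the preimage of an open, as ampleness on a fibre product. -/
theorem isAmple_restrict_preimage_iff {T S P : Scheme.{u}} {a : X ⟶ S} {t : T ⟶ S} {pX : P ⟶ X}
    {pr : P ⟶ T} (sq : IsPullback pX pr a t) (A : X.Opens) (L : X.Modules) :
    CohB1.IsAmple (((Scheme.Modules.pullback pX).obj L).restrict (pX ⁻¹ᵁ A).ι) ↔
      CohB1.IsAmple ((Scheme.Modules.pullback (pullback.snd t (A.ι ≫ a) ≫ A.ι)).obj L) := by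
  have h1 : IsPullback (pX ∣_ A) ((pX ⁻¹ᵁ A).ι ≫ pr) (A.ι ≫ a) t :=
    (isPullback_morphismRestrict pX A).paste_vert sq
  rw [isAmple_restrict_iff_pullback, isAmple_pullback_comp_iff _ _ rfl]
  refine isAmple_pullback_congr (h1.flip.isoPullback) _ _ ?_
  rw [IsPullback.isoPullback_hom_snd_assoc]
  exact morphismRestrict_ι pX A

/-- Relative ampleness is stable under base change, for any cartesian square. -/
theorem isRelAmple_of_isPullback {X' Y' : Scheme.{u}} {f : X ⟶ Y} {f' : X' ⟶ Y'} {p : Y' ⟶ Y}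
    {q : X' ⟶ X} (sq : IsPullback q f' f p) {L : X.Modules} (h : RelAmple.IsRelAmple f L) :
    RelAmple.IsRelAmple f' ((Scheme.Modules.pullback q).obj L) := by
  haveI := h.1
  have h' := isRelAmple_baseChange f p h
  haveI : QuasiCompact f' := MorphismProperty.of_isPullback sq h.1
  refine isRelAmple_of_local f' fun y => ?_
  obtain ⟨V, hV, hyV, -⟩ := exists_affine_le (Opens.mem_top y)
  refine ⟨V, hV, hyV, ?_⟩
  have h2 := (isAmple_pullback_comp_iff _ _ rfl L).1 ((isAmple_restrict_iff_pullback _).1 (h'.2 ⟨V, hV⟩))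
  rw [isAmple_restrict_iff_pullback, isAmple_pullback_comp_iff _ _ rfl]
  have sq1 : IsPullback ((f' ⁻¹ᵁ V).ι ≫ q) (f' ∣_ V) f (V.ι ≫ p) :=
    (isPullback_morphismRestrict f' V).flip.paste_horiz sq
  have sq2 : IsPullback ((pullback.snd f p ⁻¹ᵁ V).ι ≫ pullback.fst f p) (pullback.snd f p ∣_ V) f (V.ι ≫ p) :=
    (isPullback_morphismRestrict (pullback.snd f p) V).flip.paste_horiz (IsPullback.of_hasPullback f p)
  exact (isAmple_pullback_congr (sq1.isoIsPullback _ _ sq2) _ _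
    (IsPullback.isoIsPullback_hom_fst _ _ _ _)).2 h2

variable {I : Type u} [Category.{u} I] [IsCofiltered I] {D : I ⥤ Scheme.{u}} {c : Cone D}
  [∀ {i j} (f : i ⟶ j), IsAffineHom (D.map f)] {i : I} {X₀ Y₀ : Scheme.{u}}

omit [IsCofiltered I] in
/-- Relative ampleness at a stage gives it in the limit. -/
theorem isRelAmple_of_stage {f₀ : X₀ ⟶ Y₀} {g₀ : Y₀ ⟶ D.obj i} {L₀ : X₀.Modules}
    {X Y : Scheme.{u}} {qY : Y ⟶ Y₀} {qX : X ⟶ X₀} {f : X ⟶ Y} {g : Y ⟶ c.pt}
    (hY : IsPullback qY g g₀ (c.π.app i)) (hX : IsPullback qX f f₀ qY)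
    {j : I} {φ : j ⟶ i} {Xj Yj : Scheme.{u}} {fj : Xj ⟶ Yj} {gj : Yj ⟶ D.obj j} {pY : Yj ⟶ Y₀}
    {pX : Xj ⟶ X₀} (h1 : IsPullback pY gj g₀ (D.map φ)) (h2 : IsPullback pX fj f₀ pY)
    (hP : RelAmple.IsRelAmple fj ((Scheme.Modules.pullback pX).obj L₀)) :
    RelAmple.IsRelAmple f ((Scheme.Modules.pullback qX).obj L₀) := by
  let s : Y ⟶ Yj := h1.lift qY (g ≫ c.π.app j) (by rw [Category.assoc, c.w]; exact hY.w)
  have hs : s ≫ pY = qY := h1.lift_fst _ _ _
  have hX' : IsPullback qX f f₀ (s ≫ pY) := by rw [hs]; exact hX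
  let r : X ⟶ Xj := h2.lift qX (f ≫ s) (by rw [Category.assoc]; exact hX'.w)
  have hr : r ≫ pX = qX := h2.lift_fst _ _ _
  have sq : IsPullback r f fj s :=
    IsPullback.of_right (by rw [hr]; exact hX') (h2.lift_snd _ _ _) h2
  have h := isRelAmple_of_isPullback sq hP
  refine ⟨h.1, fun V => ?_⟩
  have := h.2 V
  rw [isAmple_restrict_iff_pullback, isAmple_pullback_comp_iff _ _ rfl,
    isAmple_pullback_comp_iff _ _ rfl] at this
  rw [isAmple_restrict_iff_pullback, isAmple_pullback_comp_iff _ _ rfl]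
  rwa [Category.assoc, hr] at this

/-- The ampleness over an open descends to a stage. -/
theorem exists_stage_ample_open (hc : IsLimit c) [CompactSpace (D.obj i)] (a : X₀ ⟶ D.obj i)
    [QuasiCompact a] (L₀ : X₀.Modules) (hL₀ : PicF.IsInvertible L₀) (A : X₀.Opens)
    [CompactSpace (A : Scheme.{u})] [QuasiSeparatedSpace (A : Scheme.{u})] {X : Scheme.{u}} {qX : X ⟶ X₀}
    {p : X ⟶ c.pt} (sq : IsPullback qX p a (c.π.app i))
    (h : CohB1.IsAmple (((Scheme.Modules.pullback qX).obj L₀).restrict (qX ⁻¹ᵁ A).ι)) :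
    ∃ (j : I) (φ : j ⟶ i), ∀ (k : I) (ψ : k ⟶ j), CohB1.IsAmple
      ((Scheme.Modules.pullback (pullback.snd (D.map (ψ ≫ φ)) (A.ι ≫ a) ≫ A.ι)).obj L₀) := by
  let aA : (A : Scheme.{u}) ⟶ D.obj i := A.ι ≫ a
  haveI : ∀ j, CompactSpace ((bcDiagram D aA).obj j) := fun j =>
    QuasiCompact.compactSpace_of_compactSpace (pullback.snd (D.map j.hom) aA)
  haveI : ∀ j, QuasiSeparatedSpace ((bcDiagram D aA).obj j) := fun j =>
    quasiSeparatedSpace_of_quasiSeparated (pullback.snd (D.map j.hom) aA)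
  let J : Over i := Over.mk (𝟙 i)
  let w : (bcDiagram D aA).obj J ⟶ X₀ := pullback.snd (D.map J.hom) aA ≫ A.ι
  have hw : (bcCone D c aA).π.app J ≫ w = pullback.snd (c.π.app i) aA ≫ A.ι := by
    show _ ≫ pullback.snd (D.map J.hom) aA ≫ A.ι = _
    rw [← Category.assoc]
    simp [bcCone]
  have hA : CohB1.IsAmple ((Scheme.Modules.pullback ((bcCone D c aA).π.app J)).obj
      ((Scheme.Modules.pullback w).obj L₀)) := by
    rw [isAmple_pullback_comp_iff _ _ hw]
    exact (isAmple_restrict_preimage_iff sq A L₀).1 h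
  obtain ⟨j, m, hj⟩ := exists_isAmple (bcDiagram D aA) (bcCone D c aA) (isLimitBcCone aA hc) (i := J)
    _ (isInvertible_pullback w hL₀) hA
  have hm : (bcDiagram D aA).map m ≫ w = pullback.snd (D.map j.hom) aA ≫ A.ι := by
    show _ ≫ pullback.snd (D.map J.hom) aA ≫ A.ι = _
    rw [← Category.assoc]
    simp [bcDiagram]
  rw [atStage, isAmple_pullback_comp_iff _ _ hm] at hj
  refine ⟨j.left, j.hom, fun k ψ => ?_⟩
  let K : Over i := Over.mk (ψ ≫ j.hom)
  let M : (bcDiagram D aA).obj K ⟶ (bcDiagram D aA).obj j := (bcDiagram D aA).map (Over.homMk ψ)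
  have := isAmple_pullback_of_isAffineHom M hj
  refine (isAmple_pullback_comp_iff M _ ?_ L₀).1 this
  show _ ≫ pullback.snd (D.map j.hom) aA ≫ A.ι = _
  rw [← Category.assoc]
  simp [M, bcDiagram, K, aA]

/-- Relative ampleness descends to a stage. -/
theorem exists_stage_isRelAmple (hc : IsLimit c) [CompactSpace (D.obj i)] (f₀ : X₀ ⟶ Y₀)
    (g₀ : Y₀ ⟶ D.obj i) [CompactSpace Y₀] [QuasiCompact f₀] [QuasiSeparated f₀]
    [QuasiCompact (f₀ ≫ g₀)]
    (L₀ : X₀.Modules) (hL₀ : PicF.IsInvertible L₀) {X Y : Scheme.{u}} {qY : Y ⟶ Y₀} {qX : X ⟶ X₀}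
    {f : X ⟶ Y} {g : Y ⟶ c.pt} (hY : IsPullback qY g g₀ (c.π.app i)) (hX : IsPullback qX f f₀ qY)
    (h : RelAmple.IsRelAmple f ((Scheme.Modules.pullback qX).obj L₀)) :
    ∃ (j : I) (φ : j ⟶ i) (Xj Yj : Scheme.{u}) (fj : Xj ⟶ Yj) (gj : Yj ⟶ D.obj j) (pY : Yj ⟶ Y₀)
      (pX : Xj ⟶ X₀), IsPullback pY gj g₀ (D.map φ) ∧ IsPullback pX fj f₀ pY ∧
        RelAmple.IsRelAmple fj ((Scheme.Modules.pullback pX).obj L₀) := by
  classical
  haveI : IsAffineHom (c.π.app i) := isAffineHom_π_app D c hc i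
  haveI : IsAffineHom qY := MorphismProperty.of_isPullback hY.flip inferInstance
  obtain ⟨n, W, hW, hcov⟩ := Groth.L19.LimMod.exists_affine_cover Y₀
  have hA : ∀ a, CompactSpace (f₀ ⁻¹ᵁ W a : Scheme.{u}) := fun a =>
    isCompact_iff_compactSpace.mp (f₀.isCompact_preimage (hW a).isCompact)
  have hA' : ∀ a, QuasiSeparatedSpace (f₀ ⁻¹ᵁ W a : Scheme.{u}) := fun a => by
    haveI : IsAffine (W a : Scheme.{u}) := hW a
    exact quasiSeparatedSpace_of_quasiSeparated (f₀ ∣_ W a)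
  have key : ∀ a, ∃ (j : I) (φ : j ⟶ i), ∀ (k : I) (ψ : k ⟶ j), CohB1.IsAmple
      ((Scheme.Modules.pullback (pullback.snd (D.map (ψ ≫ φ)) ((f₀ ⁻¹ᵁ W a).ι ≫ f₀ ≫ g₀) ≫
        (f₀ ⁻¹ᵁ W a).ι)).obj L₀) := by
    intro a
    haveI := hA a
    haveI := hA' a
    refine exists_stage_ample_open hc (f₀ ≫ g₀) L₀ hL₀ (f₀ ⁻¹ᵁ W a) (hX.paste_vert hY) ?_
    have e : qX ⁻¹ᵁ (f₀ ⁻¹ᵁ W a) = f ⁻¹ᵁ (qY ⁻¹ᵁ W a) := by
      rw [← Scheme.Hom.comp_preimage, ← Scheme.Hom.comp_preimage, hX.w]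
    rw [isAmple_restrict_congr e]
    exact h.2 ⟨_, (hW a).preimage qY⟩
  choose j φ hj using key
  obtain ⟨k, φk, hk⟩ := Groth.L19.LimMod.exists_common D j φ
  choose m hm using hk
  refine ⟨k, φk, pullback (D.map φk) (f₀ ≫ g₀), pullback (D.map φk) g₀, stageHom f₀ g₀ (Over.mk φk),
    pullback.fst _ _, pullback.snd _ _, pullback.snd _ _,
    (IsPullback.of_hasPullback (D.map φk) g₀).flip, isPullback_stageHom f₀ g₀ (Over.mk φk), ?_⟩
  haveI : QuasiCompact (stageHom f₀ g₀ (Over.mk φk)) :=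
    MorphismProperty.of_isPullback (isPullback_stageHom f₀ g₀ (Over.mk φk)) inferInstance
  haveI : IsAffineHom (pullback.snd (D.map φk) g₀) :=
    MorphismProperty.pullback_snd (P := @IsAffineHom) _ _ inferInstance
  refine isRelAmple_of_local _ fun y => ?_
  obtain ⟨a, ha⟩ := hcov (pullback.snd (D.map φk) g₀ y)
  refine ⟨pullback.snd (D.map φk) g₀ ⁻¹ᵁ W a, (hW a).preimage _, ha, ?_⟩
  have e : stageHom f₀ g₀ (Over.mk φk) ⁻¹ᵁ (pullback.snd (D.map φk) g₀ ⁻¹ᵁ W a) =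
      pullback.snd (D.map φk) (f₀ ≫ g₀) ⁻¹ᵁ (f₀ ⁻¹ᵁ W a) := by
    rw [← Scheme.Hom.comp_preimage, ← Scheme.Hom.comp_preimage]
    exact congrArg (fun z => z ⁻¹ᵁ W a) (stageHom_snd f₀ g₀ (Over.mk φk))
  refine (isAmple_restrict_congr e).2 ?_
  refine (isAmple_restrict_preimage_iff (IsPullback.of_hasPullback (D.map φk) (f₀ ≫ g₀)).flip _ L₀).2 ?_
  have := hj a k (m a)
  rwa [hm] at this

end Groth.L19.Limit
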