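import Groth.Agent.L19.Limit.Proper
import Groth.Agent.L19.ImmLift

/-!
# Descent of properness of closed subsets along cofiltered limits
-/

universe u

open CategoryTheory CategoryTheory.Limits AlgebraicGeometry IsLocalRing

namespace Groth.L19.Limit

set_option backward.isDefEq.respectTransparency.types false
set_option backward.isDefEq.respectTransparency false
set_option backward.defeqAttrib.useBackward true
set_option linter.style.haveILetI false

/-- The generic point of the spectrum of a valuation ring specializes to every point. -/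
theorem ValPair.η_specializes {X T : Scheme.{u}} (P : ValPair X T)
    (p : ↥(Spec (CommRingCat.of P.R))) : P.η (closedPoint P.K) ⤳ p := by
  rw [← PrimeSpectrum.le_iff_specializes]
  intro a (ha : algebraMap P.R P.K a ∈ (closedPoint P.K).asIdeal)
  rw [show (closedPoint P.K).asIdeal = ⊥ from
    IsLocalRing.isField_iff_maximalIdeal_eq.mp (Field.toIsField _), Ideal.mem_bot,
    map_eq_zero_iff _ (IsFractionRing.injective P.R P.K)] at ha
  exact ha ▸ zero_mem _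

/-- A map of the spectrum of a valuation ring whose generic point lies in a closed subscheme factors
through it. -/
theorem ValPair.exists_factor {X T W V : Scheme.{u}} (P : ValPair X T) (ι : V ⟶ W)
    [IsClosedImmersion ι] (l : Spec (CommRingCat.of P.R) ⟶ W)
    (h : l (P.η (closedPoint P.K)) ∈ Set.range ι) :
    ∃ l' : Spec (CommRingCat.of P.R) ⟶ V, l' ≫ ι = l :=
  Groth.L19.exists_lift_of_isImmersion ι l (by
    rintro _ ⟨p, rfl⟩
    exact ((P.η_specializes p).map l.continuous).mem_closed ι.isClosedEmbedding.isClosed_range h)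

variable {I : Type u} [SmallCategory I] [IsCofiltered I] {D : I ⥤ Scheme.{u}} {c : Cone D}
  [∀ {i j} (f : i ⟶ j), IsAffineHom (D.map f)] {i : I}
  {X₀ Y₀ X Y : Scheme.{u}} {f₀ : X₀ ⟶ Y₀} {g₀ : Y₀ ⟶ D.obj i} {qX : X ⟶ X₀} {qY : Y ⟶ Y₀}
  {f : X ⟶ Y} {g : Y ⟶ c.pt}

/-- Properness of closed subsets descends along cofiltered limits. -/
theorem exists_isProper_closed (hc : IsLimit c) [CompactSpace Y₀] [QuasiSeparatedSpace Y₀]
    [CompactSpace X₀] [QuasiSeparatedSpace X₀] [LocallyOfFiniteType f₀]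
    (hY : IsPullback qY g g₀ (c.π.app i)) (hX : IsPullback qX f f₀ qY)
    (C : ∀ j : Over i, Set ((bcDiagram D (f₀ ≫ g₀)).obj j)) (hC : ∀ j, IsClosed (C j))
    (hCmap : ∀ {j k : Over i} (φ : k ⟶ j), C k ⊆ ⇑((bcDiagram D (f₀ ≫ g₀)).map φ) ⁻¹' C j)
    {V : Scheme.{u}} (ι : V ⟶ X) [IsClosedImmersion ι]
    (hι : ∀ x : X, (∀ j, toStage (hX.paste_vert hY) j x ∈ C j) → x ∈ Set.range ι)
    [IsProper (ι ≫ f)] :
    ∃ j₀ : Over i, ∀ (k : Over i), (k ⟶ j₀) → ∀ {V' : Scheme.{u}}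
      (ι' : V' ⟶ (bcDiagram D (f₀ ≫ g₀)).obj k) [IsClosedImmersion ι'],
      Set.range ι' ⊆ C k → IsProper (ι' ≫ stageHom f₀ g₀ k) := by
  let E := bcDiagram D g₀
  let E' := bcDiagram D (f₀ ≫ g₀)
  haveI : ∀ j : Over i, CompactSpace (E.obj j) := fun j =>
    QuasiCompact.compactSpace_of_compactSpace (pullback.snd (D.map j.hom) g₀)
  haveI : ∀ j : Over i, QuasiSeparatedSpace (E.obj j) := fun j =>
    quasiSeparatedSpace_of_quasiSeparated (pullback.snd (D.map j.hom) g₀)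
  haveI : ∀ j : Over i, CompactSpace (E'.obj j) := fun j =>
    QuasiCompact.compactSpace_of_compactSpace (pullback.snd (D.map j.hom) (f₀ ≫ g₀))
  let J : Over i := Over.mk (𝟙 i)
  have hb : ∀ {j k : Over i} (φ : k ⟶ j),
      E.map φ ≫ pullback.snd (D.map j.hom) g₀ = pullback.snd _ _ := fun φ => by
    simp [E, bcDiagram]
  have hb' : ∀ {j k : Over i} (φ : k ⟶ j),
      E'.map φ ≫ pullback.snd (D.map j.hom) (f₀ ≫ g₀) = pullback.snd _ _ := fun φ => by
    simp [E', bcDiagram]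
  let OK : ∀ j : Over i, ValPair X₀ (E.obj j) → Prop := fun j P =>
    P.Comm f₀ (pullback.snd _ _) ∧ ∃ w : Spec (CommRingCat.of P.K) ⟶ E'.obj j,
      w ≫ pullback.snd _ _ = P.m ∧ w ≫ stageHom f₀ g₀ j = P.η ≫ P.φ ∧ w (closedPoint P.K) ∈ C j
  let Ex : Over i → Prop := fun j => ∀ P, OK j P → P.Lifts f₀ (pullback.snd _ _)
  let Un : Over i → Prop := fun j => ∀ P, OK j P → ∀ l₁ l₂ : Spec (CommRingCat.of P.R) ⟶ X₀,
    P.η ≫ l₁ = P.m → l₁ ≫ f₀ = P.φ ≫ pullback.snd _ _ →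
    P.η ≫ l₂ = P.m → l₂ ≫ f₀ = P.φ ≫ pullback.snd _ _ → l₁ = l₂
  -- pushing squares forward
  have push : ∀ {j k : Over i} (φ : k ⟶ j) (P : ValPair X₀ (E.obj k)), OK k P →
      OK j (ValPair.mk P.R P.K P.m (P.φ ≫ E.map φ)) := by
    rintro j k φ P ⟨hP, w, h1, h2, h3⟩
    refine ⟨?_, w ≫ E'.map φ, ?_, ?_, ?_⟩
    · show P.m ≫ f₀ = P.η ≫ (P.φ ≫ E.map φ) ≫ _
      rw [Category.assoc, hb]; exact hP
    · rw [Category.assoc, hb']; exact h1
    · rw [Category.assoc, (isPullback_stageHom_map f₀ g₀ φ).w, reassoc_of% h2]; rfl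
    · rw [Scheme.Hom.comp_apply]; exact hCmap φ h3
  have monoEx : ∀ {j k : Over i} (_ : k ⟶ j), Ex j → Ex k := fun {j k} φ hj P hP => by
    obtain ⟨l, hl, hl'⟩ := hj _ (push φ P hP)
    exact ⟨l, hl, hl'.trans (by show (P.φ ≫ E.map φ) ≫ _ = _; rw [Category.assoc, hb])⟩
  have monoUn : ∀ {j k : Over i} (_ : k ⟶ j), Un j → Un k := fun {j k} φ hj P hP l₁ l₂ a b a' b' =>
    hj _ (push φ P hP) l₁ l₂ a (b.trans (by show _ = (P.φ ≫ E.map φ) ≫ _; rw [Category.assoc, hb]))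
      a' (b'.trans (by show _ = (P.φ ≫ E.map φ) ≫ _; rw [Category.assoc, hb]))
  -- the limit of a family of squares
  have hcomm : ∀ (P : ∀ j, ValPair X₀ (E.obj j)), (∀ j, OK j (P j)) → ∀ j (b : j ⟶ J),
      (P j).Comm f₀ (E.map b ≫ pullback.snd (D.map J.hom) g₀) := fun P hP j b => by
    rw [hb]; exact (hP j).1
  have hlim : ∀ (T : ValPair X₀ Y), T.Comm f₀ qY → (∀ j, ∃ w : Spec (CommRingCat.of T.K) ⟶ E'.obj j,
      w ≫ pullback.snd _ _ = T.m ∧ w ≫ stageHom f₀ g₀ j = T.η ≫ T.φ ≫ toStage hY j ∧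
      w (closedPoint T.K) ∈ C j) →
      ∃ v : Spec (CommRingCat.of T.K) ⟶ V, v ≫ ι ≫ qX = T.m ∧ v ≫ ι ≫ f = T.η ≫ T.φ := by
    intro T hT hw
    have hT' : T.m ≫ f₀ = (T.η ≫ T.φ) ≫ qY := by rw [Category.assoc]; exact hT
    let x := hX.lift T.m (T.η ≫ T.φ) hT'
    have hx : x (closedPoint T.K) ∈ Set.range ι := by
      refine hι _ fun j => ?_
      obtain ⟨w, h1, h2, h3⟩ := hw j
      have hxw : x ≫ toStage (hX.paste_vert hY) j = w := by
        apply (isPullback_stageHom f₀ g₀ j).hom_ext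
        · rw [Category.assoc, toStage_snd, IsPullback.lift_fst, h1]
        · rw [Category.assoc, toStage_stageHom hY hX, IsPullback.lift_snd_assoc, h2, Category.assoc]
      rw [← Scheme.Hom.comp_apply, hxw]
      exact h3
    obtain ⟨v, hv⟩ := Groth.L19.exists_lift_of_isImmersion ι x (by
      rintro _ ⟨p, rfl⟩
      exact (Subsingleton.elim (α := PrimeSpectrum T.K) p (closedPoint T.K)) ▸ hx)
    exact ⟨v, by rw [reassoc_of% hv, IsPullback.lift_fst], by rw [reassoc_of% hv, IsPullback.lift_snd]⟩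
  have qYJ : toStage hY J ≫ pullback.snd (D.map J.hom) g₀ = qY := toStage_snd _ _
  obtain ⟨j₁, hj₁⟩ : ∃ j, Ex j := by
    by_contra! hne
    have key : ∀ j, ∃ P, OK j P ∧ ¬ P.Lifts f₀ (pullback.snd _ _) := fun j => by
      by_contra! h
      exact hne j h
    choose P hP hPn using key
    obtain ⟨T, hTeq, -, hTlift, hTw, -⟩ := exists_valPair_ultra (isLimitSqCone hc hY) P
    have hTc : T.Comm f₀ qY := by
      have := hTeq J f₀ _ (hcomm P hP)
      exact this.trans (congrArg (fun e => T.η ≫ T.φ ≫ e) qYJ)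
    obtain ⟨v, hv₁, hv₂⟩ := hlim T hTc fun j => by
      obtain ⟨w, h1, h2, h3⟩ := hTw j (pullback.snd _ _) (stageHom f₀ g₀ j) (C j) (hC j)
        fun k b => by
          obtain ⟨w, h1, h2, h3⟩ := (push b _ (hP k)).2
          exact ⟨w, h1, h2, h3⟩
      exact ⟨w, h1, h2, h3⟩
    obtain ⟨l, hl, hl'⟩ := lifts_of_universallyClosed (ι ≫ f) (ValPair.mk T.R T.K v T.φ)
      (by show v ≫ _ = T.η ≫ T.φ ≫ 𝟙 _; rw [Category.comp_id]; exact hv₂)
    change Spec (CommRingCat.of T.R) ⟶ V at l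
    change T.η ≫ l = v at hl
    change l ≫ ι ≫ f = T.φ ≫ 𝟙 _ at hl'
    obtain ⟨k, b, hlift⟩ := hTlift J f₀ _ (hcomm P hP) ⟨l ≫ ι ≫ qX, by
      rw [reassoc_of% hl, hv₁], by
      show _ = T.φ ≫ toStage hY J ≫ _
      rw [qYJ, Category.assoc, Category.assoc, hX.w, reassoc_of% hl']⟩
    rw [hb] at hlift
    exact hPn k hlift
  obtain ⟨j₂, hj₂⟩ : ∃ j, Un j := by
    by_contra! hne
    have key : ∀ j, ∃ P, OK j P ∧ ∃ l₁ l₂ : Spec (CommRingCat.of P.R) ⟶ X₀,
        (P.η ≫ l₁ = P.m ∧ l₁ ≫ f₀ = P.φ ≫ pullback.snd _ _) ∧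
        (P.η ≫ l₂ = P.m ∧ l₂ ≫ f₀ = P.φ ≫ pullback.snd _ _) ∧ l₁ ≠ l₂ := fun j => by
      by_contra! h
      exact hne j fun P hP l₁ l₂ a b a' b' => h P hP l₁ l₂ ⟨a, b⟩ ⟨a', b'⟩
    choose P hP l₁ l₂ hl₁ hl₂ hne' using key
    obtain ⟨T, hTeq, -, -, hTw, hTuniq⟩ := exists_valPair_ultra (isLimitSqCone hc hY) P
    have hTc : T.Comm f₀ qY := by
      have := hTeq J f₀ _ (hcomm P hP)
      exact this.trans (congrArg (fun e => T.η ≫ T.φ ≫ e) qYJ)
    obtain ⟨v, hv₁, hv₂⟩ := hlim T hTc fun j => by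
      obtain ⟨w, h1, h2, h3⟩ := hTw j (pullback.snd _ _) (stageHom f₀ g₀ j) (C j) (hC j)
        fun k b => by
          obtain ⟨w, h1, h2, h3⟩ := (push b _ (hP k)).2
          exact ⟨w, h1, h2, h3⟩
      exact ⟨w, h1, h2, h3⟩
    obtain ⟨L₁, L₂, ⟨h1, h1'⟩, ⟨h2, h2'⟩, hL⟩ := hTuniq J f₀ (pullback.snd (D.map J.hom) g₀) l₁ l₂
      fun k b => by rw [hb]; exact ⟨hl₁ k, hl₂ k⟩
    have fac : ∀ L : Spec (CommRingCat.of T.R) ⟶ X₀, T.η ≫ L = T.m → L ≫ f₀ = T.φ ≫ qY →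
        ∃ l : Spec (CommRingCat.of T.R) ⟶ V, T.η ≫ l = v ∧ l ≫ ι ≫ f = T.φ ∧ l ≫ ι ≫ qX = L := by
      intro L a b
      have hgen : T.η ≫ hX.lift L T.φ b = v ≫ ι := by
        apply hX.hom_ext
        · rw [Category.assoc, IsPullback.lift_fst, a, Category.assoc, hv₁]
        · rw [Category.assoc, IsPullback.lift_snd, Category.assoc, hv₂]
      obtain ⟨l, hl⟩ := T.exists_factor ι (hX.lift L T.φ b) (by
        rw [← Scheme.Hom.comp_apply, hgen, Scheme.Hom.comp_apply]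
        exact ⟨_, rfl⟩)
      refine ⟨l, ?_, by rw [reassoc_of% hl, IsPullback.lift_snd],
        by rw [reassoc_of% hl, IsPullback.lift_fst]⟩
      rw [← cancel_mono ι, Category.assoc, hl, hgen]
    obtain ⟨m₁, a₁, b₁, c₁⟩ := fac L₁ h1 (h1'.trans (congrArg (T.φ ≫ ·) qYJ))
    obtain ⟨m₂, a₂, b₂, c₂⟩ := fac L₂ h2 (h2'.trans (congrArg (T.φ ≫ ·) qYJ))
    have he : m₁ = m₂ := by
      have := IsSeparated.valuativeCriterion (ι ≫ f)
        { R := T.R, K := T.K, i₁ := v, i₂ := T.φ, commSq := ⟨hv₂⟩ }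
      exact congrArg CommSq.LiftStruct.l
        (Subsingleton.elim (α := CommSq.LiftStruct _) ⟨m₁, a₁, b₁⟩ ⟨m₂, a₂, b₂⟩)
    obtain ⟨k, -, hk⟩ := hL (by rw [← c₁, ← c₂, he])
    exact hne' k hk
  refine ⟨IsCofiltered.min j₁ j₂, fun k a V' ι' _ hι' => ?_⟩
  have hEx : Ex k := monoEx (a ≫ IsCofiltered.minToLeft j₁ j₂) hj₁
  have hUn : Un k := monoUn (a ≫ IsCofiltered.minToRight j₁ j₂) hj₂
  haveI : LocallyOfFiniteType (stageHom (D := D) f₀ g₀ k) :=
    MorphismProperty.of_isPullback (isPullback_stageHom f₀ g₀ k) ‹_›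
  haveI : QuasiCompact (stageHom (D := D) f₀ g₀ k) := quasiCompact_of_compactSpace (X := E'.obj k) _
  haveI : QuasiSeparatedSpace (E'.obj k) :=
    quasiSeparatedSpace_of_quasiSeparated (pullback.snd (D.map k.hom) (f₀ ≫ g₀))
  haveI : QuasiSeparated (stageHom (D := D) f₀ g₀ k) :=
    .of_comp (X := E'.obj k) _ (terminal.from (E.obj k))
  have hOK : ∀ P : ValPair V' (E.obj k), P.m ≫ ι' ≫ stageHom f₀ g₀ k = P.η ≫ P.φ →
      OK k (ValPair.mk P.R P.K (P.m ≫ ι' ≫ pullback.snd _ _) P.φ) := fun P hP => by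
    refine ⟨?_, P.m ≫ ι', by simp, (Category.assoc _ _ _).trans hP, ?_⟩
    · show (P.m ≫ ι' ≫ _) ≫ f₀ = _
      rw [Category.assoc, Category.assoc, ← stageHom_snd, reassoc_of% hP]
      rfl
    · rw [Scheme.Hom.comp_apply]; exact hι' ⟨_, rfl⟩
  refine .of_valuativeCriterion _ (ValuativeCriterion.iff.mpr
    ⟨existence_of_valPair _ fun P hP => ?_, fun s => ⟨fun l₁ l₂ => ?_⟩⟩)
  · rw [ValPair.Comm, Category.comp_id] at hP
    obtain ⟨l, hl, hl'⟩ := hEx _ (hOK P hP)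
    change Spec (CommRingCat.of P.R) ⟶ X₀ at l
    change P.η ≫ l = P.m ≫ ι' ≫ pullback.snd _ _ at hl
    change l ≫ f₀ = P.φ ≫ pullback.snd _ _ at hl'
    let y := (isPullback_stageHom f₀ g₀ k).lift l P.φ hl'
    have hgen : P.η ≫ y = P.m ≫ ι' := by
      apply (isPullback_stageHom f₀ g₀ k).hom_ext
      · rw [Category.assoc, IsPullback.lift_fst, hl, Category.assoc]
      · rw [Category.assoc, IsPullback.lift_snd, Category.assoc]; exact hP.symm
    obtain ⟨l', hl''⟩ := P.exists_factor ι' y (by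
      rw [← Scheme.Hom.comp_apply, hgen, Scheme.Hom.comp_apply]
      exact ⟨_, rfl⟩)
    refine ⟨l', ?_, ?_⟩
    · rw [← cancel_mono ι', Category.assoc, hl'', hgen]
    · rw [reassoc_of% hl'', IsPullback.lift_snd, Category.comp_id]
  · let P : ValPair V' (E.obj k) := ⟨s.R, s.K, s.i₁, s.i₂⟩
    have hP : P.m ≫ ι' ≫ stageHom f₀ g₀ k = P.η ≫ P.φ := s.commSq.w
    ext : 1
    rw [← cancel_mono ι']
    apply (isPullback_stageHom f₀ g₀ k).hom_ext
    · simp only [Category.assoc]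
      refine hUn _ (hOK P hP) _ _ ?_ ?_ ?_ ?_
      · exact (Category.assoc _ _ _).symm.trans (congrArg (· ≫ _) l₁.fac_left)
      · rw [Category.assoc, Category.assoc, ← stageHom_snd, reassoc_of% l₁.fac_right]
      · exact (Category.assoc _ _ _).symm.trans (congrArg (· ≫ _) l₂.fac_left)
      · rw [Category.assoc, Category.assoc, ← stageHom_snd, reassoc_of% l₂.fac_right]
    · rw [Category.assoc, Category.assoc, l₁.fac_right, l₂.fac_right]

end Groth.L19.Limit
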