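import Groth.Agent.L18.AmpleOps
import Groth.Agent.L19.LimMod.Lift
import Groth.Agent.L21.Extend.Semilocal
import Mathlib.AlgebraicGeometry.AffineTransitionLimit

/-!
# Ampleness descends along cofiltered limits
-/

set_option autoImplicit false
set_option linter.style.haveILetI false
set_option linter.unusedSectionVars false
set_option backward.isDefEq.respectTransparency false
set_option backward.isDefEq.respectTransparency.types false

universe u

open CategoryTheory CategoryTheory.Limits AlgebraicGeometry TopologicalSpace Opposite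

noncomputable section

namespace Groth.L19.Limit

open Groth.L19.LimMod Groth.L18.Ample

theorem isCompact_genLocus {X : Scheme.{u}} [CompactSpace X] {L : X.Modules}
    (hL : PicF.IsInvertible L) (s : Coh.structureModule X ⟶ L) :
    IsCompact (CohB1.genLocus L s : Set X) := by
  classical
  have h : ∀ x : X, ∃ (W : X.Opens) (e : Γ(L, W)), x ∈ W ∧ IsAffineOpen W ∧ Groth.L18.Frame.IsFrame L W e := by
    intro x
    obtain ⟨W, e, hx, he⟩ := Groth.L18.Frame.exists_frame hL x
    obtain ⟨_, ⟨V, hV, rfl⟩, hxV, hVW⟩ := X.isBasis_affineOpens.exists_subset_of_mem_open (a := x) hx W.2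
    exact ⟨V, _, hxV, hV, he.mono hVW⟩
  choose W e hx hW he using h
  obtain ⟨t, ht⟩ := isCompact_univ.elim_finite_subcover (fun x => (W x : Set X)) (fun x => (W x).2)
    (fun x _ => Set.mem_iUnion.mpr ⟨x, hx x⟩)
  have : (CohB1.genLocus L s : Set X) = ⋃ x ∈ t, ((CohB1.genLocus L s ⊓ W x : X.Opens) : Set X) := by
    refine Set.Subset.antisymm (fun y hy => ?_) (Set.iUnion₂_subset fun x _ y hy => hy.1)
    obtain ⟨x, hxt, hyx⟩ := Set.mem_iUnion₂.mp (ht (Set.mem_univ y))
    exact Set.mem_iUnion₂.mpr ⟨x, hxt, hy, hyx⟩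
  rw [this]
  refine t.isCompact_biUnion fun x _ => ?_
  obtain ⟨a, ha⟩ := (he x).exists_coeff le_rfl (Groth.L18.Frame.rs L le_top (Groth.L18.GenLoc.secOf s))
  rw [Groth.L18.Frame.rs_self] at ha
  rw [Groth.L18.GenLoc.genLocus_inf_eq s (he x) ha]
  exact ((hW x).basicOpen a).isCompact

variable {I : Type u} [Category.{u} I] [IsCofiltered I] (D : I ⥤ Scheme.{u}) (c : Cone D) (hc : IsLimit c)
  [∀ {i j} (f : i ⟶ j), IsAffineHom (D.map f)] [∀ i, CompactSpace (D.obj i)]
  [∀ i, QuasiSeparatedSpace (D.obj i)] {i : I}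

/-- `L` at the stage of `φ`. -/
abbrev atStage (L : (D.obj i).Modules) {j : I} (φ : j ⟶ i) : (D.obj j).Modules :=
  (Scheme.Modules.pullback (D.map φ)).obj L

theorem exists_section_preimage (L : (D.obj i).Modules) (hL : PicF.IsInvertible L) {j k : I}
    (φ : j ⟶ i) (ψ : k ⟶ j) {n : ℕ} (s : Coh.structureModule _ ⟶ CohB1.tensorPow (atStage D L φ) n) :
    ∃ s' : Coh.structureModule _ ⟶ CohB1.tensorPow (atStage D L (ψ ≫ φ)) n,
      CohB1.genLocus _ s' = D.map ψ ⁻¹ᵁ CohB1.genLocus _ s := by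
  obtain ⟨s', hs'⟩ := exists_pull_pow (D.map ψ) (isInvertible_pullback _ hL) s
  exact ⟨s' ≫ (Groth.L00.Tensor.tensorPowIso (cmp (D.map ψ) (D.map φ) (D.map_comp ψ φ).symm L) n).hom,
    (Groth.L16.genLocus_comp_iso _ _).trans hs'⟩

include hc in
/-- Sections of a power of `L` on the limit come from a stage, with the non-vanishing locus. -/
theorem exists_section_stage (L : (D.obj i).Modules) (hL : PicF.IsInvertible L) {n : ℕ}
    (s : Coh.structureModule _ ⟶ CohB1.tensorPow ((Scheme.Modules.pullback (c.π.app i)).obj L) n) :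
    ∃ (j : I) (φ : j ⟶ i) (s' : Coh.structureModule _ ⟶ CohB1.tensorPow (atStage D L φ) n),
      c.π.app j ⁻¹ᵁ CohB1.genLocus _ s' = CohB1.genLocus _ s := by
  let G := CohB1.tensorPow L n
  haveI : Coh.IsQCoh G := Groth.L21.Extend.isQCoh_of_isInvertible (isInvertible_tensorPow hL n)
  haveI : Coh.IsQCoh (Coh.structureModule (D.obj i)) :=
    Groth.L21.Extend.isQCoh_of_isInvertible (isInvertible_structureModule _)
  let u := Groth.L29.LocFree.pullbackUnitIso (c.π.app i)
  obtain ⟨j, φ, hj, htr⟩ := exists_hom D c hc (Coh.structureModule (D.obj i)) G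
    (Groth.L19.FPExtend.isFP_structureModule _) (u.hom ≫ s ≫ (pullPow (c.π.app i) L n).inv)
  let uj : (Scheme.Modules.pullback (D.map φ)).obj (Coh.structureModule (D.obj i)) ≅ Coh.structureModule _ :=
    Groth.L29.LocFree.pullbackUnitIso (D.map φ)
  let t : Coh.structureModule _ ⟶ (Scheme.Modules.pullback (D.map φ)).obj G := uj.inv ≫ hj
  refine ⟨j, φ, t ≫ (pullPow (D.map φ) L n).hom, ?_⟩
  rw [Groth.L16.genLocus_comp_iso]
  let e : Coh.structureModule c.pt ≅ (Scheme.Modules.pullback (c.π.app j)).obj (Coh.structureModule (D.obj j)) :=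
    u.symm ≪≫ (cmp (c.π.app j) (D.map φ) (c.w φ) _).symm ≪≫ (Scheme.Modules.pullback (c.π.app j)).mapIso uj
  have he : e.hom ≫ (Scheme.Modules.pullback (c.π.app j)).map t =
      s ≫ (pullPow (c.π.app i) L n).inv ≫ (cmp (c.π.app j) (D.map φ) (c.w φ) G).inv := by
    have := congrArg (fun z => u.inv ≫ z ≫ (cmp (c.π.app j) (D.map φ) (c.w φ) G).inv) htr
    simp only [tr, Category.assoc, Iso.hom_inv_id, Category.comp_id, Iso.inv_hom_id_assoc] at this
    rw [← this]
    simp only [e, t, Iso.trans_hom, Iso.symm_hom, Functor.mapIso_hom, Category.assoc,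
      ← Functor.map_comp, Iso.hom_inv_id_assoc]
  rw [← genLocus_iso_pullback (c.π.app j) (isInvertible_pullback _ (isInvertible_tensorPow hL n)) t e, he]
  exact Groth.L16.genLocus_comp_iso s ((pullPow (c.π.app i) L n).symm ≪≫
    (cmp (c.π.app j) (D.map φ) (c.w φ) G).symm)

include hc in
/-- An open of a stage with affine preimage in the limit is eventually affine. -/
theorem exists_isAffineOpen_stage {j : I} (U : (D.obj j).Opens) (hUc : IsCompact (U : Set (D.obj j)))
    (hU : IsAffineOpen (c.π.app j ⁻¹ᵁ U)) :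
    ∃ (k : I) (ψ : k ⟶ j), IsAffineOpen (D.map ψ ⁻¹ᵁ U) := by
  have (l : Over j) : CompactSpace ((opensDiagram D j U).obj l) :=
    isCompact_iff_compactSpace.mp (QuasiCompact.isCompact_preimage _ U.2 hUc)
  have (l : Over j) : QuasiSeparatedSpace ((opensDiagram D j U).obj l) :=
    (isQuasiSeparated_iff_quasiSeparatedSpace _ (D.map _ ⁻¹ᵁ _).2).mp (.of_quasiSeparatedSpace _)
  have : IsAffine (opensCone D c j U).pt := hU
  obtain ⟨l, hl⟩ := Scheme.exists_isAffine_of_isLimit _ _ (isLimitOpensCone D c hc j U)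
  exact ⟨l.left, l.hom, hl⟩

include hc in
/-- If the pullback of `L` to the limit is ample, so is the pullback to some stage. -/
theorem exists_isAmple (L : (D.obj i).Modules) (hL : PicF.IsInvertible L)
    (h : CohB1.IsAmple ((Scheme.Modules.pullback (c.π.app i)).obj L)) :
    ∃ (j : I) (φ : j ⟶ i), CohB1.IsAmple (atStage D L φ) := by
  classical
  obtain ⟨-, hcp, hpts⟩ := h
  haveI : CompactSpace c.pt := hcp
  have key : ∀ x : c.pt, ∃ (j : I) (φ : j ⟶ i) (n : ℕ)
      (s : Coh.structureModule _ ⟶ CohB1.tensorPow (atStage D L φ) (n + 1)),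
      c.π.app j x ∈ CohB1.genLocus _ s ∧ IsAffineOpen (CohB1.genLocus _ s) := by
    intro x
    obtain ⟨n, s, hx, hs⟩ := hpts x
    obtain ⟨j, φ, s', hs'⟩ := exists_section_stage D c hc L hL s
    obtain ⟨k, ψ, hk⟩ := exists_isAffineOpen_stage D c hc (CohB1.genLocus _ s')
      (isCompact_genLocus (isInvertible_tensorPow (isInvertible_pullback _ hL) _) s') (hs'.symm ▸ hs)
    obtain ⟨s'', hs''⟩ := exists_section_preimage D L hL φ ψ s'
    refine ⟨k, ψ ≫ φ, n, s'', ?_, hs''.symm ▸ hk⟩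
    rw [hs'']
    show D.map ψ (c.π.app k x) ∈ CohB1.genLocus _ s'
    rw [← Scheme.Hom.comp_apply, c.w]
    exact hs'.ge hx
  choose j φ n s hx hs using key
  obtain ⟨T, hT⟩ := isCompact_univ.elim_finite_subcover
    (fun x => ((c.π.app (j x) ⁻¹ᵁ CohB1.genLocus _ (s x) : c.pt.Opens) : Set c.pt)) (fun x => Opens.isOpen _)
    (fun x _ => Set.mem_iUnion.mpr ⟨x, hx x⟩)
  obtain ⟨k, φk, hk⟩ := exists_common D (fun x : T => j x) (fun x => φ x)
  choose m hm using hk
  obtain ⟨l, ψ, hl⟩ := exists_map_eq_top D c hc (⨆ x : T, D.map (m x) ⁻¹ᵁ CohB1.genLocus _ (s x))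
    (top_le_iff.mp fun y _ => by
      obtain ⟨x, hxT, hy⟩ := Set.mem_iUnion₂.mp (hT (Set.mem_univ y))
      show c.π.app k y ∈ (⨆ x : T, D.map (m x) ⁻¹ᵁ CohB1.genLocus _ (s x))
      refine Opens.mem_iSup.mpr ⟨⟨x, hxT⟩, ?_⟩
      show D.map (m ⟨x, hxT⟩) (c.π.app k y) ∈ CohB1.genLocus _ (s x)
      rw [← Scheme.Hom.comp_apply, c.w]
      exact hy)
  refine ⟨l, ψ ≫ φk, isInvertible_pullback _ hL, inferInstance, fun z => ?_⟩
  obtain ⟨x, hzx⟩ := Opens.mem_iSup.mp (show D.map ψ z ∈ _ from hl.ge (Opens.mem_top z))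
  obtain ⟨s', hs'⟩ := exists_section_preimage D L hL (φ x) (ψ ≫ m x) (s x)
  have e : (ψ ≫ m x) ≫ φ x = ψ ≫ φk := by rw [Category.assoc, hm]
  rw [← e]
  refine ⟨n x, s', ?_, hs'.symm ▸ (hs x).preimage _⟩
  rw [hs']
  show D.map (ψ ≫ m x) z ∈ CohB1.genLocus _ (s x)
  rw [D.map_comp, Scheme.Hom.comp_apply]
  exact hzx

end Groth.L19.Limit
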