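import Groth.Agent.L19.Limit.AmpleField

/-!
# Ampleness over the limit of a system of affine schemes over a base
-/

set_option autoImplicit false
set_option linter.style.haveILetI false
set_option linter.unusedSectionVars false
set_option backward.isDefEq.respectTransparency false
set_option backward.isDefEq.respectTransparency.types false
set_option backward.defeqAttrib.useBackward true

universe u

open CategoryTheory CategoryTheory.Limits AlgebraicGeometry TopologicalSpace Opposite

noncomputable section

namespace Groth.L19.Limit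

open Groth.L18.Ample

variable {I : Type u} [Category.{u} I] [IsCofiltered I] {D : I ⥤ Scheme.{u}} {c : Cone D}
  [∀ {i j} (f : i ⟶ j), IsAffineHom (D.map f)] [∀ i, CompactSpace (D.obj i)]
  [∀ i, QuasiSeparatedSpace (D.obj i)]

/-- If `L` is ample over the limit of a system over `S`, it is ample over some stage. -/
theorem exists_isAmple_base (hc : IsLimit c) {X S : Scheme.{u}} (v : X ⟶ S) [QuasiCompact v]
    [QuasiSeparated v] (L : X.Modules) (hL : PicF.IsInvertible L) (toS : ∀ i, D.obj i ⟶ S)
    (htoS : ∀ {i j} (φ : i ⟶ j), D.map φ ≫ toS j = toS i) (i₀ : I) {T : Scheme.{u}} (t : T ⟶ S)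
    (e : c.pt ≅ T) (he : e.hom ≫ t = c.π.app i₀ ≫ toS i₀)
    (h : CohB1.IsAmple ((Scheme.Modules.pullback (pullback.fst v t)).obj L)) :
    ∃ (j : I) (_ : j ⟶ i₀), CohB1.IsAmple ((Scheme.Modules.pullback (pullback.fst v (toS j))).obj L) := by
  let a : pullback v (toS i₀) ⟶ D.obj i₀ := pullback.snd v (toS i₀)
  haveI : QuasiCompact a := MorphismProperty.pullback_snd _ _ inferInstance
  haveI : QuasiSeparated a := MorphismProperty.pullback_snd _ _ inferInstance
  haveI : ∀ j, CompactSpace ((bcDiagram D a).obj j) := fun j =>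
    haveI : QuasiCompact (pullback.fst (D.map j.hom) a) := MorphismProperty.pullback_fst _ _ inferInstance
    QuasiCompact.compactSpace_of_compactSpace (pullback.fst (D.map j.hom) a)
  haveI : ∀ j, QuasiSeparatedSpace ((bcDiagram D a).obj j) := fun j =>
    haveI : QuasiSeparated (pullback.fst (D.map j.hom) a) := MorphismProperty.pullback_fst _ _ inferInstance
    quasiSeparatedSpace_of_quasiSeparated (pullback.fst (D.map j.hom) a)
  let J : Over i₀ := Over.mk (𝟙 i₀)
  let w : (bcDiagram D a).obj J ⟶ X := pullback.snd (D.map J.hom) a ≫ pullback.fst v (toS i₀)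
  let π' : (bcCone D c a).pt ⟶ X := pullback.snd (c.π.app i₀) a ≫ pullback.fst v (toS i₀)
  have hπ₀ : IsPullback π' (pullback.fst (c.π.app i₀) a) v (c.π.app i₀ ≫ toS i₀) :=
    (IsPullback.of_hasPullback (c.π.app i₀) a).flip.paste_horiz (IsPullback.of_hasPullback v (toS i₀))
  have hπ : IsPullback π' (pullback.fst (c.π.app i₀) a ≫ e.hom) v t :=
    hπ₀.of_iso (Iso.refl _) (Iso.refl _) e (Iso.refl _) (by simp) (by simp) (by simp) (by simp [he])
  have hlim : CohB1.IsAmple ((Scheme.Modules.pullback ((bcCone D c a).π.app J)).obj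
      ((Scheme.Modules.pullback w).obj L)) := by
    rw [isAmple_pullback_comp_iff _ _ (show (bcCone D c a).π.app J ≫ w = π' by simp [bcCone, w, π']),
      isAmple_pullback_congr hπ.isoPullback _ _ hπ.isoPullback_hom_fst]
    exact h
  obtain ⟨j, m, hj⟩ := exists_isAmple (bcDiagram D a) (bcCone D c a) (isLimitBcCone a hc) (i := J)
    _ (isInvertible_pullback w hL) hlim
  have hp : (bcDiagram D a).map m ≫ w = pullback.snd (D.map j.hom) a ≫ pullback.fst v (toS i₀) := by
    simp [w, bcDiagram]
  rw [atStage, isAmple_pullback_comp_iff _ _ hp] at hj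
  have sqj : IsPullback (pullback.snd (D.map j.hom) a ≫ pullback.fst v (toS i₀)) (pullback.fst (D.map j.hom) a)
      v (toS j.left) := by
    have := (IsPullback.of_hasPullback (D.map j.hom) a).flip.paste_horiz (IsPullback.of_hasPullback v (toS i₀))
    rwa [htoS] at this
  rw [isAmple_pullback_congr sqj.isoPullback _ _ sqj.isoPullback_hom_fst] at hj
  exact ⟨j.left, j.hom, hj⟩

/-- Ampleness of a base change passes to any affine base change over it. -/
theorem isAmple_pullback_of_factor {X S T T' : Scheme.{u}} (v : X ⟶ S) (L : X.Modules) (σ : T' ⟶ T)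
    [IsAffineHom σ] (t : T ⟶ S) {t' : T' ⟶ S} (h : σ ≫ t = t')
    (hA : CohB1.IsAmple ((Scheme.Modules.pullback (pullback.fst v t)).obj L)) :
    CohB1.IsAmple ((Scheme.Modules.pullback (pullback.fst v t')).obj L) := by
  subst h
  have sq : IsPullback (pullback.fst (pullback.snd v t) σ ≫ pullback.fst v t)
      (pullback.snd (pullback.snd v t) σ) v (σ ≫ t) :=
    (IsPullback.of_hasPullback (pullback.snd v t) σ).paste_horiz (IsPullback.of_hasPullback v t)
  haveI : IsAffineHom (pullback.fst (pullback.snd v t) σ) :=
    MorphismProperty.pullback_fst (P := @IsAffineHom) _ _ inferInstance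
  have := isAmple_pullback_of_isAffineHom (pullback.fst (pullback.snd v t) σ) hA
  rw [isAmple_pullback_comp_iff _ _ rfl,
    isAmple_pullback_congr sq.isoPullback _ _ sq.isoPullback_hom_fst] at this
  exact this

end Groth.L19.Limit
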