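import Groth.Agent.L19.Limit.AmpleBase
import Groth.Agent.L19.FPColimit
import Groth.Agent.L02.ConsP.Fibres
import Groth.Agent.L06.ProCons
import Mathlib.RingTheory.Spectrum.Prime.Chevalley

/-!
# The points over which an invertible module is ample on the fibre
-/

set_option autoImplicit false
set_option linter.style.haveILetI false
set_option linter.unusedSectionVars false
set_option backward.isDefEq.respectTransparency false
set_option backward.isDefEq.respectTransparency.types false
set_option backward.defeqAttrib.useBackward true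

universe u

open CategoryTheory CategoryTheory.Limits AlgebraicGeometry TopologicalSpace Opposite

noncomputable section

namespace Groth.L19.Limit

open Groth.L18.Ample L02.ConsP Groth.L19.FPColimit

/-- The points over which `L` is ample on the fibre. -/
def ampleLocus {X S : Scheme.{u}} (v : X ⟶ S) (L : X.Modules) : Set S :=
  {s | CohB1.IsAmple ((Scheme.Modules.pullback (v.fiberι s)).obj L)}

/-- The locus commutes with base change. -/
theorem mem_ampleLocus_baseChange_iff {X S X' S' : Scheme.{u}} {v : X ⟶ S} [QuasiCompact v]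
    [QuasiSeparated v] {v' : X' ⟶ S'} {q : X' ⟶ X} {a : S' ⟶ S} (sq : IsPullback q v' v a)
    (L : X.Modules) (hL : PicF.IsInvertible L) (s' : S') :
    s' ∈ ampleLocus v' ((Scheme.Modules.pullback q).obj L) ↔ a s' ∈ ampleLocus v L := by
  letI alg : Algebra (S.residueField (a s')) (S'.residueField s') := (a.residueFieldMap s').hom.toAlgebra
  let m := Spec.map (a.residueFieldMap s')
  have hfib : IsPullback (fib sq.w s') (v'.fiberToSpecResidueField s')
      (v.fiberToSpecResidueField (a s')) m := isPullback_fib sq s'
  haveI : QuasiCompact (v.fiberToSpecResidueField (a s')) :=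
    MorphismProperty.pullback_snd v (S.fromSpecResidueField (a s')) inferInstance
  haveI : QuasiSeparated (v.fiberToSpecResidueField (a s')) :=
    MorphismProperty.pullback_snd v (S.fromSpecResidueField (a s')) inferInstance
  haveI : IsAffineHom (fib sq.w s') :=
    MorphismProperty.of_isPullback hfib.flip (isAffineHom_of_isAffine m)
  show CohB1.IsAmple ((Scheme.Modules.pullback _).obj _) ↔ _
  rw [isAmple_pullback_comp_iff _ _ (fib_ι sq.w s').symm, ← isAmple_pullback_comp_iff _ _ rfl]
  refine ⟨fun h => ?_, fun h => isAmple_pullback_of_isAffineHom _ h⟩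
  refine isAmple_of_fieldExtension (k := S.residueField (a s')) (v.fiberToSpecResidueField (a s')) _
    (isInvertible_pullback _ hL) (S'.residueField s') ?_
  rwa [isAmple_pullback_congr hfib.isoPullback _ _ hfib.isoPullback_hom_fst] at h

theorem exists_constructible_ample {A : CommRingCat.{u}} {X : Scheme.{u}} (v : X ⟶ Spec A) [QuasiCompact v]
    [QuasiSeparated v] (L : X.Modules) (hL : PicF.IsInvertible L) (p : ↥(Spec A)) (hp : p ∈ ampleLocus v L) :
    ∃ C : Set ↥(Spec A), Topology.IsConstructible C ∧ p ∈ C ∧ C ⊆ ampleLocus v L := by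
  classical
  let S := Spec A
  let K : Type u := S.residueField p
  letI : Algebra A K := (Spec.preimage (S.fromSpecResidueField p)).hom.toAlgebra
  have hK : Spec.map (CommRingCat.ofHom (algebraMap A K)) = S.fromSpecResidueField p :=
    Spec.map_preimage (S.fromSpecResidueField p)
  haveI : ∀ i, CompactSpace ((FGA.specDiagram A K).obj i) := fun i => inferInstanceAs (CompactSpace (Spec _))
  haveI : ∀ i, QuasiSeparatedSpace ((FGA.specDiagram A K).obj i) := fun i =>
    inferInstanceAs (QuasiSeparatedSpace (Spec _))
  obtain ⟨j, -, hj⟩ := exists_isAmple_base (D := FGA.specDiagram A K) (c := FGA.specCone A K)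
    (FGA.isLimitSpecCone A K) v L hL (fun i => Spec.map (CommRingCat.ofHom (algebraMap A i.unop.1)))
    (fun φ => by show Spec.map _ ≫ Spec.map _ = _; rw [← Spec.map_comp]; rfl) (op ⟨⊥, Subalgebra.fg_bot⟩)
    (S.fromSpecResidueField p) (Iso.refl _)
    (by
      rw [← hK]
      show 𝟙 (Spec _) ≫ Spec.map _ = Spec.map _ ≫ Spec.map _
      rw [Category.id_comp, ← Spec.map_comp]
      rfl) hp
  let B₀ := j.unop.1
  obtain ⟨n, π, hπ⟩ := Algebra.FiniteType.iff_quotient_mvPolynomial''.mp
    ((Subalgebra.fg_iff_finiteType B₀).mp j.unop.2)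
  let P : Type u := MvPolynomial (Fin n) A
  let π' : P →+* CommRingCat.of B₀ := π.toRingHom
  obtain ⟨hcol⟩ := nonempty_isColimit_relProj (B := CommRingCat.of B₀) π' hπ
  haveI : PreservesLimitsOfSize.{u, u} Scheme.Spec.{u} := ΓSpec.adjunction.rightAdjoint_preservesLimits
  let D := (relSys (RingHom.ker π')).op ⋙ Scheme.Spec
  let c : Cone D := Scheme.Spec.mapCone (Cocone.mk (CommRingCat.of B₀) (relProj (I := RingHom.ker π') π' le_rfl)).op
  have hc : IsLimit c := isLimitOfPreserves Scheme.Spec hcol.op
  haveI : ∀ i, IsAffine (D.obj i) := fun i => inferInstanceAs (IsAffine (Spec _))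
  haveI : ∀ {i j} (f : i ⟶ j), IsAffineHom (D.map f) := fun f => isAffineHom_of_isAffine _
  let toS : ∀ i, D.obj i ⟶ S := fun i =>
    Spec.map (CommRingCat.ofHom ((Ideal.Quotient.mk (relSpan i.unop)).comp (algebraMap A P)))
  obtain ⟨t, -, ht⟩ := exists_isAmple_base hc v L hL toS
    (fun φ => by show Spec.map _ ≫ Spec.map _ = _; rw [← Spec.map_comp]; rfl) (op ∅)
    (Spec.map (CommRingCat.ofHom (algebraMap A B₀))) (Iso.refl _)
    (by
      show 𝟙 (Spec _) ≫ Spec.map _ = Spec.map _ ≫ Spec.map _
      rw [Category.id_comp, ← Spec.map_comp]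
      congr 1
      refine CommRingCat.hom_ext (RingHom.ext fun a => ?_)
      exact (π.commutes a).symm) hj
  let φ : A →+* P ⧸ relSpan t.unop := (Ideal.Quotient.mk (relSpan t.unop)).comp (algebraMap A P)
  have hφ : φ.FinitePresentation :=
    (RingHom.finitePresentation_algebraMap.mpr inferInstance : (algebraMap A P).FinitePresentation).comp_surjective
      Ideal.Quotient.mk_surjective (by rw [Ideal.mk_ker]; exact fg_span_stage t.unop)
  refine ⟨Set.range (Spec.map (CommRingCat.ofHom φ)), PrimeSpectrum.isConstructible_range_comap hφ, ?_, ?_⟩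
  · obtain ⟨z⟩ : Nonempty ↥(Spec (CommRingCat.of K)) := inferInstance
    have e : Spec.map (CommRingCat.ofHom (algebraMap B₀ K)) ≫ c.π.app t ≫ toS t = S.fromSpecResidueField p := by
      rw [← hK]
      show Spec.map _ ≫ Spec.map _ ≫ Spec.map _ = _
      rw [← Spec.map_comp, ← Spec.map_comp]
      congr 1
      refine CommRingCat.hom_ext (RingHom.ext fun a => ?_)
      exact congrArg (algebraMap B₀ K) (π.commutes a)
    refine ⟨c.π.app t (Spec.map (CommRingCat.ofHom (algebraMap B₀ K)) z), ?_⟩
    show toS t (c.π.app t (Spec.map (CommRingCat.ofHom (algebraMap B₀ K)) z)) = p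
    refine Eq.trans (Eq.trans (Scheme.Hom.comp_apply _ _ _).symm ?_) ((Scheme.range_fromSpecResidueField p).subset ⟨z, rfl⟩)
    exact Eq.trans (Scheme.Hom.comp_apply _ _ _).symm (congrArg (fun g => g z) ((Category.assoc _ _ _).trans e))
  · rintro _ ⟨r, rfl⟩
    refine (mem_ampleLocus_baseChange_iff (IsPullback.of_hasPullback v (toS t)) L hL r).mp ?_
    show CohB1.IsAmple _
    haveI : IsAffineHom (Spec.map (CommRingCat.ofHom φ)) := inferInstance
    haveI : IsAffineHom ((pullback.snd v (toS t)).fiberι r) :=
      MorphismProperty.pullback_fst (P := @IsAffineHom) _ _ inferInstance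
    exact isAmple_pullback_of_isAffineHom _ ht

theorem isIndConstructible_ampleLocus {X S : Scheme.{u}} (v : X ⟶ S) [QuasiCompact v] [QuasiSeparated v]
    (L : X.Modules) (hL : PicF.IsInvertible L) : ProCons.IsIndConstructible (ampleLocus v L) := by
  refine isIndConstructible_of_affine fun U hU p hp => ?_
  have sq := IsPullback.of_hasPullback v hU.fromSpec
  haveI : QuasiCompact (pullback.snd v hU.fromSpec) := MorphismProperty.pullback_snd _ _ inferInstance
  haveI : QuasiSeparated (pullback.snd v hU.fromSpec) := MorphismProperty.pullback_snd _ _ inferInstance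
  obtain ⟨C, hC, hpC, hCE⟩ := exists_constructible_ample (pullback.snd v hU.fromSpec) _
    (isInvertible_pullback _ hL) p ((mem_ampleLocus_baseChange_iff sq L hL p).mpr hp)
  exact ⟨C, hC, hpC, fun r hr => (mem_ampleLocus_baseChange_iff sq L hL r).mp (hCE hr)⟩

theorem isIndConstructible_iInter {S : Scheme.{u}} {n : ℕ} (E : Fin n → Set S)
    (h : ∀ a, ProCons.IsIndConstructible (E a)) : ProCons.IsIndConstructible (⋂ a, E a) := by
  induction n with
  | zero =>
    rw [Set.iInter_of_empty]
    exact isIndConstructible_of_isLocallyConstructible Topology.IsConstructible.univ.isLocallyConstructible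
  | succ m ih =>
    have e : ⋂ a, E a = E 0 ∩ ⋂ a : Fin m, E a.succ := by
      ext s; simp [Fin.forall_fin_succ]
    rw [e, Groth.L06.ProCons.isIndConstructible_iff_cc_compl, Set.compl_inter]
    exact CC.union (Groth.L06.ProCons.isIndConstructible_iff_cc_compl.mp (h 0))
      (Groth.L06.ProCons.isIndConstructible_iff_cc_compl.mp (ih _ fun a => h a.succ))

end Groth.L19.Limit
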