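import Groth.Agent.L19.Limit.AmpleExists
import Groth.Agent.L02.ConsP.PairDescends
import Groth.Agent.S9691
import Groth.Prelude.Def_RelProj
import Groth.Agent.L20.FibreScheme

/-!
# The points over which a morphism is quasi-projective or projective on fibres
-/

set_option autoImplicit false
set_option linter.unusedVariables false
set_option linter.style.haveILetI false
set_option linter.unusedSectionVars false
set_option backward.isDefEq.respectTransparency false
set_option backward.isDefEq.respectTransparency.types false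
set_option backward.defeqAttrib.useBackward true

universe u

open CategoryTheory CategoryTheory.Limits AlgebraicGeometry TopologicalSpace Opposite

noncomputable section

namespace Groth.L19.Limit

open L02.ConsP Groth.L19.FPColimit

/-- A property of points with values in the residue fields which spreads to stages, is stable under
base change and descends along field extensions holds on an ind-constructible set. -/
theorem isIndConstructible_of_spread {S : Scheme.{u}} (H : ∀ ⦃T : Scheme.{u}⦄, (T ⟶ S) → Prop)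
    (hcomp : ∀ ⦃T T' : Scheme.{u}⦄ (t : T ⟶ S) (σ : T' ⟶ T) (t' : T' ⟶ S), σ ≫ t = t' → H t → H t')
    (hdesc : ∀ (k K : Type u) [Field k] [Field K] [Algebra k K] (t₀ : Spec (CommRingCat.of k) ⟶ S),
      H (Spec.map (CommRingCat.ofHom (algebraMap k K)) ≫ t₀) → H t₀)
    (hstage : ∀ ⦃I : Type u⦄ [SmallCategory I] [IsCofiltered I] (D : I ⥤ Scheme.{u}) (c : Cone D)
      [∀ (i j : I) (f : i ⟶ j), IsAffineHom (D.map f)] [∀ i, CompactSpace (D.obj i)]
      [∀ i, QuasiSeparatedSpace (D.obj i)] (_ : IsLimit c) (toS : ∀ i, D.obj i ⟶ S),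
      (∀ {i j} (φ : i ⟶ j), D.map φ ≫ toS j = toS i) → ∀ (i₀ : I) (t : c.pt ⟶ S),
        (∀ i, c.π.app i ≫ toS i = t) → H t → ∃ (j : I) (_ : j ⟶ i₀), H (toS j)) :
    ProCons.IsIndConstructible {s : S | H (S.fromSpecResidueField s)} := by
  classical
  refine isIndConstructible_of_affine fun U hU p hp => ?_
  let A : Type u := Γ(S, U)
  let SA := Spec (CommRingCat.of A)
  let K : Type u := SA.residueField p
  letI : Algebra A K := (Spec.preimage (SA.fromSpecResidueField p)).hom.toAlgebra
  have hK : Spec.map (CommRingCat.ofHom (algebraMap A K)) = SA.fromSpecResidueField p :=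
    Spec.map_preimage (SA.fromSpecResidueField p)
  have hp' : H (SA.fromSpecResidueField p ≫ hU.fromSpec) :=
    hcomp _ (Spec.map (hU.fromSpec.residueFieldMap p)) _
      (Scheme.Hom.SpecMap_residueFieldMap_fromSpecResidueField hU.fromSpec p) hp
  haveI : ∀ i, CompactSpace ((FGA.specDiagram A K).obj i) := fun i => inferInstanceAs (CompactSpace (Spec _))
  haveI : ∀ i, QuasiSeparatedSpace ((FGA.specDiagram A K).obj i) := fun i =>
    inferInstanceAs (QuasiSeparatedSpace (Spec _))
  obtain ⟨j, -, hj⟩ := hstage (FGA.specDiagram A K) (FGA.specCone A K) (FGA.isLimitSpecCone A K)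
    (fun i => Spec.map (CommRingCat.ofHom (algebraMap A i.unop.1)) ≫ hU.fromSpec)
    (fun φ => by show Spec.map _ ≫ Spec.map _ ≫ _ = _; rw [← Category.assoc, ← Spec.map_comp]; rfl)
    (op ⟨⊥, Subalgebra.fg_bot⟩) (SA.fromSpecResidueField p ≫ hU.fromSpec)
    (fun i => by
      rw [← hK]
      show Spec.map _ ≫ Spec.map _ ≫ _ = _
      rw [← Category.assoc, ← Spec.map_comp]
      rfl) hp'
  let B₀ := j.unop.1
  obtain ⟨n, π, hπ⟩ := Algebra.FiniteType.iff_quotient_mvPolynomial''.mp
    ((Subalgebra.fg_iff_finiteType B₀).mp j.unop.2)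
  let P : Type u := MvPolynomial (Fin n) A
  let π' : P →+* CommRingCat.of B₀ := π.toRingHom
  obtain ⟨hcol⟩ := nonempty_isColimit_relProj (B := CommRingCat.of B₀) π' hπ
  haveI : PreservesLimitsOfSize.{u, u} Scheme.Spec.{u} := ΓSpec.adjunction.rightAdjoint_preservesLimits
  let D := (relSys (RingHom.ker π')).op ⋙ Scheme.Spec
  let c : Cone D := Scheme.Spec.mapCone (Cocone.mk (CommRingCat.of B₀) (relProj (I := RingHom.ker π') π' le_rfl)).op
  have hc : IsLimit c := isLimitOfPreserves Scheme.Spec hcol.op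
  haveI : ∀ i, IsAffine (D.obj i) := fun i => inferInstanceAs (IsAffine (Spec _))
  haveI : ∀ (i j) (f : i ⟶ j), IsAffineHom (D.map f) := fun _ _ f => isAffineHom_of_isAffine _
  let toA : ∀ i, D.obj i ⟶ SA := fun i =>
    Spec.map (CommRingCat.ofHom ((Ideal.Quotient.mk (relSpan i.unop)).comp (algebraMap A P)))
  obtain ⟨t, -, ht⟩ := hstage D c hc (fun i => toA i ≫ hU.fromSpec)
    (fun φ => by show Spec.map _ ≫ Spec.map _ ≫ _ = _; rw [← Category.assoc, ← Spec.map_comp]; rfl) (op ∅)
    (Spec.map (CommRingCat.ofHom (algebraMap A B₀)) ≫ hU.fromSpec)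
    (fun i => by
      show Spec.map _ ≫ Spec.map _ ≫ _ = _
      rw [← Category.assoc, ← Spec.map_comp]
      congr 2
      refine CommRingCat.hom_ext (RingHom.ext fun a => ?_)
      exact π.commutes a) hj
  let φ : A →+* P ⧸ relSpan t.unop := (Ideal.Quotient.mk (relSpan t.unop)).comp (algebraMap A P)
  have hφ : φ.FinitePresentation :=
    (RingHom.finitePresentation_algebraMap.mpr inferInstance : (algebraMap A P).FinitePresentation).comp_surjective
      Ideal.Quotient.mk_surjective (by rw [Ideal.mk_ker]; exact fg_span_stage t.unop)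
  refine ⟨Set.range (Spec.map (CommRingCat.ofHom φ)), PrimeSpectrum.isConstructible_range_comap hφ, ?_, ?_⟩
  · obtain ⟨z⟩ : Nonempty ↥(Spec (CommRingCat.of K)) := inferInstance
    have e : Spec.map (CommRingCat.ofHom (algebraMap B₀ K)) ≫ c.π.app t ≫ toA t = SA.fromSpecResidueField p := by
      rw [← hK]
      show Spec.map _ ≫ Spec.map _ ≫ Spec.map _ = _
      rw [← Spec.map_comp, ← Spec.map_comp]
      congr 1
      refine CommRingCat.hom_ext (RingHom.ext fun a => ?_)
      exact congrArg (algebraMap B₀ K) (π.commutes a)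
    refine ⟨c.π.app t (Spec.map (CommRingCat.ofHom (algebraMap B₀ K)) z), ?_⟩
    show toA t (c.π.app t (Spec.map (CommRingCat.ofHom (algebraMap B₀ K)) z)) = p
    refine Eq.trans (Eq.trans (Scheme.Hom.comp_apply _ _ _).symm ?_) ((Scheme.range_fromSpecResidueField p).subset ⟨z, rfl⟩)
    exact Eq.trans (Scheme.Hom.comp_apply _ _ _).symm (congrArg (fun g => g z) ((Category.assoc _ _ _).trans e))
  · rintro _ ⟨r, rfl⟩
    let q : D.obj t ⟶ S := toA t ≫ hU.fromSpec
    show H (S.fromSpecResidueField (q r))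
    letI : Algebra (S.residueField (q r)) ((D.obj t).residueField r) := (q.residueFieldMap r).hom.toAlgebra
    refine hdesc (S.residueField (q r)) ((D.obj t).residueField r) (S.fromSpecResidueField (q r))
      (hcomp q ((D.obj t).fromSpecResidueField r) _ ?_ ht)
    exact (Scheme.Hom.SpecMap_residueFieldMap_fromSpecResidueField q r).symm

variable {X Y S : Scheme.{u}} (f : X ⟶ Y) (g : Y ⟶ S)

theorem isInvertible_of_isRelAmple {L : X.Modules} (h : RelAmple.IsRelAmple f L) : PicF.IsInvertible L :=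
  Groth.L18.Ample.isInvertible_of_cover fun x => by
    obtain ⟨V, hV, hxV, -⟩ := Groth.L18.Ample.exists_affine_le (Opens.mem_top (f x))
    exact ⟨f ⁻¹ᵁ V, hxV, (h.2 ⟨V, hV⟩).1⟩

theorem hasAmple_iff_isQuasiProjective [LocallyOfFiniteType f] [QuasiCompact f] {T : Scheme.{u}} (t : T ⟶ S) :
    HasAmple f g t ↔ RelProj.IsQuasiProjective (bcHom f g t) :=
  ⟨fun ⟨L, _, hA⟩ => ⟨MorphismProperty.of_isPullback (bcHom_isPullback f g t) inferInstance,
    MorphismProperty.of_isPullback (bcHom_isPullback f g t) inferInstance, L, hA⟩,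
  fun ⟨_, _, L, hA⟩ => ⟨L, isInvertible_of_isRelAmple _ hA, hA⟩⟩

theorem isIndConstructible_hasAmple [QuasiCompact g] [QuasiSeparated g] [QuasiCompact f] [QuasiSeparated f] :
    ProCons.IsIndConstructible {s : S | HasAmple f g (S.fromSpecResidueField s)} :=
  isIndConstructible_of_spread (H := fun T t => HasAmple f g t) (fun T T' t σ t' h H => H.comp f g σ h)
    (fun k K _ _ _ t₀ H => HasAmple.of_fieldExtension t₀ K H)
    (fun I _ _ D c _ _ _ hc toS htoS i₀ t ht H => exists_stage_hasAmple hc f g toS htoS i₀ t ht H)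

theorem isProper_of_fieldExtension [LocallyOfFiniteType f] [QuasiCompact f] {k : Type u} [Field k]
    (t₀ : Spec (CommRingCat.of k) ⟶ S) (K : Type u) [Field K] [Algebra k K]
    (hsep : HasAmple f g t₀)
    (h : IsProper (bcHom f g (Spec.map (CommRingCat.ofHom (algebraMap k K)) ≫ t₀))) :
    IsProper (bcHom f g t₀) := by
  obtain ⟨L, -, hA⟩ := hsep
  haveI := Groth.Agent.S9691.result _ L hA
  let u : Spec (CommRingCat.of K) ⟶ Spec (CommRingCat.of k) := Spec.map (CommRingCat.ofHom (algebraMap k K))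
  haveI : Flat u := HasRingHomProperty.Spec_iff.mpr (RingHom.flat_algebraMap_iff.mpr inferInstance)
  haveI : Surjective u := ⟨fun x => ⟨default, Subsingleton.elim _ _⟩⟩
  haveI : QuasiCompact u := inferInstance
  have sqY := isPullback_bcMap g u t₀ (u ≫ t₀) rfl
  have hu : (@Surjective ⊓ @Flat ⊓ @QuasiCompact : MorphismProperty Scheme.{u})
      (bcMap g u t₀ (u ≫ t₀) rfl) :=
    ⟨⟨MorphismProperty.of_isPullback sqY.flip inferInstance, MorphismProperty.of_isPullback sqY.flip inferInstance⟩,
      MorphismProperty.of_isPullback sqY.flip inferInstance⟩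
  haveI : UniversallyClosed (bcHom f g t₀) :=
    MorphismProperty.of_isPullback_of_descendsAlong (P := @UniversallyClosed)
      (isPullback_bcHom f g u t₀ (u ≫ t₀) rfl).flip hu h.toUniversallyClosed
  haveI : LocallyOfFiniteType (bcHom f g t₀) := MorphismProperty.of_isPullback (bcHom_isPullback f g t₀) inferInstance
  exact ⟨⟩

theorem exists_stage_isProper {I : Type u} [SmallCategory I] [IsCofiltered I] {D : I ⥤ Scheme.{u}} {c : Cone D}
    [∀ (i j : I) (f : i ⟶ j), IsAffineHom (D.map f)] [∀ i, CompactSpace (D.obj i)]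
    (hc : IsLimit c) [QuasiCompact g] [LocallyOfFinitePresentation f] [QuasiCompact f] [QuasiSeparated f]
    (toS : ∀ i, D.obj i ⟶ S) (htoS : ∀ {i j} (φ : i ⟶ j), D.map φ ≫ toS j = toS i) (i₁ : I) (t : c.pt ⟶ S)
    (ht : ∀ i, c.π.app i ≫ toS i = t) (h : IsProper (bcHom f g t)) :
    ∃ (j : I) (_ : j ⟶ i₁), IsProper (bcHom f g (toS j)) := by
  haveI hA : ∀ {x y : I} (φ : x ⟶ y), IsAffineHom (D.map φ) := fun φ => inferInstance
  let g₀ : pullback g (toS i₁) ⟶ D.obj i₁ := pullback.snd g (toS i₁)
  let f₀ : pullback (f ≫ g) (toS i₁) ⟶ pullback g (toS i₁) := bcHom f g (toS i₁)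
  haveI : QuasiCompact g₀ := MorphismProperty.pullback_snd _ _ inferInstance
  haveI : CompactSpace ↥(pullback g (toS i₁)) := QuasiCompact.compactSpace_of_compactSpace g₀
  have hsq := bcHom_isPullback f g (toS i₁)
  obtain ⟨j, φ, Xj, Yj, fj, gj, pY, pX, h1, h2, hj⟩ :=
    Groth.L19.Limit.Descends.exists_stage L02.ConsP.descends_isProper hc (f₀ := f₀)
      ⟨⟨MorphismProperty.of_isPullback hsq inferInstance, MorphismProperty.of_isPullback hsq inferInstance⟩,
        MorphismProperty.of_isPullback hsq inferInstance⟩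
      (isPullback_bcMap g (c.π.app i₁) (toS i₁) t (ht i₁)) (isPullback_bcHom f g (c.π.app i₁) (toS i₁) t (ht i₁)) h
  have hY := isPullback_bcMap g (D.map φ) (toS i₁) (toS j) (htoS φ)
  let s := h1.lift (bcMap g (D.map φ) (toS i₁) (toS j) (htoS φ)) (pullback.snd g (toS j)) hY.w
  have hs : s ≫ pY = bcMap g (D.map φ) (toS i₁) (toS j) (htoS φ) := h1.lift_fst _ _ _
  have hX : IsPullback (bcMap (f ≫ g) (D.map φ) (toS i₁) (toS j) (htoS φ)) (bcHom f g (toS j)) f₀ (s ≫ pY) := by
    rw [hs]; exact isPullback_bcHom f g (D.map φ) (toS i₁) (toS j) (htoS φ)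
  let r := h2.lift (bcMap (f ≫ g) (D.map φ) (toS i₁) (toS j) (htoS φ)) (bcHom f g (toS j) ≫ s)
    (by rw [Category.assoc]; exact hX.w)
  have hr : r ≫ pX = bcMap (f ≫ g) (D.map φ) (toS i₁) (toS j) (htoS φ) := h2.lift_fst _ _ _
  exact ⟨j, φ, MorphismProperty.of_isPullback (IsPullback.of_right (by rw [hr]; exact hX) (h2.lift_snd _ _ _) h2) hj⟩

theorem isIndConstructible_hasAmple_isProper [QuasiCompact g] [QuasiSeparated g]
    [LocallyOfFinitePresentation f] [QuasiCompact f] [QuasiSeparated f] :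
    ProCons.IsIndConstructible {s : S |
      HasAmple f g (S.fromSpecResidueField s) ∧ IsProper (bcHom f g (S.fromSpecResidueField s))} :=
  isIndConstructible_of_spread (H := fun T t => HasAmple f g t ∧ IsProper (bcHom f g t))
    (fun T T' t σ t' h H => ⟨H.1.comp f g σ h, MorphismProperty.of_isPullback (isPullback_bcHom f g σ t t' h) H.2⟩)
    (fun k K _ _ _ t₀ H =>
      have h1 := HasAmple.of_fieldExtension t₀ K H.1
      ⟨h1, isProper_of_fieldExtension f g t₀ K h1 H.2⟩)
    (fun I _ _ D c _ _ _ hc toS htoS i₀ t ht H => by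
      obtain ⟨j, φ, hj⟩ := exists_stage_hasAmple hc f g toS htoS i₀ t ht H.1
      obtain ⟨k, ψ, hk⟩ := exists_stage_isProper f g hc toS htoS j t ht H.2
      exact ⟨k, ψ ≫ φ, hj.comp f g (D.map ψ) (htoS ψ), hk⟩)

end Groth.L19.Limit
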