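import Groth.Agent.L19.Limit.RelAmple
import Groth.Agent.L02.ConsP.FGA
import Groth.Agent.L19.FinLocPush
import Groth.Agent.L18.NormRelAmple
import Mathlib.AlgebraicGeometry.Morphisms.Finite
import Mathlib.AlgebraicGeometry.Morphisms.Flat
import Mathlib.RingTheory.Jacobson.Ring

/-!
# Ampleness descends along field extensions
-/

set_option autoImplicit false
set_option linter.style.haveILetI false
set_option linter.unusedSectionVars false
set_option backward.isDefEq.respectTransparency false
set_option backward.isDefEq.respectTransparency.types false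
set_option backward.defeqAttrib.useBackward true

universe u

open CategoryTheory CategoryTheory.Limits AlgebraicGeometry TopologicalSpace Opposite

noncomputable section

namespace Groth.L19.Limit

open Groth.L18.Ample L02.ConsP

variable {k : Type u} [Field k]

theorem isAmple_of_finite_extension {X : Scheme.{u}} (p : X ⟶ Spec (CommRingCat.of k)) [QuasiCompact p]
    (L : X.Modules) (hL : PicF.IsInvertible L) (k' : Type u) [Field k'] [Algebra k k'] [Module.Finite k k']
    (h : CohB1.IsAmple ((Scheme.Modules.pullback
      (pullback.fst p (Spec.map (CommRingCat.ofHom (algebraMap k k'))))).obj L)) :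
    CohB1.IsAmple L := by
  let u : Spec (CommRingCat.of k') ⟶ Spec (CommRingCat.of k) := Spec.map (CommRingCat.ofHom (algebraMap k k'))
  haveI : IsFinite u := by
    rw [IsFinite.SpecMap_iff]; exact RingHom.finite_algebraMap.mpr inferInstance
  haveI : Flat u := HasRingHomProperty.Spec_iff.mpr (RingHom.flat_algebraMap_iff.mpr inferInstance)
  haveI : LocallyOfFinitePresentation u :=
    HasRingHomProperty.Spec_iff.mpr (RingHom.finitePresentation_algebraMap.mpr
      (Algebra.FinitePresentation.of_finiteType.mp inferInstance))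
  haveI : Surjective u := ⟨fun x => ⟨default, Subsingleton.elim _ _⟩⟩
  let g := pullback.fst p u
  haveI : IsFinite g := MorphismProperty.pullback_fst _ _ inferInstance
  haveI : Surjective g := MorphismProperty.pullback_fst _ _ inferInstance
  have hg : Mor2.IsFinLocFree g :=
    ⟨inferInstance, MorphismProperty.pullback_fst _ _ inferInstance, MorphismProperty.pullback_fst _ _ inferInstance⟩
  exact isAmple_of_isRelAmple (Groth.L18.NormFree.isRelAmple_of_pullback_finLocFree p
    (Groth.L19.FinLocPush.isFinLocFree_push g hg).2 hL (isRelAmple_of_isAmple h))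

theorem isAmple_of_fieldExtension {X : Scheme.{u}} (p : X ⟶ Spec (CommRingCat.of k)) [QuasiCompact p]
    [QuasiSeparated p] (L : X.Modules) (hL : PicF.IsInvertible L) (K : Type u) [Field K] [Algebra k K]
    (h : CohB1.IsAmple ((Scheme.Modules.pullback
      (pullback.fst p (Spec.map (CommRingCat.ofHom (algebraMap k K))))).obj L)) :
    CohB1.IsAmple L := by
  let D := FGA.specDiagram k K
  let c := FGA.specCone k K
  have hc : IsLimit c := FGA.isLimitSpecCone k K
  let toS : ∀ i, D.obj i ⟶ Spec (CommRingCat.of k) := fun i =>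
    Spec.map (CommRingCat.ofHom (algebraMap k i.unop.1))
  have htoS : ∀ {i j} (φ : i ⟶ j), D.map φ ≫ toS j = toS i := fun φ => by
    show Spec.map _ ≫ Spec.map _ = _
    rw [← Spec.map_comp]
    rfl
  have he : ∀ i, c.π.app i ≫ toS i = Spec.map (CommRingCat.ofHom (algebraMap k K)) := fun i => by
    show Spec.map _ ≫ Spec.map _ = _
    rw [← Spec.map_comp]
    rfl
  let i₀ : (FGA.FG k K)ᵒᵖ := op ⟨⊥, Subalgebra.fg_bot⟩
  let a : pullback p (toS i₀) ⟶ D.obj i₀ := pullback.snd p (toS i₀)
  haveI : ∀ i, CompactSpace (D.obj i) := fun i => inferInstanceAs (CompactSpace (Spec _))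
  haveI : QuasiCompact a := MorphismProperty.pullback_snd _ _ inferInstance
  haveI : QuasiSeparated a := MorphismProperty.pullback_snd _ _ inferInstance
  haveI : ∀ j, CompactSpace ((bcDiagram D a).obj j) := fun j =>
    haveI : QuasiCompact (pullback.fst (D.map j.hom) a) := MorphismProperty.pullback_fst _ _ inferInstance
    QuasiCompact.compactSpace_of_compactSpace (pullback.fst (D.map j.hom) a)
  haveI : ∀ j, QuasiSeparatedSpace ((bcDiagram D a).obj j) := fun j =>
    haveI : QuasiSeparated (pullback.fst (D.map j.hom) a) := MorphismProperty.pullback_fst _ _ inferInstance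
    quasiSeparatedSpace_of_quasiSeparated (pullback.fst (D.map j.hom) a)
  let J : Over i₀ := Over.mk (𝟙 i₀)
  let w : (bcDiagram D a).obj J ⟶ X := pullback.snd (D.map J.hom) a ≫ pullback.fst p (toS i₀)
  let π' : (bcCone D c a).pt ⟶ X := pullback.snd (c.π.app i₀) a ≫ pullback.fst p (toS i₀)
  have hπ : IsPullback π' (pullback.fst (c.π.app i₀) a) p
      (Spec.map (CommRingCat.ofHom (algebraMap k K))) := by
    have := (IsPullback.of_hasPullback (c.π.app i₀) a).flip.paste_horiz (IsPullback.of_hasPullback p (toS i₀))
    rwa [he] at this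
  have hlim : CohB1.IsAmple ((Scheme.Modules.pullback ((bcCone D c a).π.app J)).obj
      ((Scheme.Modules.pullback w).obj L)) := by
    rw [isAmple_pullback_comp_iff _ _ (show (bcCone D c a).π.app J ≫ w = π' by simp [bcCone, w, π']),
      isAmple_pullback_congr hπ.isoPullback _ _ hπ.isoPullback_hom_fst]
    exact h
  obtain ⟨j, m, hj⟩ := exists_isAmple (bcDiagram D a) (bcCone D c a) (isLimitBcCone a hc) (i := J)
    _ (isInvertible_pullback w hL) hlim
  have hp : (bcDiagram D a).map m ≫ w = pullback.snd (D.map j.hom) a ≫ pullback.fst p (toS i₀) := by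
    simp [w, bcDiagram]
  rw [atStage, isAmple_pullback_comp_iff _ _ hp] at hj
  have sqj : IsPullback (pullback.snd (D.map j.hom) a ≫ pullback.fst p (toS i₀)) (pullback.fst (D.map j.hom) a)
      p (toS j.left) := by
    have := (IsPullback.of_hasPullback (D.map j.hom) a).flip.paste_horiz (IsPullback.of_hasPullback p (toS i₀))
    rwa [htoS] at this
  rw [isAmple_pullback_congr sqj.isoPullback _ _ sqj.isoPullback_hom_fst] at hj
  let A := j.left.unop.1
  haveI : Algebra.FiniteType k A := (Subalgebra.fg_iff_finiteType _).mp j.left.unop.2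
  obtain ⟨n, hn⟩ := Ideal.exists_maximal A
  letI : Field (A ⧸ n) := Ideal.Quotient.field n
  haveI : Algebra.FiniteType k (A ⧸ n) :=
    Algebra.FiniteType.of_surjective (Ideal.Quotient.mkₐ k n) Ideal.Quotient.mk_surjective
  haveI : Module.Finite k (A ⧸ n) := finite_of_finite_type_of_isJacobsonRing k (A ⧸ n)
  refine isAmple_of_finite_extension p L hL (A ⧸ n) ?_
  let σ : Spec (CommRingCat.of (A ⧸ n)) ⟶ D.obj j.left := Spec.map (CommRingCat.ofHom (Ideal.Quotient.mk n))
  have hσ : σ ≫ toS j.left = Spec.map (CommRingCat.ofHom (algebraMap k (A ⧸ n))) := by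
    show Spec.map _ ≫ Spec.map _ = _
    rw [← Spec.map_comp]
    rfl
  haveI : IsAffineHom σ := isAffineHom_of_isAffine _
  have sqσ : IsPullback (pullback.fst (pullback.snd p (toS j.left)) σ ≫ pullback.fst p (toS j.left))
      (pullback.snd (pullback.snd p (toS j.left)) σ) p (Spec.map (CommRingCat.ofHom (algebraMap k (A ⧸ n)))) := by
    have := (IsPullback.of_hasPullback (pullback.snd p (toS j.left)) σ).paste_horiz (IsPullback.of_hasPullback p (toS j.left))
    rwa [hσ] at this
  haveI : IsAffineHom (pullback.fst (pullback.snd p (toS j.left)) σ) :=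
    MorphismProperty.pullback_fst (P := @IsAffineHom) _ _ inferInstance
  have hA := isAmple_pullback_of_isAffineHom (pullback.fst (pullback.snd p (toS j.left)) σ) hj
  rw [isAmple_pullback_comp_iff _ _ rfl,
    isAmple_pullback_congr sqσ.isoPullback _ _ sqσ.isoPullback_hom_fst] at hA
  exact hA

end Groth.L19.Limit
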