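import Groth.Agent.L19.Limit.RelAmpleCons
import Groth.Agent.L19.LimMod.Free
import Groth.Agent.L05.ModelFG
import Groth.Agent.L02.ConsP.PairDescends
import Groth.Agent.L02.ConsP.Main
import Groth.Agent.L03.ShStab.RankOneSlope
import Groth.Agent.L18.LocFreeFP
import Groth.Agent.L16.Rees.SpreadAmple

/-!
# Ampleness on the fibres of a proper morphism of finite presentation
-/

set_option autoImplicit false
set_option linter.style.haveILetI false
set_option linter.unusedSectionVars false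
set_option backward.isDefEq.respectTransparency false
set_option backward.isDefEq.respectTransparency.types false
set_option backward.defeqAttrib.useBackward true

universe u

open CategoryTheory CategoryTheory.Limits AlgebraicGeometry TopologicalSpace Opposite

noncomputable section

namespace Groth.L19.Limit

open Groth.L18.Ample L02.ConsP

theorem mem_ampleLocus_iff_of_iso {X S : Scheme.{u}} (v : X ⟶ S) {L M : X.Modules} (e : L ≅ M) (s : S) :
    s ∈ ampleLocus v L ↔ s ∈ ampleLocus v M :=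
  ⟨isAmple_of_iso ((Scheme.Modules.pullback (v.fiberι s)).mapIso e),
    isAmple_of_iso ((Scheme.Modules.pullback (v.fiberι s)).mapIso e).symm⟩

/-- A proper morphism of finite presentation with an invertible module has a Noetherian model. -/
theorem exists_ample_model {A : Type u} [CommRing A] {X : Scheme.{u}} (f : X ⟶ Spec (CommRingCat.of A))
    [IsProper f] [LocallyOfFinitePresentation f] (L : X.Modules) (hL : PicF.IsInvertible L) :
    ∃ (A₀ : Subalgebra ℤ A) (_ : A₀.FG) (X₀ : Scheme.{u}) (f₀ : X₀ ⟶ Spec (CommRingCat.of ↥A₀)) (q : X ⟶ X₀)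
      (L₀ : X₀.Modules), IsProper f₀ ∧ PicF.IsInvertible L₀ ∧
        IsPullback q f f₀ (Spec.map (CommRingCat.ofHom (algebraMap (↥A₀) A))) ∧
        Nonempty ((Scheme.Modules.pullback q).obj L₀ ≅ L) := by
  obtain ⟨A₀, hA₀, X₀, f₀, g, hf₀, hlfp, hqc, sq⟩ := Groth.L05.ModelFG.exists_model A descends_isProper f
    (inferInstanceAs (IsProper f))
  haveI := hf₀
  let D := Groth.L05.ModelFG.specDiagram A
  let c : Cone D := Groth.L05.ModelFG.specCone A
  let i : (Groth.L05.ModelFG.FG A)ᵒᵖ := op ⟨A₀, hA₀⟩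
  let f₀' : X₀ ⟶ D.obj i := f₀
  haveI : QuasiCompact f₀' := hqc
  haveI : IsSeparated f₀' := inferInstanceAs (IsSeparated f₀)
  have hsq : IsPullback g f f₀' (c.π.app i) := sq
  let D' := bcDiagram D f₀'
  have hc' := isLimitSqCone (Groth.L05.ModelFG.isLimitSpecCone A) hsq
  haveI : ∀ j, CompactSpace (D.obj j) := fun j => inferInstanceAs (CompactSpace (Spec _))
  haveI : ∀ j, CompactSpace (D'.obj j) := fun j =>
    haveI : QuasiCompact (pullback.fst (D.map j.hom) f₀') := MorphismProperty.pullback_fst _ _ inferInstance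
    QuasiCompact.compactSpace_of_compactSpace (pullback.fst (D.map j.hom) f₀')
  haveI : ∀ j, QuasiSeparatedSpace (D'.obj j) := fun j =>
    haveI : QuasiSeparated (pullback.fst (D.map j.hom) f₀') := MorphismProperty.pullback_fst _ _ inferInstance
    quasiSeparatedSpace_of_quasiSeparated (pullback.fst (D.map j.hom) f₀')
  haveI : ∀ (a b : Over i) (φ : a ⟶ b), IsAffineHom (D'.map φ) := fun a b φ => inferInstance
  haveI : Coh.IsQCoh L := Groth.L21.Extend.isQCoh_of_isInvertible hL
  have h1 := Groth.L03.ShStab.RankOneSlope.rank_one_of_invertible hL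
  obtain ⟨j, -, Fj, hFq, hFp, ⟨e⟩⟩ := Groth.L19.LimMod.exists_module D' (sqCone hsq) hc' (i := Over.mk (𝟙 i)) L
    (Groth.L18.LFP.isFP_of_isFinLocFree L fun x => by obtain ⟨U, hx, e⟩ := h1 x; exact ⟨U, 1, hx, e⟩)
  haveI := hFq
  obtain ⟨k, φ, hk⟩ := Groth.L19.LimMod.exists_locFree D' (sqCone hsq) hc' (i := j) hFp (fun n => n = 1)
    (fun x => by
      obtain ⟨U, hxU, hU⟩ := h1 x
      exact ⟨U, 1, rfl, hxU, Groth.L19.LimMod.freeOn_of_iso e.symm hU⟩)
  let L₁ := (Scheme.Modules.pullback (D'.map φ)).obj Fj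
  have hL₁ : PicF.IsInvertible L₁ := fun x => by
    obtain ⟨U, n, hn, hxU, ⟨eU⟩⟩ := hk x
    subst hn
    exact ⟨U, hxU, ⟨eU ≪≫ coproductUniqueIso (fun _ : Fin 1 => Coh.structureModule (↑U : Scheme.{u}))⟩⟩
  let fk : D'.obj k ⟶ Spec (CommRingCat.of ↥k.left.unop.1) := pullback.fst (D.map k.hom) f₀'
  have hfk : IsProper fk := MorphismProperty.pullback_fst _ _ hf₀
  refine ⟨k.left.unop.1, k.left.unop.2, D'.obj k, fk, toStage (c := c) hsq k, L₁, hfk, hL₁, ?_, ⟨?_⟩⟩
  · refine IsPullback.of_right ?_ (toStage_fst hsq k) (IsPullback.of_hasPullback (D.map k.hom) f₀').flip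
    rw [toStage_snd]
    show IsPullback g f f₀' (c.π.app k.left ≫ D.map k.hom)
    rw [c.w]
    exact hsq
  · exact Groth.L19.LimMod.cmp ((sqCone hsq).π.app k) (D'.map φ) ((sqCone hsq).w φ) Fj ≪≫ e

variable {X Y : Scheme.{u}}

theorem compl_loc {Z : Type*} [TopologicalSpace Z] {E : Set Z} (h : Topology.IsLocallyConstructible E) :
    Topology.IsLocallyConstructible Eᶜ := fun x =>
  let ⟨U, hU, ho, hc⟩ := h x
  ⟨U, hU, ho, hc.compl⟩

theorem exists_ample_nhd_affine [IsAffine Y] (f : X ⟶ Y) [IsProper f] [LocallyOfFinitePresentation f]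
    (L : X.Modules) (hL : PicF.IsInvertible L) :
    Topology.IsConstructible (ampleLocus f L) ∧ ∀ y ∈ ampleLocus f L,
      ∃ V : Y.Opens, IsAffineOpen V ∧ y ∈ V ∧ CohB1.IsAmple (L.restrict (f ⁻¹ᵁ V).ι) := by
  obtain ⟨A₀, hA₀, X₀, f₀, q, L₀, hf₀, hL₀, sq', ⟨e⟩⟩ :=
    exists_ample_model (A := Γ(Y, ⊤)) (f ≫ Y.isoSpec.hom) L hL
  haveI := hf₀
  let a : Y ⟶ Spec (CommRingCat.of ↥A₀) :=
    Y.isoSpec.hom ≫ Spec.map (CommRingCat.ofHom (algebraMap (↥A₀) Γ(Y, ⊤)))
  have sq : IsPullback q f f₀ a :=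
    sq'.of_iso (Iso.refl _) (Iso.refl _) Y.isoSpec.symm (Iso.refl _) (by simp) (by simp) (by simp) (by simp [a])
  haveI : IsNoetherianRing ↥A₀ := L02.ConsP.isNoetherianRing_of_fg hA₀
  have hmem : ∀ y, y ∈ ampleLocus f L ↔ a y ∈ ampleLocus f₀ L₀ := fun y =>
    (mem_ampleLocus_iff_of_iso f e.symm y).trans (mem_ampleLocus_baseChange_iff sq L₀ hL₀ y)
  have hnhd : ∀ z ∈ ampleLocus f₀ L₀, ∃ V : (Spec (CommRingCat.of ↥A₀)).Opens,
      IsAffineOpen V ∧ z ∈ V ∧ CohB1.IsAmple (L₀.restrict (f₀ ⁻¹ᵁ V).ι) :=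
    fun z hz => Groth.L16.Rees.SpreadAmple.exists_affine_isAmple f₀ L₀ hL₀ z hz
  constructor
  · have hopen : IsOpen (ampleLocus f₀ L₀) := isOpen_iff_forall_mem_open.mpr fun z hz => by
      obtain ⟨V, hV, hzV, hA⟩ := hnhd z hz
      refine ⟨V, fun r hr => ?_, V.2, hzV⟩
      haveI : IsAffine (V : Scheme.{u}) := hV
      have hrel : RelAmple.IsRelAmple (f₀ ∣_ V) (L₀.restrict (f₀ ⁻¹ᵁ V).ι) := isRelAmple_of_isAmple hA
      let r' : (V : Scheme.{u}) := ⟨r, hr⟩
      have hfib := isRelAmple_of_isPullback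
        (IsPullback.of_hasPullback (f₀ ∣_ V) ((V : Scheme.{u}).fromSpecResidueField r')) hrel
      have h2 : r' ∈ ampleLocus (f₀ ∣_ V) ((Scheme.Modules.pullback (f₀ ⁻¹ᵁ V).ι).obj L₀) :=
        (mem_ampleLocus_iff_of_iso _ ((Scheme.Modules.restrictFunctorIsoPullback _).app L₀) r').mp
          (isAmple_of_isRelAmple hfib)
      exact (mem_ampleLocus_baseChange_iff (isPullback_morphismRestrict f₀ V).flip L₀ hL₀ r').mp h2
    have hc : Topology.IsConstructible (ampleLocus f₀ L₀) :=
      IsRetrocompact.isConstructible hopen (fun _ _ _ => NoetherianSpace.isCompact _)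
    rw [show ampleLocus f L = a ⁻¹' ampleLocus f₀ L₀ from Set.ext hmem]
    have h1 := isConstructible_preimage_spec (algebraMap (↥A₀) Γ(Y, ⊤)) hc
    have h2 := h1.preimage_of_isOpenEmbedding Y.isoSpec.hom.isOpenEmbedding
    exact h2
  · intro y hy
    obtain ⟨V, hV, hyV, hA⟩ := hnhd _ ((hmem y).mp hy)
    haveI : IsAffineHom q := MorphismProperty.of_isPullback sq.flip (isAffineHom_of_isAffine a)
    refine ⟨a ⁻¹ᵁ V, hV.preimage a, hyV, ?_⟩
    haveI : IsAffineHom (q ∣_ (f₀ ⁻¹ᵁ V)) :=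
      MorphismProperty.of_isPullback (isPullback_morphismRestrict q _).flip inferInstance
    have h2 := isAmple_pullback_of_isAffineHom (q ∣_ (f₀ ⁻¹ᵁ V)) ((isAmple_restrict_iff_pullback _).1 hA)
    rw [isAmple_pullback_comp_iff _ _ (morphismRestrict_ι q _), ← isAmple_pullback_comp_iff _ _ rfl] at h2
    have e' : f ⁻¹ᵁ (a ⁻¹ᵁ V) = q ⁻¹ᵁ (f₀ ⁻¹ᵁ V) := by
      rw [← Scheme.Hom.comp_preimage, ← Scheme.Hom.comp_preimage, sq.w]
    rw [isAmple_restrict_congr e', isAmple_restrict_iff_pullback]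
    exact isAmple_of_iso ((Scheme.Modules.pullback _).mapIso e) h2

theorem mem_ampleLocus_restrict_iff (f : X ⟶ Y) [QuasiCompact f] [QuasiSeparated f] (L : X.Modules)
    (hL : PicF.IsInvertible L) (U : Y.Opens) (y : (U : Scheme.{u})) :
    y ∈ ampleLocus (f ∣_ U) (L.restrict (f ⁻¹ᵁ U).ι) ↔ U.ι y ∈ ampleLocus f L :=
  (mem_ampleLocus_iff_of_iso _ ((Scheme.Modules.restrictFunctorIsoPullback _).app L) y).trans
    (mem_ampleLocus_baseChange_iff (isPullback_morphismRestrict f U).flip L hL y)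

theorem isRelAmple_iff_fibres (f : X ⟶ Y) [IsProper f] [LocallyOfFinitePresentation f] (L : X.Modules)
    (hL : PicF.IsInvertible L) : RelAmple.IsRelAmple f L ↔ ∀ y, y ∈ ampleLocus f L := by
  refine ⟨fun h y => isAmple_of_isRelAmple
      (isRelAmple_of_isPullback (IsPullback.of_hasPullback f (Y.fromSpecResidueField y)) h), fun h => ?_⟩
  refine isRelAmple_of_local f fun y => ?_
  obtain ⟨U, hU, hyU, -⟩ := exists_affine_le (Opens.mem_top y)
  haveI : IsAffine (U : Scheme.{u}) := hU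
  haveI : LocallyOfFinitePresentation (f ∣_ U) :=
    MorphismProperty.of_isPullback (isPullback_morphismRestrict f U).flip inferInstance
  haveI : IsProper (f ∣_ U) :=
    MorphismProperty.of_isPullback (isPullback_morphismRestrict f U).flip inferInstance
  obtain ⟨V, hV, hyV, hA⟩ := (exists_ample_nhd_affine (f ∣_ U) _ (isInvertible_restrict hL (f ⁻¹ᵁ U))).2
    ⟨y, hyU⟩ ((mem_ampleLocus_restrict_iff f L hL U _).mpr (h _))
  refine ⟨U.ι ''ᵁ V, hV.image_of_isOpenImmersion _, ⟨⟨y, hyU⟩, hyV, rfl⟩, ?_⟩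
  rwa [isAmple_restrict_restrict_iff, isAmple_restrict_congr (image_morphismRestrict_preimage f U V)] at hA

theorem isLocallyConstructible_ampleLocus (f : X ⟶ Y) [IsProper f] [LocallyOfFinitePresentation f]
    (L : X.Modules) (hL : PicF.IsInvertible L) : Topology.IsLocallyConstructible (ampleLocus f L) := by
  refine isLocallyConstructible_of_affine fun U hU => ?_
  have sq := IsPullback.of_hasPullback f hU.fromSpec
  haveI : IsProper (pullback.snd f hU.fromSpec) := MorphismProperty.pullback_snd _ _ inferInstance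
  haveI : LocallyOfFinitePresentation (pullback.snd f hU.fromSpec) :=
    MorphismProperty.pullback_snd _ _ inferInstance
  rw [show hU.fromSpec ⁻¹' ampleLocus f L = ampleLocus (pullback.snd f hU.fromSpec) _ from
    (Set.ext fun r => mem_ampleLocus_baseChange_iff sq L hL r).symm]
  exact (exists_ample_nhd_affine (pullback.snd f hU.fromSpec) _ (isInvertible_pullback _ hL)).1

theorem isLocallyConstructible_relAmpleLocus {S : Scheme.{u}} (f : X ⟶ Y) (g : Y ⟶ S) [IsProper f]
    [LocallyOfFinitePresentation f] [LocallyOfFinitePresentation g] [QuasiCompact g]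
    (L : X.Modules) (hL : PicF.IsInvertible L) :
    Topology.IsLocallyConstructible {s : S | RelAmple.IsRelAmple (fibreHom f g s)
      ((Scheme.Modules.pullback (pullback.fst (f ≫ g) (S.fromSpecResidueField s))).obj L)} := by
  have e : {s : S | RelAmple.IsRelAmple (fibreHom f g s)
      ((Scheme.Modules.pullback (pullback.fst (f ≫ g) (S.fromSpecResidueField s))).obj L)} =
      (g '' (ampleLocus f L)ᶜ)ᶜ := by
    ext s
    have sq := isPullback_fibreHom f g s
    haveI : IsProper (fibreHom f g s) := MorphismProperty.of_isPullback sq inferInstance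
    haveI : LocallyOfFinitePresentation (fibreHom f g s) := MorphismProperty.of_isPullback sq inferInstance
    rw [Set.mem_ofPred_eq, isRelAmple_iff_fibres _ _ (isInvertible_pullback _ hL)]
    refine ⟨fun h => ?_, fun h z => (mem_ampleLocus_baseChange_iff sq L hL z).mpr (by_contra fun hz => ?_)⟩
    · rintro ⟨y, hy, rfl⟩
      obtain ⟨z, hzy⟩ : y ∈ Set.range (pullback.fst g (S.fromSpecResidueField (g y))) := by
        show y ∈ Set.range (g.fiberι (g y))
        rw [g.range_fiberι]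
        rfl
      exact hy (hzy ▸ (mem_ampleLocus_baseChange_iff sq L hL z).mp (h z))
    · exact h ⟨_, hz, (g.range_fiberι s).subset ⟨z, rfl⟩⟩
  rw [e]
  exact (g.isLocallyConstructible_image (compl_loc (isLocallyConstructible_ampleLocus f L hL))) |> compl_loc

end Groth.L19.Limit
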