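import Groth.Agent.L19.Limit.Hom
import Groth.Agent.L19.Limit.Immersion
import Groth.Agent.S12442

/-!
# Isomorphisms between base changes to a cofiltered limit
-/

universe u

open CategoryTheory CategoryTheory.Limits AlgebraicGeometry

namespace Groth.L19.Limit

set_option backward.isDefEq.respectTransparency.types false
set_option backward.isDefEq.respectTransparency false
set_option backward.defeqAttrib.useBackward true
set_option linter.style.haveILetI false

variable {I : Type u} [Category.{u} I] [IsCofiltered I] {D : I ⥤ Scheme.{u}} {c : Cone D}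
  [∀ {i j} (f : i ⟶ j), IsAffineHom (D.map f)]

/-- Finitely presented schemes over a stage which become isomorphic in the limit are isomorphic at a
stage. -/
theorem exists_iso_stage (hc : IsLimit c) {i₀ : I} [CompactSpace (D.obj i₀)]
    [QuasiSeparatedSpace (D.obj i₀)] {X₀ Y₀ : Scheme.{u}} (a₀ : X₀ ⟶ D.obj i₀) (b₀ : Y₀ ⟶ D.obj i₀)
    [LocallyOfFinitePresentation a₀] [QuasiCompact a₀] [QuasiSeparated a₀]
    [LocallyOfFinitePresentation b₀] [QuasiCompact b₀] [QuasiSeparated b₀]
    {X Y : Scheme.{u}} {a : X ⟶ c.pt} {b : Y ⟶ c.pt} {qX : X ⟶ X₀} {qY : Y ⟶ Y₀}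
    (hX : IsPullback qX a a₀ (c.π.app i₀)) (hY : IsPullback qY b b₀ (c.π.app i₀))
    (e : X ≅ Y) (he : e.hom ≫ b = a) :
    ∃ (j : I) (φ : j ⟶ i₀) (e' : pullback a₀ (D.map φ) ≅ pullback b₀ (D.map φ)),
      e'.hom ≫ pullback.snd b₀ (D.map φ) = pullback.snd a₀ (D.map φ) := by
  haveI : CompactSpace X₀ := QuasiCompact.compactSpace_of_compactSpace a₀
  haveI : CompactSpace Y₀ := QuasiCompact.compactSpace_of_compactSpace b₀
  haveI : QuasiSeparatedSpace X₀ := quasiSeparatedSpace_of_quasiSeparated a₀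
  obtain ⟨j, φ, fj, sX, sY, h1, h2, h3, h4, h5, h6⟩ := exists_hom_stage hc hX hY e.hom he
  have hYj : IsPullback sY b (pullback.snd b₀ (D.map φ)) (c.π.app j) :=
    IsPullback.of_right (by rw [h4, c.w]; exact hY) h5 (IsPullback.of_hasPullback b₀ (D.map φ))
  have hXj : IsPullback sX a (pullback.snd a₀ (D.map φ)) (c.π.app j) :=
    IsPullback.of_right (by rw [h2, c.w]; exact hX) h3 (IsPullback.of_hasPullback a₀ (D.map φ))
  have hsq : IsPullback sX e.hom fj sY := IsPullback.of_bot (by rw [he, h1]; exact hXj) h6 hYj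
  haveI : CompactSpace ↥(pullback b₀ (D.map φ)) :=
    QuasiCompact.compactSpace_of_compactSpace (pullback.fst b₀ (D.map φ))
  haveI : LocallyOfFinitePresentation (fj ≫ pullback.snd b₀ (D.map φ)) := by
    rw [h1]; exact MorphismProperty.pullback_snd (P := @LocallyOfFinitePresentation) _ _ inferInstance
  haveI : QuasiCompact (fj ≫ pullback.snd b₀ (D.map φ)) := by
    rw [h1]; exact MorphismProperty.pullback_snd (P := @QuasiCompact) _ _ inferInstance
  haveI : QuasiSeparated (fj ≫ pullback.snd b₀ (D.map φ)) := by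
    rw [h1]; exact MorphismProperty.pullback_snd (P := @QuasiSeparated) _ _ inferInstance
  haveI : LocallyOfFiniteType (pullback.snd b₀ (D.map φ)) :=
    MorphismProperty.pullback_snd (P := @LocallyOfFiniteType) _ _ inferInstance
  haveI : QuasiSeparated (pullback.snd b₀ (D.map φ)) :=
    MorphismProperty.pullback_snd (P := @QuasiSeparated) _ _ inferInstance
  haveI : LocallyOfFinitePresentation fj := Groth.Agent.S12442.result fj (pullback.snd b₀ (D.map φ))
  haveI : QuasiSeparated fj := .of_comp fj (pullback.snd b₀ (D.map φ))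
  haveI : QuasiCompact fj := QuasiCompact.of_comp fj (pullback.snd b₀ (D.map φ))
  obtain ⟨k, ψ, hk⟩ := descends_isIso.exists_pb hc fj (pullback.snd b₀ (D.map φ))
    ⟨⟨inferInstance, inferInstance⟩, inferInstance⟩ hYj
    ((pb_iff_of_isPullback (P := MorphismProperty.isomorphisms Scheme.{u}) hsq).mp
      (inferInstanceAs (IsIso e.hom)))
  let Yk := pullback (D.map ψ) (pullback.snd b₀ (D.map φ))
  let u : pullback (pullback.snd (D.map ψ) (pullback.snd b₀ (D.map φ))) fj ⟶ Yk := pullback.fst _ _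
  haveI : IsIso u := hk
  have k1 : IsPullback (pullback.snd (D.map ψ) (pullback.snd b₀ (D.map φ)) ≫ pullback.fst b₀ (D.map φ))
      (pullback.fst (D.map ψ) (pullback.snd b₀ (D.map φ))) b₀ (D.map (ψ ≫ φ)) := by
    rw [D.map_comp]
    exact (IsPullback.of_hasPullback _ _).flip.paste_horiz (IsPullback.of_hasPullback b₀ (D.map φ))
  have k2 : IsPullback
      (pullback.snd (pullback.snd (D.map ψ) (pullback.snd b₀ (D.map φ))) fj ≫ pullback.fst a₀ (D.map φ))
      (u ≫ pullback.fst (D.map ψ) (pullback.snd b₀ (D.map φ))) a₀ (D.map (ψ ≫ φ)) := by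
    rw [D.map_comp]
    refine IsPullback.paste_horiz ?_ (IsPullback.of_hasPullback a₀ (D.map φ))
    have := (IsPullback.of_hasPullback (pullback.snd (D.map ψ) (pullback.snd b₀ (D.map φ))) fj).flip.paste_vert
      (IsPullback.of_hasPullback (D.map ψ) (pullback.snd b₀ (D.map φ))).flip
    rwa [h1] at this
  refine ⟨k, ψ ≫ φ, k2.isoPullback.symm ≪≫ asIso u ≪≫ k1.isoPullback, ?_⟩
  simp [u]

end Groth.L19.Limit
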