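import Groth.Agent.L19.Limit.OverBase
import Groth.Agent.L19.Limit.IsoStage
import Groth.Agent.L19.LimMod.Descend
import Groth.Agent.L02.ConsP.FGA
import Mathlib.RingTheory.Jacobson.Ring
import Mathlib.AlgebraicGeometry.Morphisms.FinitePresentation

/-!
# Isomorphisms over an extension field are defined over a finite extension
-/

set_option autoImplicit false
set_option linter.style.haveILetI false
set_option linter.unusedSectionVars false
set_option backward.isDefEq.respectTransparency false
set_option backward.isDefEq.respectTransparency.types false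

universe u

open CategoryTheory CategoryTheory.Limits AlgebraicGeometry TopologicalSpace Opposite

noncomputable section

namespace Groth.L19.Limit

variable {k : Type u} [Field k] (K : Type u) [Field K] [Algebra k K]

/-- The structure maps of the stages `Spec A`, `A ⊆ K` of finite type. -/
abbrev fgStr (i : (L02.ConsP.FGA.FG k K)ᵒᵖ) :
    (L02.ConsP.FGA.specDiagram k K).obj i ⟶ Spec (CommRingCat.of k) :=
  Spec.map (CommRingCat.ofHom (algebraMap k i.unop.1))

theorem fgStr_map {i j : (L02.ConsP.FGA.FG k K)ᵒᵖ} (φ : i ⟶ j) :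
    (L02.ConsP.FGA.specDiagram k K).map φ ≫ fgStr K j = fgStr K i := by
  show Spec.map _ ≫ Spec.map _ = Spec.map _
  rw [← Spec.map_comp]; rfl

theorem fgStr_π (i : (L02.ConsP.FGA.FG k K)ᵒᵖ) :
    (L02.ConsP.FGA.specCone k K).π.app i ≫ fgStr K i = Spec.map (CommRingCat.ofHom (algebraMap k K)) := by
  show Spec.map _ ≫ Spec.map _ = Spec.map _
  rw [← Spec.map_comp]; rfl

/-- Every stage has a point in a finite extension of the ground field. -/
theorem exists_finite_point (i : (L02.ConsP.FGA.FG k K)ᵒᵖ) :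
    ∃ (k' : Type u) (_ : Field k') (_ : Algebra k k') (_ : Module.Finite k k')
      (σ : Spec (CommRingCat.of k') ⟶ (L02.ConsP.FGA.specDiagram k K).obj i),
      σ ≫ fgStr K i = Spec.map (CommRingCat.ofHom (algebraMap k k')) := by
  let A := i.unop.1
  haveI : Algebra.FiniteType k A := (Subalgebra.fg_iff_finiteType _).mp i.unop.2
  obtain ⟨n, hn⟩ := Ideal.exists_maximal A
  letI : Field (A ⧸ n) := Ideal.Quotient.field n
  haveI : Algebra.FiniteType k (A ⧸ n) :=
    Algebra.FiniteType.of_surjective (Ideal.Quotient.mkₐ k n) Ideal.Quotient.mk_surjective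
  exact ⟨A ⧸ n, inferInstance, inferInstance, finite_of_finite_type_of_isJacobsonRing k (A ⧸ n),
    Spec.map (CommRingCat.ofHom (Ideal.Quotient.mk n)), by rw [← Spec.map_comp]; rfl⟩

/-- An isomorphism of base changes restricts along a further base change. -/
theorem exists_iso_comp {X Y S T T' : Scheme.{u}} (p : X ⟶ S) (q : Y ⟶ S) (t : T ⟶ S) (σ : T' ⟶ T)
    (e : pullback p t ≅ pullback q t) (he : e.hom ≫ pullback.snd q t = pullback.snd p t) :
    ∃ e' : pullback p (σ ≫ t) ≅ pullback q (σ ≫ t),
      e'.hom ≫ pullback.snd q (σ ≫ t) = pullback.snd p (σ ≫ t) := by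
  have sP : IsPullback (pullback.fst (pullback.snd p t) σ ≫ pullback.fst p t) (pullback.snd (pullback.snd p t) σ)
      p (σ ≫ t) := (IsPullback.of_hasPullback (pullback.snd p t) σ).paste_horiz (IsPullback.of_hasPullback p t)
  have sQ : IsPullback (pullback.fst (pullback.snd q t) σ ≫ pullback.fst q t) (pullback.snd (pullback.snd q t) σ)
      q (σ ≫ t) := (IsPullback.of_hasPullback (pullback.snd q t) σ).paste_horiz (IsPullback.of_hasPullback q t)
  let m : pullback (pullback.snd p t) σ ≅ pullback (pullback.snd q t) σ :=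
    asIso (pullback.map (pullback.snd p t) σ (pullback.snd q t) σ e.hom (𝟙 _) (𝟙 _) (by simp [he]) (by simp))
  exact ⟨sP.isoPullback.symm ≪≫ m ≪≫ sQ.isoPullback, by simp [m]⟩

/-- Schemes of finite type which become isomorphic over an extension are isomorphic over a finite one. -/
theorem exists_iso_finite_extension {X Y : Scheme.{u}} (p : X ⟶ Spec (CommRingCat.of k))
    (q : Y ⟶ Spec (CommRingCat.of k)) [LocallyOfFiniteType p] [QuasiCompact p] [LocallyOfFiniteType q]
    [QuasiCompact q]
    (e : pullback p (Spec.map (CommRingCat.ofHom (algebraMap k K))) ≅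
      pullback q (Spec.map (CommRingCat.ofHom (algebraMap k K))))
    (he : e.hom ≫ pullback.snd q _ = pullback.snd p _) :
    ∃ (k' : Type u) (_ : Field k') (_ : Algebra k k') (_ : Module.Finite k k')
      (e' : pullback p (Spec.map (CommRingCat.ofHom (algebraMap k k'))) ≅
        pullback q (Spec.map (CommRingCat.ofHom (algebraMap k k')))),
      e'.hom ≫ pullback.snd q _ = pullback.snd p _ := by
  haveI : IsLocallyNoetherian X := LocallyOfFiniteType.isLocallyNoetherian p
  haveI : IsLocallyNoetherian Y := LocallyOfFiniteType.isLocallyNoetherian q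
  haveI : LocallyOfFinitePresentation p := inferInstance
  haveI : LocallyOfFinitePresentation q := inferInstance
  haveI : QuasiSeparated p := QuasiSeparated.of_comp p (terminal.from _)
  haveI : QuasiSeparated q := QuasiSeparated.of_comp q (terminal.from _)
  let D := L02.ConsP.FGA.specDiagram k K
  let c := L02.ConsP.FGA.specCone k K
  let i₀ : (L02.ConsP.FGA.FG k K)ᵒᵖ := op ⟨⊥, Subalgebra.fg_bot⟩
  haveI : CompactSpace (D.obj i₀) := inferInstanceAs (CompactSpace (Spec _))
  haveI : QuasiSeparatedSpace (D.obj i₀) := inferInstanceAs (QuasiSeparatedSpace (Spec _))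
  have hsq : ∀ {Z : Scheme.{u}} (r : Z ⟶ Spec (CommRingCat.of k)), IsPullback
      (pullback.map r (Spec.map (CommRingCat.ofHom (algebraMap k K))) r (fgStr K i₀) (𝟙 Z) (c.π.app i₀) (𝟙 _)
        (by simp) (by rw [Category.comp_id]; exact (fgStr_π K i₀).symm))
      (pullback.snd r _) (pullback.snd r (fgStr K i₀)) (c.π.app i₀) := fun r => by
    refine IsPullback.of_right ?_ (pullback.lift_snd _ _ _) (IsPullback.of_hasPullback r (fgStr K i₀))
    rw [pullback.lift_fst, Category.comp_id, fgStr_π K i₀]
    exact IsPullback.of_hasPullback _ _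
  obtain ⟨j, φ, e₁, he₁⟩ := exists_iso_stage (L02.ConsP.FGA.isLimitSpecCone k K)
    (pullback.snd p (fgStr K i₀)) (pullback.snd q (fgStr K i₀)) (hsq p) (hsq q) e he
  have sP := (IsPullback.of_hasPullback (pullback.snd p (fgStr K i₀)) (D.map φ)).paste_horiz
    (IsPullback.of_hasPullback p (fgStr K i₀))
  have sQ := (IsPullback.of_hasPullback (pullback.snd q (fgStr K i₀)) (D.map φ)).paste_horiz
    (IsPullback.of_hasPullback q (fgStr K i₀))
  rw [fgStr_map K φ] at sP sQ
  obtain ⟨k', _, _, hfin, σ, hσ⟩ := exists_finite_point K j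
  have := exists_iso_comp p q (fgStr K j) σ (sP.isoPullback.symm ≪≫ e₁ ≪≫ sQ.isoPullback) (by
    simp only [Iso.trans_hom, Iso.symm_hom, Category.assoc]
    rw [sQ.isoPullback_hom_snd, he₁, sP.isoPullback_inv_snd])
  rw [hσ] at this
  obtain ⟨e', he'⟩ := this
  exact ⟨k', _, _, hfin, e', he'⟩

/-- Coherent modules which become isomorphic over an extension are isomorphic over a finite one. -/
theorem exists_module_iso_finite_extension {X : Scheme.{u}} (p : X ⟶ Spec (CommRingCat.of k))
    [LocallyOfFiniteType p] [QuasiCompact p] (F G : X.Modules) [Coh.IsQCoh F] [Coh.IsQCoh G]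
    (hF : CohB1.IsFP F) (hG : CohB1.IsFP G)
    (e : (Scheme.Modules.pullback (pullback.fst p (Spec.map (CommRingCat.ofHom (algebraMap k K))))).obj F ≅
      (Scheme.Modules.pullback (pullback.fst p (Spec.map (CommRingCat.ofHom (algebraMap k K))))).obj G) :
    ∃ (k' : Type u) (_ : Field k') (_ : Algebra k k') (_ : Module.Finite k k'),
      Nonempty ((Scheme.Modules.pullback (pullback.fst p (Spec.map (CommRingCat.ofHom (algebraMap k k'))))).obj F ≅
        (Scheme.Modules.pullback (pullback.fst p (Spec.map (CommRingCat.ofHom (algebraMap k k'))))).obj G) := by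
  haveI : IsLocallyNoetherian X := LocallyOfFiniteType.isLocallyNoetherian p
  haveI : QuasiSeparated p := QuasiSeparated.of_comp p (terminal.from _)
  let D := L02.ConsP.FGA.specDiagram k K
  let c := L02.ConsP.FGA.specCone k K
  let i₀ : (L02.ConsP.FGA.FG k K)ᵒᵖ := op ⟨⊥, Subalgebra.fg_bot⟩
  let E := baseDiagram p (fgStr K) (fgStr_map K)
  let cE := baseCone (c := c) p (fgStr K) (fgStr_map K) (Spec.map (CommRingCat.ofHom (algebraMap k K))) (fgStr_π K)
  haveI : ∀ {i j} (a : i ⟶ j), IsAffineHom (E.map a) := fun a =>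
    isAffineHom_baseDiagram_map p (fgStr K) (fgStr_map K) a
  haveI : ∀ i, CompactSpace (E.obj i) := fun i =>
    haveI : CompactSpace (D.obj i) := inferInstanceAs (CompactSpace (Spec _))
    haveI : QuasiCompact (pullback.snd p (fgStr K i)) := MorphismProperty.pullback_snd _ _ inferInstance
    QuasiCompact.compactSpace_of_compactSpace (pullback.snd p (fgStr K i))
  haveI : ∀ i, QuasiSeparatedSpace (E.obj i) := fun i =>
    haveI : QuasiSeparatedSpace (D.obj i) := inferInstanceAs (QuasiSeparatedSpace (Spec _))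
    haveI : QuasiSeparated (pullback.snd p (fgStr K i)) := MorphismProperty.pullback_snd _ _ inferInstance
    quasiSeparatedSpace_of_quasiSeparated (pullback.snd p (fgStr K i))
  let w : E.obj i₀ ⟶ X := pullback.fst p (fgStr K i₀)
  have hw : cE.π.app i₀ ≫ w = pullback.fst p _ := by simp [cE, w, baseCone]
  haveI := Groth.L19.LimMod.isQCoh_pullback w F
  haveI := Groth.L19.LimMod.isQCoh_pullback w G
  obtain ⟨j, φ, ⟨e₁⟩⟩ := Groth.L19.LimMod.exists_iso E cE
    (isLimitBaseCone p (fgStr K) (fgStr_map K) _ (fgStr_π K) (L02.ConsP.FGA.isLimitSpecCone k K)) (i := i₀)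
    ((Scheme.Modules.pullback w).obj F) ((Scheme.Modules.pullback w).obj G)
    (Groth.L19.LimMod.isFP_pullback' w F hF) (Groth.L19.LimMod.isFP_pullback' w G hG)
    (Groth.L19.LimMod.cmp _ w hw F ≪≫ e ≪≫ (Groth.L19.LimMod.cmp _ w hw G).symm)
  obtain ⟨k', _, _, hfin, σ, hσ⟩ := exists_finite_point K j
  let s : pullback p (Spec.map (CommRingCat.ofHom (algebraMap k k'))) ⟶ E.obj j :=
    pullback.map p _ p (fgStr K j) (𝟙 X) σ (𝟙 _) (by simp) (by rw [Category.comp_id, hσ])
  have hs : (s ≫ E.map φ) ≫ w = pullback.fst p _ := by simp [s, E, w, baseDiagram]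
  refine ⟨k', _, _, hfin, ⟨?_⟩⟩
  exact (Groth.L19.LimMod.cmp (s ≫ E.map φ) w hs F).symm ≪≫
    (Groth.L19.LimMod.cmp s (E.map φ) rfl _).symm ≪≫ (Scheme.Modules.pullback s).mapIso e₁ ≪≫
    Groth.L19.LimMod.cmp s (E.map φ) rfl _ ≪≫ Groth.L19.LimMod.cmp (s ≫ E.map φ) w hs G

end Groth.L19.Limit
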