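import Groth.Agent.L19.Limit.OverBase
import Groth.Agent.L02.ConsP.FGA
import Mathlib.AlgebraicGeometry.Morphisms.ClosedImmersion
import Mathlib.AlgebraicGeometry.Morphisms.FinitePresentation
import Mathlib.AlgebraicGeometry.Fiber
import Mathlib.RingTheory.FiniteType

/-!
# A closed set avoiding a fibre comes, near the point, from a base locally of finite presentation
-/

set_option autoImplicit false
set_option linter.style.haveILetI false
set_option backward.isDefEq.respectTransparency false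
set_option backward.isDefEq.respectTransparency.types false

universe u

open CategoryTheory CategoryTheory.Limits AlgebraicGeometry TopologicalSpace

noncomputable section

namespace Groth.L19.Limit

theorem exists_lfp_avoiding {X S T : Scheme.{u}} (f : X ⟶ S) [QuasiCompact f] (g : T ⟶ S) (t : T)
    {W : S.Opens} (hW : IsAffineOpen W) {V : T.Opens} (hV : IsAffineOpen V) (htV : t ∈ V) (hVW : V ≤ g ⁻¹ᵁ W)
    (Z : Set ↥(pullback f g)) (hZ : IsClosed Z) (hZt : ∀ z ∈ Z, pullback.snd f g z ≠ t) :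
    ∃ (T' : Scheme.{u}) (b : T' ⟶ S) (a : (V : Scheme.{u}) ⟶ T')
      (m : pullback f (V.ι ≫ g) ⟶ pullback f b) (Z' : Set ↥(pullback f b)),
      IsAffine T' ∧ LocallyOfFinitePresentation b ∧ a ≫ b = V.ι ≫ g ∧
      m ≫ pullback.fst f b = pullback.fst f (V.ι ≫ g) ∧ m ≫ pullback.snd f b = pullback.snd f (V.ι ≫ g) ≫ a ∧
      IsClosed Z' ∧ (∀ z' ∈ Z', pullback.snd f b z' ≠ a ⟨t, htV⟩) ∧
      ∀ z : ↥(pullback f (V.ι ≫ g)),
        (pullback.lift (pullback.fst f (V.ι ≫ g)) (pullback.snd f (V.ι ≫ g) ≫ V.ι)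
          (by rw [Category.assoc, pullback.condition]) : pullback f (V.ι ≫ g) ⟶ pullback f g) z ∈ Z →
          m z ∈ Z' := by
  let R : Type u := Γ(S, W)
  let A : Type u := Γ(T, V)
  letI : Algebra R A := (g.appLE W V hVW).hom.toAlgebra
  let D := L02.ConsP.FGA.specDiagram R A
  let c := L02.ConsP.FGA.specCone R A
  let τ : ∀ i, D.obj i ⟶ S := fun i => Spec.map (CommRingCat.ofHom (algebraMap R i.unop.1)) ≫ hW.fromSpec
  have hτ : ∀ {i j} (φ : i ⟶ j), D.map φ ≫ τ j = τ i := fun φ => by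
    show Spec.map _ ≫ Spec.map _ ≫ _ = _
    rw [← Category.assoc, ← Spec.map_comp]; rfl
  let T₀ : c.pt ⟶ S := hV.fromSpec ≫ g
  have hT₀ : ∀ i, c.π.app i ≫ τ i = T₀ := fun i => by
    show Spec.map _ ≫ Spec.map _ ≫ _ = hV.fromSpec ≫ g
    rw [← hW.SpecMap_appLE_fromSpec g hV hVW, ← Category.assoc, ← Spec.map_comp]; rfl
  let e := hV.isoSpec
  have he : e.hom ≫ hV.fromSpec = V.ι := IsAffineOpen.isoSpec_hom_fromSpec hV
  let t₀ : c.pt := e.hom ⟨t, htV⟩
  have ht₀ : hV.fromSpec t₀ = t := by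
    show hV.fromSpec (e.hom ⟨t, htV⟩) = t
    rw [← Scheme.Hom.comp_apply, he]; rfl
  let n₀ : pullback f T₀ ⟶ pullback f g :=
    pullback.lift (pullback.fst _ _) (pullback.snd _ _ ≫ hV.fromSpec) (by rw [Category.assoc, pullback.condition])
  let q : pullback f T₀ ⟶ c.pt := pullback.snd f T₀
  haveI : QuasiCompact q := MorphismProperty.pullback_snd _ _ inferInstance
  have hF : IsCompact (q ⁻¹' {t₀}) := by
    haveI : CompactSpace ↥(q.fiber t₀) :=
      QuasiCompact.compactSpace_of_compactSpace (q.fiberToSpecResidueField t₀)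
    rw [← q.range_fiberι t₀]
    exact isCompact_range (q.fiberι t₀).continuous
  have hFZ : q ⁻¹' {t₀} ⊆ (n₀ ⁻¹' Z)ᶜ := fun z hz hzZ => by
    refine hZt _ hzZ ?_
    rw [← Scheme.Hom.comp_apply, pullback.lift_snd, Scheme.Hom.comp_apply]
    show hV.fromSpec (q z) = t
    rw [hz, ht₀]
  have hop : IsOpen (n₀ ⁻¹' Z)ᶜ := (hZ.preimage n₀.continuous).isOpen_compl
  choose O hO hxO hOZ using fun x : (q ⁻¹' {t₀} : Set ↥(pullback f T₀)) =>
    exists_isAffineOpen_mem_and_subset (x := x.1) (U := ⟨_, hop⟩) (hFZ x.2)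
  obtain ⟨s, hs⟩ := hF.elim_finite_subcover (fun x => (O x : Set ↥(pullback f T₀))) (fun x => (O x).2)
    (fun x hx => Set.mem_iUnion.mpr ⟨⟨x, hx⟩, hxO ⟨x, hx⟩⟩)
  let U : (pullback f T₀).Opens := ⨆ x : s, O x.1
  have hUc : IsCompact (U : Set ↥(pullback f T₀)) := by
    rw [Opens.coe_iSup]
    exact isCompact_iUnion fun x => (hO x.1).isCompact
  obtain ⟨i, U₁, -, hU₁⟩ := exists_stage_open f τ hτ T₀ hT₀ (L02.ConsP.FGA.isLimitSpecCone R A) U hUc
  let B := i.unop.1
  haveI : Algebra.FiniteType R B := (Subalgebra.fg_iff_finiteType _).mp i.unop.2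
  obtain ⟨k, π, hπ⟩ := Algebra.FiniteType.iff_quotient_mvPolynomial''.mp (inferInstance : Algebra.FiniteType R B)
  let P := MvPolynomial (Fin k) R
  let b₀ : Spec (CommRingCat.of P) ⟶ Spec (CommRingCat.of R) := Spec.map (CommRingCat.ofHom (algebraMap R P))
  haveI : LocallyOfFinitePresentation b₀ := HasRingHomProperty.Spec_iff.mpr
    (RingHom.finitePresentation_algebraMap.mpr inferInstance)
  let b : Spec (CommRingCat.of P) ⟶ S := b₀ ≫ hW.fromSpec
  haveI : LocallyOfFinitePresentation b := inferInstance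
  let ι : D.obj i ⟶ Spec (CommRingCat.of P) := Spec.map (CommRingCat.ofHom π.toRingHom)
  haveI : IsClosedImmersion ι := IsClosedImmersion.spec_of_surjective _ hπ
  have hι : ι ≫ b = τ i := by
    show Spec.map _ ≫ Spec.map _ ≫ _ = Spec.map _ ≫ _
    rw [← Category.assoc, ← Spec.map_comp, ← CommRingCat.ofHom_comp]
    exact congrArg (fun r => Spec.map (CommRingCat.ofHom r) ≫ hW.fromSpec) π.comp_algebraMap
  let ιX : pullback f (τ i) ⟶ pullback f b :=
    pullback.lift (pullback.fst _ _) (pullback.snd _ _ ≫ ι) (by rw [Category.assoc, hι, pullback.condition])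
  have sqι : IsPullback ιX (pullback.snd f (τ i)) (pullback.snd f b) ι := by
    refine IsPullback.of_right ?_ (pullback.lift_snd _ _ _) (IsPullback.of_hasPullback f b)
    rw [pullback.lift_fst, hι]
    exact IsPullback.of_hasPullback _ _
  haveI : IsClosedImmersion ιX := MorphismProperty.of_isPullback sqι.flip inferInstance
  let μ : pullback f T₀ ⟶ pullback f (τ i) :=
    pullback.map f T₀ f (τ i) (𝟙 X) (c.π.app i) (𝟙 S) (by simp) (by rw [Category.comp_id, hT₀])
  let a : (V : Scheme.{u}) ⟶ Spec (CommRingCat.of P) := e.hom ≫ c.π.app i ≫ ι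
  have hab : a ≫ b = V.ι ≫ g := by
    show (e.hom ≫ c.π.app i ≫ ι) ≫ b = _
    rw [Category.assoc, Category.assoc, hι, hT₀, ← Category.assoc, he]
  let ε : pullback f (V.ι ≫ g) ⟶ pullback f T₀ :=
    pullback.lift (pullback.fst _ _) (pullback.snd _ _ ≫ e.hom) (by
      rw [Category.assoc, pullback.condition]; show _ = _ ≫ e.hom ≫ hV.fromSpec ≫ g; rw [reassoc_of% he])
  refine ⟨_, b, a, ε ≫ μ ≫ ιX, ιX '' ((U₁ : Set ↥(pullback f (τ i)))ᶜ), inferInstance, inferInstance, hab,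
    ?_, ?_, ιX.isClosedEmbedding.isClosedMap _ U₁.2.isClosed_compl, ?_, ?_⟩
  · simp [ιX, μ, ε]
  · simp [ιX, μ, ε, a]
  · rintro _ ⟨w, hw, rfl⟩ h
    rw [← Scheme.Hom.comp_apply, pullback.lift_snd, Scheme.Hom.comp_apply] at h
    have hw' : pullback.snd f (τ i) w = c.π.app i t₀ := ι.isClosedEmbedding.injective h
    have sqμ : IsPullback μ q (pullback.snd f (τ i)) (c.π.app i) := by
      refine IsPullback.of_right ?_ (pullback.lift_snd _ _ _) (IsPullback.of_hasPullback f (τ i))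
      rw [pullback.lift_fst, Category.comp_id, hT₀]
      exact IsPullback.of_hasPullback _ _
    obtain ⟨z, hzw, hzt⟩ := Scheme.Pullback.exists_preimage_pullback (f := pullback.snd f (τ i)) (g := c.π.app i) w t₀ hw'
    let z' := sqμ.isoPullback.inv z
    have hz₁ : μ z' = w := by
      rw [← Scheme.Hom.comp_apply, sqμ.isoPullback_inv_fst]; exact hzw
    have hz₂ : q z' = t₀ := by
      rw [← Scheme.Hom.comp_apply, sqμ.isoPullback_inv_snd]; exact hzt
    obtain ⟨x, hxs, hx⟩ := Set.mem_iUnion₂.mp (hs (show z' ∈ q ⁻¹' {t₀} from hz₂))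
    have : z' ∈ μ ⁻¹ᵁ U₁ := hU₁.ge (Opens.mem_iSup.mpr ⟨⟨x, hxs⟩, hx⟩)
    exact hw (hz₁ ▸ this)
  · intro z hz
    refine ⟨μ (ε z), fun hmem => ?_, rfl⟩
    obtain ⟨x, hx⟩ := Opens.mem_iSup.mp (hU₁.le (show ε z ∈ μ ⁻¹ᵁ U₁ from hmem))
    have hn : ε ≫ n₀ = pullback.lift (pullback.fst f (V.ι ≫ g)) (pullback.snd f (V.ι ≫ g) ≫ V.ι)
        (by rw [Category.assoc, pullback.condition]) := by
      apply pullback.hom_ext <;> simp [ε, n₀, he]
    refine hOZ x.1 hx ?_
    show n₀ (ε z) ∈ Z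
    rw [← Scheme.Hom.comp_apply, hn]
    exact hz

end Groth.L19.Limit
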