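import Groth.Agent.L19.Limit.IsoStage

/-!
# Descending properties through models over finitely presented bases
-/

universe u

open CategoryTheory CategoryTheory.Limits AlgebraicGeometry MorphismProperty

namespace Groth.L19.Limit

set_option backward.isDefEq.respectTransparency.types false
set_option backward.isDefEq.respectTransparency false
set_option backward.defeqAttrib.useBackward true
set_option linter.style.haveILetI false

/-- A property local at the source descends once it does so for affine sources. -/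
theorem descendsAffine_of_source {P : MorphismProperty Scheme.{u}} [P.IsStableUnderBaseChange]
    [IsZariskiLocalAtSource P]
    (h : ∀ {I : Type u} [Category.{u} I] [IsCofiltered I] {D : I ⥤ Scheme.{u}} {c : Cone D}
      [∀ {i j} (f : i ⟶ j), IsAffineHom (D.map f)] [∀ j, IsAffine (D.obj j)] (_ : IsLimit c)
      {i : I} {X : Scheme.{u}} [IsAffine X] (a : X ⟶ D.obj i) [LocallyOfFinitePresentation a],
        Pb P a (c.π.app i) → ∃ (j : I) (φ : j ⟶ i), Pb P a (D.map φ)) :
    DescendsAffine P qcqsfp := by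
  intro I _ _ D c _ _ hc i X a ha hP
  haveI : QuasiCompact a := ha.1.1
  haveI : LocallyOfFinitePresentation a := ha.2
  haveI : CompactSpace X := QuasiCompact.compactSpace_of_compactSpace a
  let 𝒰 := X.affineCover.finiteSubcover
  haveI : ∀ k, IsAffine (𝒰.X k) := fun k => inferInstanceAs (IsAffine (Spec _))
  have hsq : ∀ {T : Scheme.{u}} (g : T ⟶ D.obj i) (k : 𝒰.I₀),
      IsPullback (pullback.snd (pullback.snd g a) (𝒰.f k))
        (pullback.fst (pullback.snd g a) (𝒰.f k) ≫ pullback.fst g a) (𝒰.f k ≫ a) g := fun g k =>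
    (IsPullback.of_hasPullback (pullback.snd g a) (𝒰.f k)).flip.paste_vert
      (IsPullback.of_hasPullback g a).flip
  choose j φ hφ using fun k => h hc (𝒰.f k ≫ a)
    ((pb_iff_of_isPullback (hsq (c.π.app i) k)).mp (IsZariskiLocalAtSource.comp hP _))
  obtain ⟨l, ψ, χ, hχ⟩ := IsCofiltered.wideCospan φ
  refine ⟨l, ψ, IsZariskiLocalAtSource.of_openCover (𝒰.pullback₁ (pullback.snd (D.map ψ) a))
    fun k => ?_⟩
  refine (pb_iff_of_isPullback (hsq (D.map ψ) k)).mpr ?_
  rw [← hχ k, D.map_comp]
  exact pb_comp _ (hφ k)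

variable {I : Type u} [Category.{u} I] [IsCofiltered I] {D : I ⥤ Scheme.{u}} {c : Cone D}
  [∀ {i j} (f : i ⟶ j), IsAffineHom (D.map f)]

/-- Descent from a model over a scheme of finite presentation over `ℤ`. -/
theorem exists_stage_of_model {P : MorphismProperty Scheme.{u}} [P.IsStableUnderBaseChange]
    [∀ j, IsAffine (D.obj j)] (hc : IsLimit c) {i : I} {X : Scheme.{u}} (a : X ⟶ D.obj i)
    [LocallyOfFinitePresentation a] [QuasiCompact a] [QuasiSeparated a]
    {W V : Scheme.{u}} [LocallyOfFinitePresentation (specULiftZIsTerminal.from V)] (w : W ⟶ V)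
    [LocallyOfFinitePresentation w] [QuasiCompact w] [QuasiSeparated w] (hP : P w) (π : c.pt ⟶ V)
    {Z : Scheme.{u}} {p : Z ⟶ c.pt} {qa : Z ⟶ X} {qw : Z ⟶ W}
    (h1 : IsPullback qa p a (c.π.app i)) (h2 : IsPullback qw p w π) :
    ∃ (j : I) (φ : j ⟶ i), Pb P a (D.map φ) := by
  obtain ⟨k, g, hg, -⟩ := Scheme.exists_π_app_comp_eq_of_locallyOfFinitePresentation D
    { app := fun j => specULiftZIsTerminal.from (D.obj j)
      naturality := fun _ _ _ => specULiftZIsTerminal.hom_ext _ _ }
    (specULiftZIsTerminal.from V) c hc π (by ext j : 2; exact specULiftZIsTerminal.hom_ext _ _)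
  let k' := IsCofiltered.min i k
  let φ : k' ⟶ i := IsCofiltered.minToLeft i k
  let g' : D.obj k' ⟶ V := D.map (IsCofiltered.minToRight i k) ≫ g
  have hg' : c.π.app k' ≫ g' = π := (c.w_assoc _ g).trans hg
  let sA : Z ⟶ pullback a (D.map φ) := pullback.lift qa (p ≫ c.π.app k')
    (by rw [Category.assoc, c.w]; exact h1.w)
  let sW : Z ⟶ pullback w g' := pullback.lift qw (p ≫ c.π.app k')
    (by rw [Category.assoc, hg']; exact h2.w)
  have hA : IsPullback sA p (pullback.snd a (D.map φ)) (c.π.app k') :=
    IsPullback.of_right (by rw [pullback.lift_fst, c.w]; exact h1) (pullback.lift_snd _ _ _)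
      (IsPullback.of_hasPullback a (D.map φ))
  have hW : IsPullback sW p (pullback.snd w g') (c.π.app k') :=
    IsPullback.of_right (by rw [pullback.lift_fst, hg']; exact h2) (pullback.lift_snd _ _ _)
      (IsPullback.of_hasPullback w g')
  obtain ⟨l, ψ, e, he⟩ := exists_iso_stage hc (pullback.snd a (D.map φ)) (pullback.snd w g') hA hW
    (Iso.refl Z) (Category.id_comp _)
  refine ⟨l, ψ ≫ φ, ?_⟩
  rw [D.map_comp]
  refine (pb_snd_iff (D.map φ) (D.map ψ)).mp ((pb_iff_of_isPullback
    (IsPullback.of_hasPullback (pullback.snd a (D.map φ)) (D.map ψ))).mp ?_)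
  rw [← he, P.cancel_left_of_respectsIso]
  exact MorphismProperty.pullback_snd _ _ (MorphismProperty.pullback_snd _ _ hP)

end Groth.L19.Limit
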