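import Groth.Agent.L19.Limit.Reduced
import Groth.Agent.L19.Limit.MaxPoints
import Mathlib.AlgebraicGeometry.Noetherian
import Mathlib.AlgebraicGeometry.FunctionField

/-!
# Limits along open immersions
-/

universe u

open CategoryTheory CategoryTheory.Limits AlgebraicGeometry Opposite

namespace Groth.L19.Limit

set_option backward.isDefEq.respectTransparency false
set_option backward.isDefEq.respectTransparency.types false

theorem isReduced_stalk_eq_zero {X : Scheme.{u}} {U : X.Opens} (hU : IsAffineOpen U) (x : X)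
    (hx : x ∈ U) (h : ∀ n ∈ nilradical Γ(X, U), X.presheaf.germ U x hx n = 0) :
    _root_.IsReduced (X.presheaf.stalk x) := by
  haveI := hU.isLocalization_stalk ⟨x, hx⟩
  algebraize [(X.presheaf.germ U x hx).hom]
  refine ⟨fun a ha => ?_⟩
  obtain ⟨⟨r, t⟩, hrt⟩ := IsLocalization.surj (M := (hU.primeIdealOf ⟨x, hx⟩).asIdeal.primeCompl) a
  obtain ⟨n, hn⟩ := ha
  have h0 : algebraMap Γ(X, U) (X.presheaf.stalk x) (r ^ (n + 1)) = 0 := by
    rw [map_pow, ← hrt, mul_pow, pow_succ a n, hn]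
    simp
  obtain ⟨⟨u, hu⟩, huv⟩ := (IsLocalization.map_eq_zero_iff (hU.primeIdealOf ⟨x, hx⟩).asIdeal.primeCompl
    (X.presheaf.stalk x) _).mp h0
  have hnil : u * r ∈ nilradical Γ(X, U) := mem_nilradical.mpr ⟨n + 1, by
    simp only at huv
    rw [mul_pow, pow_succ u n, mul_assoc, huv, mul_zero]⟩
  have := h _ hnil
  change algebraMap Γ(X, U) (X.presheaf.stalk x) (u * r) = 0 at this
  rw [map_mul, ← hrt] at this
  have h1 := (IsLocalization.map_units (M := (hU.primeIdealOf ⟨x, hx⟩).asIdeal.primeCompl) (X.presheaf.stalk x) ⟨u, hu⟩).mul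
    (IsLocalization.map_units (M := (hU.primeIdealOf ⟨x, hx⟩).asIdeal.primeCompl) (X.presheaf.stalk x) t)
  refine h1.mul_right_eq_zero.mp ?_
  rw [← this]
  ring

variable {I : Type u} [Category.{u} I] [IsCofiltered I] {D : I ⥤ Scheme.{u}} {c : Cone D}
  [∀ {i j} (f : i ⟶ j), IsAffineHom (D.map f)]

theorem exists_forall_isReduced (hc : IsLimit c) (i : I) [CompactSpace (D.obj i)]
    (hoi : ∀ (j : I) (φ : j ⟶ i), IsOpenImmersion (D.map φ))
    (hN : ∀ U : (D.obj i).affineOpens, (nilradical Γ(D.obj i, U)).FG) [IsReduced c.pt] :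
    ∃ (i' : I) (_ : i' ⟶ i), ∀ (j : I) (_ : j ⟶ i'), IsReduced (D.obj j) := by
  classical
  let 𝒰 := (D.obj i).affineCover.finiteSubcover
  haveI : ∀ k, IsAffine (𝒰.X k) := fun k => inferInstanceAs (IsAffine (Spec _))
  let U : 𝒰.I₀ → (D.obj i).affineOpens := fun k => ⟨(𝒰.f k).opensRange, isAffineOpen_opensRange _⟩
  choose G hG using fun k => hN (U k)
  have key : ∀ (p : Σ k, G k), ∃ (j : I) (φ : j ⟶ i), (D.map φ).app (U p.1) p.2.1 = 0 := by
    rintro ⟨k, g, hg⟩
    refine exists_app_map_eq_zero_of_isLimit D c hc (U k).2.isCompact g ?_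
    have hnil : IsNilpotent g := by
      have : g ∈ nilradical Γ(D.obj i, U k) := hG k ▸ Ideal.subset_span hg
      exact this
    haveI : IsReduced (((Functor.const I).obj c.pt).obj i) := ‹IsReduced c.pt›
    exact (hnil.map ((c.π.app i).app (U k)).hom).eq_zero
  choose j φ hj using key
  haveI : Finite (Σ k, G k) := inferInstance
  obtain ⟨l, ψ, χ, hχ⟩ := IsCofiltered.wideCospan φ
  refine ⟨l, ψ, fun m a => ?_⟩
  haveI := hoi m (a ≫ ψ)
  haveI : ∀ z, _root_.IsReduced ((D.obj m).presheaf.stalk z) := fun z => by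
    obtain ⟨k, w, hw⟩ := 𝒰.exists_eq (D.map (a ≫ ψ) z)
    have hz : D.map (a ≫ ψ) z ∈ (U k).1 := ⟨w, hw⟩
    haveI : _root_.IsReduced ((D.obj i).presheaf.stalk (D.map (a ≫ ψ) z)) := by
      refine isReduced_stalk_eq_zero (U k).2 _ hz fun n hn => ?_
      rw [← hG k] at hn
      refine Submodule.span_induction (fun g hg => ?_) (map_zero _) (fun x y _ _ hx hy => ?_)
        (fun r x _ hx => ?_) hn
      · have h2 := hj ⟨k, g, hg⟩
        apply (ConcreteCategory.bijective_of_isIso ((D.map (a ≫ ψ)).stalkMap z)).1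
        rw [map_zero, Scheme.Hom.germ_stalkMap_apply]
        have e : (D.map (a ≫ ψ)).app (U k).1 g = 0 := by
          have e' : D.map (a ≫ ψ) = D.map (a ≫ χ ⟨k, g, hg⟩) ≫ D.map (φ ⟨k, g, hg⟩) := by
            rw [← D.map_comp, Category.assoc, hχ]
          rw [Scheme.Hom.congr_app e', Scheme.Hom.comp_app]
          simp only [ConcreteCategory.comp_apply]
          rw [h2, map_zero, map_zero]
        rw [e, map_zero]
      · rw [map_add, hx, hy, add_zero]
      · rw [smul_eq_mul, map_mul, hx, mul_zero]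
    exact isReduced_of_injective (CategoryTheory.inv ((D.map (a ≫ ψ)).stalkMap z)).hom
      (ConcreteCategory.bijective_of_isIso (CategoryTheory.inv ((D.map (a ≫ ψ)).stalkMap z))).1
  exact isReduced_of_isReduced_stalk _

theorem exists_forall_irreducibleSpace (hc : IsLimit c) (i : I)
    [IsNoetherian (D.obj i)] (hoi : ∀ (j : I) (φ : j ⟶ i), IsOpenImmersion (D.map φ))
    [IrreducibleSpace c.pt] :
    ∃ (i' : I) (_ : i' ⟶ i), ∀ (j : I) (_ : j ⟶ i'), IrreducibleSpace (D.obj j) := by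
  classical
  obtain ⟨η, hη⟩ := QuasiSober.sober (IrreducibleSpace.isIrreducible_univ c.pt) isClosed_univ
  let e : D.obj i := c.π.app i η
  have hfin : {m : D.obj i | IsMaxPt m}.Finite := by
    refine Set.Finite.of_finite_image (f := fun m => closure {m})
      ((TopologicalSpace.NoetherianSpace.finite_irreducibleComponents (α := D.obj i)).subset ?_) ?_
    · rintro _ ⟨m, hm, rfl⟩
      refine ⟨isIrreducible_singleton.closure, fun T hT hsub => ?_⟩
      obtain ⟨g, hg⟩ := QuasiSober.sober hT.closure isClosed_closure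
      have hgm : g ⤳ m := hg.specializes (subset_closure (hsub (subset_closure rfl)))
      rw [hm g hgm] at hg
      exact subset_closure.trans hg.def.ge
    · intro m _ m' _ hmm
      exact (inseparable_iff_closure_eq.mpr hmm).eq
  have hex : ∀ m ∈ {m : D.obj i | IsMaxPt m} \ {e}, ∃ (j : I) (φ : j ⟶ i), m ∉ Set.range (D.map φ) := by
    rintro m ⟨hm, hne⟩
    by_contra hcon
    push_neg at hcon
    have hmem : m ∈ Set.range (c.π.app i : c.pt → D.obj i) := by
      rw [range_π_app hc i]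
      simp only [Set.mem_iInter]
      exact hcon
    obtain ⟨p, rfl⟩ := hmem
    exact hne (hm _ ((hη.specializes (Set.mem_univ p)).map (c.π.app i).continuous)).symm
  haveI := (hfin.subset Set.sdiff_subset : ({m : D.obj i | IsMaxPt m} \ {e}).Finite).to_subtype
  choose j φ hj using fun m : ↥({m : D.obj i | IsMaxPt m} \ {e}) => hex m.1 m.2
  obtain ⟨l, ψ, χ, hχ⟩ := IsCofiltered.wideCospan φ
  refine ⟨l, ψ, fun k a => ?_⟩
  haveI := hoi k (a ≫ ψ)
  have hgen : ∀ z : D.obj k, c.π.app k η ⤳ z := fun z => by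
    obtain ⟨m, hm, hmz⟩ := exists_isMaxPt_specializes (D.map (a ≫ ψ) z)
    have hmr : m ∈ Set.range (D.map (a ≫ ψ)) :=
      hmz.mem_open (D.map (a ≫ ψ)).isOpenEmbedding.isOpen_range ⟨z, rfl⟩
    have hme : m = e := by
      by_contra hne
      refine hj ⟨m, hm, hne⟩ ?_
      obtain ⟨y, rfl⟩ := hmr
      refine ⟨D.map (a ≫ χ ⟨_, hm, hne⟩) y, ?_⟩
      rw [← Scheme.Hom.comp_apply, ← D.map_comp, Category.assoc, hχ]
    rw [← (D.map (a ≫ ψ)).isOpenEmbedding.isInducing.specializes_iff, map_apply (a ≫ ψ) η]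
    exact ((congrArg (fun w => w ⤳ D.map (a ≫ ψ) z) hme) ▸ hmz : e ⤳ D.map (a ≫ ψ) z)
  haveI : Nonempty (D.obj k) := ⟨c.π.app k η⟩
  haveI : PreirreducibleSpace (D.obj k) := ⟨by
    intro U V hU hV ⟨x, _, hx⟩ ⟨y, _, hy⟩
    exact ⟨c.π.app k η, trivial, (hgen x).mem_open hU hx, (hgen y).mem_open hV hy⟩⟩
  exact ⟨inferInstance⟩

theorem irreducibleSpace_pt (hc : IsLimit c) (i : I)
    (hoi : ∀ (j k : I) (φ : j ⟶ k), IsOpenImmersion (D.map φ))
    (h : ∀ (j : I) (_ : j ⟶ i), IrreducibleSpace (D.obj j)) : IrreducibleSpace c.pt := by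
  have hc' := (Functor.Initial.isLimitWhiskerEquiv (Over.forget i) c).symm hc
  haveI : ∀ {j k : Over i} (f : j ⟶ k), IsAffineHom ((Over.forget i ⋙ D).map f) :=
    fun {j k} f => inferInstanceAs (IsAffineHom (D.map f.left))
  haveI : ∀ j : Over i, IrreducibleSpace (D.obj j.left) := fun j => h j.left j.hom
  obtain ⟨η, hη⟩ := exists_apply_eq (D := Over.forget i ⋙ D) hc' (fun j => genericPoint (D.obj j.left))
    (fun j k a => by
      haveI := hoi j.left k.left a.left
      exact genericPoint_eq_of_isOpenImmersion (D.map a.left))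
  have hgen : ∀ p : c.pt, η ⤳ p := fun p =>
    specializes_of_forall_stage (D := Over.forget i ⋙ D) hc' fun j => by
      rw [hη j]
      haveI : IrreducibleSpace ((Over.forget i ⋙ D).obj j) := h j.left j.hom
      exact genericPoint_specializes (α := ((Over.forget i ⋙ D).obj j)) _
  haveI : Nonempty c.pt := ⟨η⟩
  haveI : PreirreducibleSpace c.pt := ⟨by
    intro U V hU hV ⟨x, _, hx⟩ ⟨y, _, hy⟩
    exact ⟨η, trivial, (hgen x).mem_open hU hx, (hgen y).mem_open hV hy⟩⟩
  exact ⟨inferInstance⟩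

end Groth.L19.Limit
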