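import Groth.Agent.L02.ConsP.PairDescends
import Groth.Agent.L05.NbhdLimit.Basic
import Groth.Agent.L06.NormalAscent
import Groth.Agent.S0086

/-!
# Properness over a (completed) local ring of the base spreads to a neighbourhood
-/

set_option autoImplicit false
set_option linter.style.haveILetI false
set_option backward.isDefEq.respectTransparency false
set_option backward.isDefEq.respectTransparency.types false

universe u

open CategoryTheory CategoryTheory.Limits AlgebraicGeometry

noncomputable section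

namespace Groth.L19.Limit

variable {X Y S : Scheme.{u}} (f : X ⟶ Y) (g : Y ⟶ S) (s : S)

/-- A property which descends along limits spreads from the local ring of a point of the base. -/
theorem exists_nhd_pb {P : MorphismProperty Scheme.{u}} [P.IsStableUnderBaseChange] (hP : Descends P qcqsfp)
    [QuasiCompact g] (hf : qcqsfp f)
    (h : Pb P f (pullback.fst g (S.fromSpecStalk s))) :
    ∃ W : S.Opens, s ∈ W ∧ Pb P f (g ⁻¹ᵁ W).ι := by
  obtain ⟨U, hU, hsU, -⟩ := exists_isAffineOpen_mem_and_subset (X := S) (x := s) (U := ⊤) trivial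
  let p := (hU.primeIdealOf ⟨s, hsU⟩).asIdeal
  letI : Algebra Γ(S, U) (S.presheaf.stalk s) := (S.presheaf.germ U s hsU).hom.toAlgebra
  haveI : IsLocalization.AtPrime (S.presheaf.stalk s) p := hU.isLocalization_stalk ⟨s, hsU⟩
  let D := Groth.L05.NbhdLimit.D p
  let c := Groth.L05.NbhdLimit.cone p (S.presheaf.stalk s)
  let i : Groth.L05.NbhdLimit.Idx p :=
    ⟨1, fun h => Ideal.IsPrime.ne_top inferInstance ((Ideal.eq_top_iff_one p).mpr h)⟩
  let ρ : ∀ j, D.obj j ⟶ S := fun j => (Groth.L05.NbhdLimit.toBase p).app j ≫ hU.fromSpec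
  have hρ : ∀ {a b} (φ : a ⟶ b), D.map φ ≫ ρ b = ρ a := fun {a b} φ => by
    show D.map φ ≫ _ ≫ hU.fromSpec = _ ≫ hU.fromSpec
    rw [← Category.assoc, (Groth.L05.NbhdLimit.toBase p).naturality φ]
    rfl
  have hc : ∀ j, c.π.app j ≫ ρ j = S.fromSpecStalk s := fun j => by
    show c.π.app j ≫ _ ≫ hU.fromSpec = _
    rw [← hU.fromSpecStalk_eq_fromSpecStalk hsU]
    exact (Category.assoc _ _ _).symm.trans (congrArg (· ≫ hU.fromSpec) (Groth.L05.NbhdLimit.cone_π_toBase p (S.presheaf.stalk s) j))
  haveI : ∀ j, IsOpenImmersion (ρ j) := fun j =>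
    haveI := Groth.L05.NbhdLimit.toBase_isOpenImmersion p j
    inferInstance
  let g₀ := pullback.snd g (ρ i)
  let q₀ := pullback.fst g (ρ i)
  let f₀ := pullback.snd f q₀
  haveI : CompactSpace (D.obj i) := inferInstanceAs (CompactSpace (Spec _))
  haveI : QuasiCompact g₀ := MorphismProperty.pullback_snd _ _ inferInstance
  haveI : CompactSpace ↥(pullback g (ρ i)) := QuasiCompact.compactSpace_of_compactSpace g₀
  let qY : pullback g (S.fromSpecStalk s) ⟶ pullback g (ρ i) :=
    pullback.lift (pullback.fst _ _) (pullback.snd _ _ ≫ c.π.app i) (by rw [Category.assoc, hc, pullback.condition])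
  have hY : IsPullback qY (pullback.snd g (S.fromSpecStalk s)) g₀ (c.π.app i) := by
    refine IsPullback.of_right ?_ (pullback.lift_snd _ _ _) (IsPullback.of_hasPullback g (ρ i))
    rw [pullback.lift_fst, hc]
    exact IsPullback.of_hasPullback _ _
  obtain ⟨j, φ, hj⟩ := hP.exists_pb (Groth.L05.NbhdLimit.isLimitCone p (S.presheaf.stalk s)) (i := i) f₀ g₀
    (MorphismProperty.pullback_snd f q₀ hf) hY ((pb_snd_iff q₀ qY).mpr (by rw [pullback.lift_fst]; exact h))
  refine ⟨(ρ j).opensRange, ?_, ?_⟩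
  · refine ⟨c.π.app j (IsLocalRing.closedPoint (S.presheaf.stalk s)), ?_⟩
    rw [← Scheme.Hom.comp_apply, hc]
    exact Scheme.fromSpecStalk_closedPoint
  let W := g ⁻¹ᵁ (ρ j).opensRange
  have hr : Set.range (W.ι ≫ g) ⊆ Set.range (ρ j) := by
    rintro _ ⟨z, rfl⟩
    exact z.2
  let r := IsOpenImmersion.lift (ρ j) (W.ι ≫ g) hr
  have hrj : r ≫ ρ j = W.ι ≫ g := IsOpenImmersion.lift_fac _ _ _
  let n₀ : (W : Scheme.{u}) ⟶ pullback g (ρ i) :=
    pullback.lift W.ι (r ≫ D.map φ) (by rw [Category.assoc, hρ, hrj])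
  let m : (W : Scheme.{u}) ⟶ pullback (D.map φ) g₀ :=
    pullback.lift r n₀ (pullback.lift_snd _ _ _).symm
  have := (pb_snd_iff q₀ _).mp (pb_comp m hj)
  rwa [pullback.lift_snd, pullback.lift_fst] at this

/-- Properness over the completed local ring at a point of the base spreads to a neighbourhood. -/
theorem exists_nhd_isProper_of_completion [IsNoetherianRing (S.presheaf.stalk s)]
    [QuasiCompact g] (hf : qcqsfp f)
    (hR : IsProper (pullback.snd f (pullback.fst g
      (Spec.map (CommRingCat.ofHom (algebraMap (S.presheaf.stalk s) (EGA4.Cpl (S.presheaf.stalk s)))) ≫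
        S.fromSpecStalk s)))) :
    ∃ W : S.Opens, s ∈ W ∧ IsProper (f ∣_ (g ⁻¹ᵁ W)) := by
  let R := EGA4.Cpl (S.presheaf.stalk s)
  let u := Spec.map (CommRingCat.ofHom (algebraMap (S.presheaf.stalk s) R))
  let σ := S.fromSpecStalk s
  haveI := Groth.L06.NormalAscent.faithfullyFlat_cpl (S.presheaf.stalk s)
  have hu : (@Surjective ⊓ @Flat ⊓ @QuasiCompact : MorphismProperty Scheme.{u}) u :=
    ⟨⟨⟨PrimeSpectrum.comap_surjective_of_faithfullyFlat⟩,
      HasRingHomProperty.Spec_iff.mpr (RingHom.flat_algebraMap_iff.mpr inferInstance)⟩, inferInstance⟩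
  let m : pullback g (u ≫ σ) ⟶ pullback g σ :=
    pullback.lift (pullback.fst _ _) (pullback.snd _ _ ≫ u) (by rw [Category.assoc, pullback.condition])
  have hm : IsPullback m (pullback.snd g (u ≫ σ)) (pullback.snd g σ) u := by
    refine IsPullback.of_right ?_ (pullback.lift_snd _ _ _) (IsPullback.of_hasPullback g σ)
    rw [pullback.lift_fst]
    exact IsPullback.of_hasPullback _ _
  have hm' : (@Surjective ⊓ @Flat ⊓ @QuasiCompact : MorphismProperty Scheme.{u}) m :=
    ⟨⟨MorphismProperty.of_isPullback hm.flip hu.1.1, MorphismProperty.of_isPullback hm.flip hu.1.2⟩,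
      MorphismProperty.of_isPullback hm.flip hu.2⟩
  haveI := Groth.Agent.S0086.result.{u}
  have h1 : Pb @IsProper f (m ≫ pullback.fst g σ) := by
    rw [show m ≫ pullback.fst g σ = pullback.fst g (u ≫ σ) from pullback.lift_fst _ _ _]
    exact (pb_iff_of_isPullback (IsPullback.of_hasPullback f (pullback.fst g (u ≫ σ)))).mp hR
  have h2 : Pb @IsProper f (pullback.fst g σ) :=
    (pb_iff_of_isPullback (IsPullback.of_hasPullback f (pullback.fst g σ))).mp
      (MorphismProperty.of_pullback_fst_of_descendsAlong (P := @IsProper) hm' ((pb_snd_iff _ _).mpr h1))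
  obtain ⟨W, hsW, hW⟩ := exists_nhd_pb f g s L02.ConsP.descends_isProper hf h2
  exact ⟨W, hsW, (pb_iff_of_isPullback (isPullback_morphismRestrict f _).flip).mpr hW⟩

end Groth.L19.Limit
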