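import Groth.Agent.L19.Limit.AmpleExists
import Groth.Agent.L18.AmpleLocal
import Groth.Agent.S1497
import Mathlib.AlgebraicGeometry.Morphisms.FlatDescent
import Mathlib.AlgebraicGeometry.Morphisms.LocalFlatDescent
import Mathlib.AlgebraicGeometry.Noetherian

/-!
# Quasi-projectivity descends along field extensions
-/

set_option autoImplicit false
set_option linter.style.haveILetI false
set_option backward.isDefEq.respectTransparency false
set_option backward.isDefEq.respectTransparency.types false

universe u

open CategoryTheory CategoryTheory.Limits AlgebraicGeometry TopologicalSpace Opposite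

noncomputable section

namespace Groth.L19.Limit

open Groth.L18.Ample

variable {k : Type u} [Field k] {X : Scheme.{u}} (p : X ⟶ Spec (CommRingCat.of k)) (K : Type u) [Field K]
  [Algebra k K]

theorem fpqc_specMap :
    (@Surjective ⊓ @Flat ⊓ @QuasiCompact : MorphismProperty Scheme.{u})
      (Spec.map (CommRingCat.ofHom (algebraMap k K))) :=
  ⟨⟨⟨fun _ => ⟨default, Subsingleton.elim _ _⟩⟩,
    HasRingHomProperty.Spec_iff.mpr (RingHom.flat_algebraMap_iff.mpr inferInstance)⟩, inferInstance⟩

/-- If the base change to a field extension is quasi-projective, so is the scheme. -/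
theorem exists_ample_of_baseChange
    (h : ∃ (n : ℕ) (i : pullback p (Spec.map (CommRingCat.ofHom (algebraMap k K))) ⟶
      CohB1.ProjSpaceOver n (Spec (CommRingCat.of K))), IsImmersion i ∧
        i ≫ CohB1.ProjSpaceOver.toBase n (Spec (CommRingCat.of K)) =
          pullback.snd p (Spec.map (CommRingCat.ofHom (algebraMap k K)))) :
    LocallyOfFiniteType p ∧ QuasiCompact p ∧
      IsSeparated (pullback.snd p (Spec.map (CommRingCat.ofHom (algebraMap k K)))) ∧
      ∃ L : X.Modules, CohB1.IsAmple L := by
  obtain ⟨n, i, hi, hcomp⟩ := h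
  let u := Spec.map (CommRingCat.ofHom (algebraMap k K))
  let XK := pullback p u
  haveI := hi
  haveI : LocallyOfFiniteType (CohB1.ProjSpace.toSpec n (ULift.{u} ℤ)) := inferInstance
  haveI : LocallyOfFiniteType (CohB1.ProjSpaceOver.toBase n (Spec (CommRingCat.of K))) :=
    MorphismProperty.pullback_snd _ _ inferInstance
  haveI : QuasiCompact (CohB1.ProjSpaceOver.toBase n (Spec (CommRingCat.of K))) :=
    MorphismProperty.pullback_snd _ _ inferInstance
  haveI : IsLocallyNoetherian (CohB1.ProjSpaceOver n (Spec (CommRingCat.of K))) :=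
    LocallyOfFiniteType.isLocallyNoetherian (CohB1.ProjSpaceOver.toBase n (Spec (CommRingCat.of K)))
  haveI : CompactSpace ↥(CohB1.ProjSpaceOver n (Spec (CommRingCat.of K))) :=
    QuasiCompact.compactSpace_of_compactSpace (CohB1.ProjSpaceOver.toBase n (Spec (CommRingCat.of K)))
  haveI : IsNoetherian (CohB1.ProjSpaceOver n (Spec (CommRingCat.of K))) := {}
  haveI : QuasiCompact i := ⟨fun V _ _ => i.isEmbedding.isCompact_iff.mpr (NoetherianSpace.isCompact _)⟩
  obtain ⟨hlft, hqc, L', hL'⟩ := (Groth.Agent.S1497.result
    ⟨_, isAmple_structureModule (X := Spec (CommRingCat.of K))⟩ (pullback.snd p u)).mp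
    ⟨n, i, inferInstance, inferInstance, hcomp⟩
  have hu := fpqc_specMap (k := k) K
  have hlftp : LocallyOfFiniteType p :=
    MorphismProperty.of_pullback_snd_of_descendsAlong (P := @LocallyOfFiniteType) hu hlft
  haveI := hlftp
  haveI : Surjective (pullback.fst p u) := MorphismProperty.pullback_fst _ _ hu.1.1
  haveI : CompactSpace XK := hL'.2.1
  haveI : CompactSpace X :=
    ⟨by rw [← (pullback.fst p u).surjective.range_eq]; exact isCompact_range (pullback.fst p u).continuous⟩
  have hqcp : QuasiCompact p := quasiCompact_of_compactSpace p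
  haveI := hqcp
  haveI : IsLocallyNoetherian X := LocallyOfFiniteType.isLocallyNoetherian p
  haveI : QuasiSeparated p := QuasiSeparated.of_comp p (Limits.terminal.from _)
  haveI : XK.IsSeparated := isSeparated_of_isAmple hL'
  refine ⟨hlftp, hqcp, ?_, ?_⟩
  · haveI : IsSeparated (pullback.snd p u ≫ terminal.from (Spec (CommRingCat.of K))) := by
      rw [show pullback.snd p u ≫ terminal.from _ = terminal.from _ from terminalIsTerminal.hom_ext _ _]
      infer_instance
    exact IsSeparated.of_comp _ (terminal.from (Spec (CommRingCat.of K)))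
  let one : Spec (CommRingCat.of k) ⟶ Spec (CommRingCat.of k) := 𝟙 _
  have sq : IsPullback (pullback.fst (p ≫ one) (u ≫ one)) (pullback.snd (p ≫ one) (u ≫ one)) p u := by
    have := IsPullback.of_hasPullback (p ≫ one) (u ≫ one)
    exact this.of_iso (Iso.refl _) (Iso.refl _) (Iso.refl _) (Iso.refl _) (by simp) (by simp) (by simp [one]) (by simp [one])
  haveI : IsAffine (pullback one (u ≫ one)) := IsAffine.of_isIso (pullback.snd one (u ≫ one))
  haveI : QuasiCompact (bcHom p one (u ≫ one)) :=
    MorphismProperty.of_isPullback (bcHom_isPullback p one (u ≫ one)) inferInstance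
  have hA : HasAmple p one (u ≫ one) := by
    have h2 := isAmple_pullback_of_isAffineHom sq.isoPullback.hom hL'
    exact ⟨_, h2.1, isRelAmple_of_isAmple h2⟩
  obtain ⟨L, -, hL⟩ := HasAmple.of_fieldExtension one K hA
  haveI : IsAffine (pullback one one) := IsAffine.of_isIso (pullback.snd one one)
  haveI : IsIso (pullback.fst (p ≫ one) one) := inferInstance
  exact ⟨_, isAmple_pullback_of_isAffineHom (inv (pullback.fst (p ≫ one) one)) (isAmple_of_isRelAmple hL)⟩

theorem universallyClosed_of_baseChange
    [UniversallyClosed (pullback.snd p (Spec.map (CommRingCat.ofHom (algebraMap k K))))] : UniversallyClosed p :=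
  MorphismProperty.of_pullback_snd_of_descendsAlong (P := @UniversallyClosed) (fpqc_specMap K) inferInstance

end Groth.L19.Limit
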