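import Groth.Agent.L19.Limit.Flat
import Groth.Agent.L19.Limit.BaseChange
import Groth.Agent.L19.FlatComp
import Mathlib.AlgebraicGeometry.Properties

/-!
# Reducedness and cofiltered limits
-/

universe u

open CategoryTheory CategoryTheory.Limits AlgebraicGeometry

namespace Groth.L19.Limit

set_option backward.isDefEq.respectTransparency false
set_option backward.isDefEq.respectTransparency.types false

variable {I : Type u} [Category.{u} I] [IsCofiltered I] {D : I ⥤ Scheme.{u}} {c : Cone D}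
  [∀ {i j} (f : i ⟶ j), IsAffineHom (D.map f)]

theorem exists_forall_not_isReduced (hc : IsLimit c) (h : ¬ IsReduced c.pt) :
    ∃ i : I, ∀ (j : I) (_ : j ⟶ i), ¬ IsReduced (D.obj j) := by
  obtain ⟨p, hp⟩ : ∃ p : c.pt, ¬ _root_.IsReduced (c.pt.presheaf.stalk p) := by
    by_contra hcon
    push_neg at hcon
    exact h (isReduced_of_isReduced_stalk c.pt)
  obtain ⟨a, ⟨n, hn⟩, ha⟩ : ∃ a : c.pt.presheaf.stalk p, IsNilpotent a ∧ a ≠ 0 := by
    by_contra hcon
    exact hp ⟨fun a ha => by_contra fun h0 => hcon ⟨a, ha, h0⟩⟩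
  obtain ⟨j, b, rfl⟩ := exists_stalkMap_eq hc p a
  obtain ⟨k, φ, hk⟩ := exists_stalkMap_map_eq hc p (b ^ n) 0 (by
    rw [map_pow, map_zero]; exact hn)
  change stageMap φ p (b ^ n) = stageMap φ p 0 at hk
  rw [map_pow, map_zero] at hk
  refine ⟨k, fun l ψ hl => ha ?_⟩
  haveI := hl
  have h0 : stageMap ψ p (stageMap φ p b) = 0 := by
    refine IsNilpotent.eq_zero ⟨n, ?_⟩
    rw [← map_pow, hk, map_zero]
  have e1 : (c.π.app l).stalkMap p (stageMap ψ p (stageMap φ p b)) =
      (c.π.app k).stalkMap p (stageMap φ p b) := by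
    rw [← ConcreteCategory.comp_apply, stageMap_comp_stalkMap]
    rfl
  have e2 : (c.π.app k).stalkMap p (stageMap φ p b) = (c.π.app j).stalkMap p b := by
    rw [← ConcreteCategory.comp_apply, stageMap_comp_stalkMap]
    rfl
  rw [← e2, ← e1, h0, map_zero]

theorem isReduced_pt (hc : IsLimit c) (h : ∀ i, IsReduced (D.obj i)) : IsReduced c.pt := by
  by_contra hc'
  obtain ⟨i, hi⟩ := exists_forall_not_isReduced hc hc'
  exact hi i (𝟙 i) (h i)

theorem isReduced_stage (hc : IsLimit c) (i : I)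
    (hf : ∀ (j : I) (φ : j ⟶ i), Flat (D.map φ) ∧ Surjective (D.map φ)) [IsReduced c.pt] :
    IsReduced (D.obj i) := by
  haveI : Flat (X := c.pt) (c.π.app i) := flat_π_app hc i fun j φ => (hf j φ).1
  haveI : ∀ x, _root_.IsReduced ((D.obj i).presheaf.stalk x) := fun x => by
    obtain ⟨p, rfl⟩ : x ∈ Set.range (c.π.app i) := by
      rw [range_π_app hc i]
      simp only [Set.mem_iInter]
      exact fun j φ => (hf j φ).2.surj x
    exact isReduced_of_injective ((c.π.app i).stalkMap p).hom
      (Groth.L19.stalkMap_injective_of_flat (X := c.pt) (c.π.app i) p)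
  exact isReduced_of_isReduced_stalk _

end Groth.L19.Limit
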