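import Groth.Agent.L19.Limit.AmpleCons

/-!
# The points over which an invertible module is ample relative to a morphism on the fibres
-/

set_option autoImplicit false
set_option linter.style.haveILetI false
set_option linter.unusedSectionVars false
set_option backward.isDefEq.respectTransparency false
set_option backward.isDefEq.respectTransparency.types false

universe u

open CategoryTheory CategoryTheory.Limits AlgebraicGeometry TopologicalSpace Opposite

noncomputable section

namespace Groth.L19.Limit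

open Groth.L18.Ample

variable {X Y S : Scheme.{u}} (f : X ⟶ Y) (g : Y ⟶ S)

/-- The morphism induced on fibres. -/
abbrev fibreHom (s : S) : pullback (f ≫ g) (S.fromSpecResidueField s) ⟶ pullback g (S.fromSpecResidueField s) :=
  pullback.lift (pullback.fst (f ≫ g) (S.fromSpecResidueField s) ≫ f)
    (pullback.snd (f ≫ g) (S.fromSpecResidueField s)) ((Category.assoc _ _ _).trans pullback.condition)

theorem isPullback_fibreHom (s : S) :
    IsPullback (pullback.fst (f ≫ g) (S.fromSpecResidueField s)) (fibreHom f g s) f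
      (pullback.fst g (S.fromSpecResidueField s)) := by
  refine IsPullback.of_bot ?_ (pullback.lift_fst _ _ _).symm (IsPullback.of_hasPullback g (S.fromSpecResidueField s))
  rw [pullback.lift_snd]
  exact IsPullback.of_hasPullback (f ≫ g) (S.fromSpecResidueField s)

/-- The preimage in a fibre of an affine open over an affine open of the base is affine. -/
theorem isAffineOpen_fibre_preimage {U : S.Opens} (hU : IsAffineOpen U) {W : Y.Opens} (hW : IsAffineOpen W)
    (hWU : W ≤ g ⁻¹ᵁ U) (s : S) (hs : s ∈ U) :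
    IsAffineOpen (pullback.fst g (S.fromSpecResidueField s) ⁻¹ᵁ W) := by
  let x := S.fromSpecResidueField s
  have hr : Set.range x ⊆ Set.range U.ι := by
    rw [Scheme.range_fromSpecResidueField, Scheme.Opens.range_ι]
    exact Set.singleton_subset_iff.mpr hs
  let x' := IsOpenImmersion.lift U.ι x hr
  let v' := g.resLE U W hWU
  have h2 : IsPullback (pullback.fst v' x') (pullback.snd v' x') (W.ι ≫ g) x :=
    IsPullback.of_iso (IsPullback.of_isLimit (pullbackIsPullbackOfCompMono v' x' U.ι))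
      (Iso.refl _) (Iso.refl _) (Iso.refl _) (Iso.refl _) (by simp) (by simp) (by simp [v'])
      (by simp [x', x])
  have h1 := (isPullback_morphismRestrict (pullback.fst g x) W).paste_vert (IsPullback.of_hasPullback g x)
  haveI : IsAffine (W : Scheme.{u}) := hW
  haveI : IsAffine (U : Scheme.{u}) := hU
  exact IsAffine.of_isIso (h1.isoIsPullback _ _ h2).hom

/-- The affine open of the base containing the image of `A`, as a target. -/
abbrev toAffine {U : S.Opens} (hU : IsAffineOpen U) {A : X.Opens} (h : A ≤ (f ≫ g) ⁻¹ᵁ U) :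
    (A : Scheme.{u}) ⟶ Spec Γ(S, U) :=
  (f ≫ g).resLE U A h ≫ hU.isoSpec.hom

theorem toAffine_fromSpec {U : S.Opens} (hU : IsAffineOpen U) {A : X.Opens} (h : A ≤ (f ≫ g) ⁻¹ᵁ U) :
    toAffine f g hU h ≫ hU.fromSpec = A.ι ≫ f ≫ g := by
  rw [Category.assoc, hU.isoSpec_hom_fromSpec, Scheme.Hom.resLE_comp_ι]

theorem mem_iff_forall_ample (L : X.Modules) [QuasiCompact f] {U : S.Opens} (hU : IsAffineOpen U)
    {n : ℕ} (W : Fin n → Y.Opens) (hW : ∀ a, IsAffineOpen (W a)) (hWU : ∀ a, W a ≤ g ⁻¹ᵁ U)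
    (hcov : ∀ y ∈ g ⁻¹ᵁ U, ∃ a, y ∈ W a) (p : ↥(Spec Γ(S, U))) :
    RelAmple.IsRelAmple (fibreHom f g (hU.fromSpec p))
        ((Scheme.Modules.pullback (pullback.fst (f ≫ g) (S.fromSpecResidueField (hU.fromSpec p)))).obj L) ↔
      ∀ a, p ∈ ampleLocus (toAffine f g hU (A := f ⁻¹ᵁ W a) fun y hy => hWU a hy)
        ((Scheme.Modules.pullback (f ⁻¹ᵁ W a).ι).obj L) := by
  let s := hU.fromSpec p
  have hs : s ∈ U := by
    have := hU.range_fromSpec
    exact this.subset ⟨p, rfl⟩
  let x := S.fromSpecResidueField s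
  let m : Spec ((Spec Γ(S, U)).residueField p) ⟶ Spec (S.residueField s) := Spec.map (hU.fromSpec.residueFieldMap p)
  haveI : IsIso m := inferInstance
  have key : ∀ a, CohB1.IsAmple (((Scheme.Modules.pullback (pullback.fst (f ≫ g) x)).obj L).restrict
      (fibreHom f g s ⁻¹ᵁ (pullback.fst g x ⁻¹ᵁ W a)).ι) ↔
      p ∈ ampleLocus (toAffine f g hU (A := f ⁻¹ᵁ W a) fun y hy => hWU a hy)
        ((Scheme.Modules.pullback (f ⁻¹ᵁ W a).ι).obj L) := by
    intro a
    let v := toAffine f g hU (A := f ⁻¹ᵁ W a) fun y hy => hWU a hy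
    let xp := (Spec Γ(S, U)).fromSpecResidueField p
    have e : fibreHom f g s ⁻¹ᵁ (pullback.fst g x ⁻¹ᵁ W a) = pullback.fst (f ≫ g) x ⁻¹ᵁ (f ⁻¹ᵁ W a) := by
      rw [← Scheme.Hom.comp_preimage, ← Scheme.Hom.comp_preimage, (isPullback_fibreHom f g s).w]
    have sq : IsPullback (pullback.fst v xp) (pullback.snd v xp ≫ m) ((f ⁻¹ᵁ W a).ι ≫ f ≫ g) x :=
      IsPullback.of_iso (IsPullback.of_isLimit (pullbackIsPullbackOfCompMono v xp hU.fromSpec))
        (Iso.refl _) (Iso.refl _) (asIso m) (Iso.refl _) (by simp) (by simp [m])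
        (by simp [v, toAffine_fromSpec f g hU (A := f ⁻¹ᵁ W a) fun _y hy => hWU a hy])
        (by simpa [m, x, xp, s] using (Scheme.Hom.SpecMap_residueFieldMap_fromSpecResidueField hU.fromSpec p).symm)
    rw [isAmple_restrict_congr e, isAmple_restrict_preimage_iff (IsPullback.of_hasPullback (f ≫ g) x)]
    show _ ↔ CohB1.IsAmple _
    rw [isAmple_pullback_comp_iff _ _ rfl]
    refine (isAmple_pullback_congr sq.flip.isoPullback _ _ ?_).symm
    exact sq.flip.isoPullback_hom_snd_assoc (f ⁻¹ᵁ W a).ι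
  refine ⟨fun h a => (key a).mp (h.2 ⟨_, isAffineOpen_fibre_preimage g hU (hW a) (hWU a) s hs⟩), fun h => ?_⟩
  haveI : QuasiCompact (fibreHom f g s) := MorphismProperty.of_isPullback (isPullback_fibreHom f g s) inferInstance
  refine isRelAmple_of_local _ fun y => ?_
  obtain ⟨a, ha⟩ := hcov (pullback.fst g x y) (by
    show g (pullback.fst g x y) ∈ U
    rw [← Scheme.Hom.comp_apply, pullback.condition, Scheme.Hom.comp_apply,
      (Scheme.range_fromSpecResidueField s).subset ⟨_, rfl⟩]
    exact hs)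
  exact ⟨_, isAffineOpen_fibre_preimage g hU (hW a) (hWU a) s hs, ha, (key a).mpr (h a)⟩

theorem isIndConstructible_relAmpleLocus [QuasiCompact g] [QuasiCompact f] [QuasiSeparated f]
    (L : X.Modules) (hL : PicF.IsInvertible L) :
    ProCons.IsIndConstructible {s : S | RelAmple.IsRelAmple (fibreHom f g s)
      ((Scheme.Modules.pullback (pullback.fst (f ≫ g) (S.fromSpecResidueField s))).obj L)} := by
  classical
  refine L02.ConsP.isIndConstructible_of_affine fun U hU p hp => ?_
  haveI : CompactSpace (g ⁻¹ᵁ U : Scheme.{u}) :=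
    isCompact_iff_compactSpace.mp (g.isCompact_preimage hU.isCompact)
  obtain ⟨n, W, hW, hcov⟩ := Groth.L19.LimMod.exists_affine_cover (g ⁻¹ᵁ U : Scheme.{u})
  let W' : Fin n → Y.Opens := fun a => (g ⁻¹ᵁ U).ι ''ᵁ W a
  have hW' : ∀ a, IsAffineOpen (W' a) := fun a => (hW a).image_of_isOpenImmersion _
  have hWU : ∀ a, W' a ≤ g ⁻¹ᵁ U := by
    rintro a _ ⟨y, -, rfl⟩
    exact y.2
  have hcov' : ∀ y ∈ g ⁻¹ᵁ U, ∃ a, y ∈ W' a := fun y hy => by
    obtain ⟨a, ha⟩ := hcov ⟨y, hy⟩
    exact ⟨a, ⟨y, hy⟩, ha, rfl⟩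
  have hx := (mem_iff_forall_ample f g L hU W' hW' hWU hcov' p).mp hp
  have hC : ∀ a, ∃ C : Set ↥(Spec Γ(S, U)), Topology.IsConstructible C ∧ p ∈ C ∧
      C ⊆ ampleLocus (toAffine f g hU (A := f ⁻¹ᵁ W' a) fun y hy => hWU a hy)
        ((Scheme.Modules.pullback (f ⁻¹ᵁ W' a).ι).obj L) := fun a => by
    haveI : IsAffine (W' a : Scheme.{u}) := hW' a
    haveI : CompactSpace (f ⁻¹ᵁ W' a : Scheme.{u}) :=
      isCompact_iff_compactSpace.mp (f.isCompact_preimage (hW' a).isCompact)
    haveI : QuasiSeparatedSpace (f ⁻¹ᵁ W' a : Scheme.{u}) :=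
      quasiSeparatedSpace_of_quasiSeparated (f ∣_ W' a)
    haveI : QuasiCompact (toAffine f g hU (A := f ⁻¹ᵁ W' a) fun y hy => hWU a hy) :=
      quasiCompact_of_compactSpace _
    haveI : QuasiSeparated (toAffine f g hU (A := f ⁻¹ᵁ W' a) fun y hy => hWU a hy) :=
      QuasiSeparated.of_comp _ (Limits.terminal.from _)
    exact exists_constructible_ample _ _ (isInvertible_pullback _ hL) p (hx a)
  choose C hC hpC hCE using hC
  refine ⟨⋂ a, C a, ?_, Set.mem_iInter.mpr hpC,
    fun r hr => (mem_iff_forall_ample f g L hU W' hW' hWU hcov' r).mpr fun a => hCE a (Set.mem_iInter.mp hr a)⟩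
  have : ∀ t : Finset (Fin n), Topology.IsConstructible (⋂ a ∈ t, C a) := fun t => by
    induction t using Finset.induction_on with
    | empty => simp [Topology.IsConstructible.univ]
    | insert a t ha ih => rw [Finset.set_biInter_insert]; exact (hC a).inter ih
  simpa using this Finset.univ

end Groth.L19.Limit
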