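import Groth.Agent.L19.Limit.Core
import Groth.Agent.L19.Limit.Cons
import Groth.Agent.L22.Cyc.BaseChange
import Groth.Agent.L23.FibreDimBC
import Groth.Agent.S4798
import Mathlib.Topology.KrullDimension

/-!
# Descending the relative dimension along cofiltered limits
-/

universe u

open CategoryTheory CategoryTheory.Limits AlgebraicGeometry Topology

namespace Groth.L19.Limit

set_option backward.isDefEq.respectTransparency.types false
set_option linter.style.haveILetI false

open Groth.L22 Groth.L22.Cyc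

variable {X Y : Scheme.{u}}

/-- All generic points of the fibre of `f` at `y` have transcendence degree `d`. -/
def PureFibre (f : X ⟶ Y) (d : ℕ) (y : Y) : Prop :=
  ∀ x, f x = y → FibGen f x → rtrdeg f x = d

theorem hasRelDim_iff_pureFibre (f : X ⟶ Y) [LocallyOfFiniteType f] (d : ℕ) :
    Cyc.HasRelDim f d ↔ ∀ y, PureFibre f d y :=
  ⟨fun h _ _ _ hx => rtrdeg_eq_of_hasRelDim f h hx,
    fun h => hasRelDim_of_rtrdeg f fun x hx => h (f x) x rfl hx⟩

theorem pureFibre_iff_components (f : X ⟶ Y) [LocallyOfFiniteType f] (d : ℕ) (y : Y) :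
    PureFibre f d y ↔ ∀ T ∈ irreducibleComponents ↥(f.fiber y), topologicalKrullDim T = d := by
  letI : (f.fiber y).Over (Spec (CommRingCat.of (Y.residueField y))) :=
    ⟨f.fiberToSpecResidueField y⟩
  haveI : LocallyOfFiniteType ((f.fiber y) ↘ Spec (CommRingCat.of (Y.residueField y))) :=
    MorphismProperty.pullback_snd f (Y.fromSpecResidueField y) inferInstance
  refine ⟨fun h T hT => ?_, fun hr x hxy h => ?_⟩
  · obtain ⟨η, hη⟩ := QuasiSober.sober hT.1 (isClosed_of_mem_irreducibleComponents T hT)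
    obtain ⟨n, hn, htr⟩ :=
      SchemeDim.exists_dim_closure_eq_trdeg (Y.residueField y) (f.fiber y) η
    have hmax : ∀ w, w ⤳ η → w = η := fun w hw => by
      have h1 : closure ({η} : Set (f.fiber y)) ⊆ closure {w} :=
        closure_minimal (Set.singleton_subset_iff.2 hw.mem_closure) isClosed_closure
      have hle : closure ({w} : Set (f.fiber y)) ⊆ T :=
        hT.2 isIrreducible_singleton.closure (hη.symm.le.trans h1)
      exact (hw.antisymm (hη.specializes (hle (subset_closure rfl)))).eq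
    have := h _ ((f.range_fiberι y).subset ⟨η, rfl⟩) (fibGen_of_maximal hmax)
    rw [rtrdeg_fiberι, htr] at this
    have hnr : n = d := by exact_mod_cast this
    rw [← hη, hn, hnr]
  · obtain ⟨z, rfl⟩ := (f.range_fiberι y).ge hxy
    obtain ⟨n, hn, htr⟩ :=
      SchemeDim.exists_dim_closure_eq_trdeg (Y.residueField y) (f.fiber y) z
    rw [rtrdeg_fiberι, htr]
    obtain ⟨T, hT, hzT⟩ : ∃ T ∈ irreducibleComponents (f.fiber y), z ∈ T :=
      ⟨irreducibleComponent z, irreducibleComponent_mem_irreducibleComponents z,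
        mem_irreducibleComponent⟩
    obtain ⟨η, hη⟩ := QuasiSober.sober hT.1 (isClosed_of_mem_irreducibleComponents T hT)
    have hez : η = z := maximal_of_fibGen h η (hη.specializes hzT)
    have hcl : closure ({z} : Set (f.fiber y)) = T := by rw [← hez]; exact hη
    have := hr T hT
    rw [← hcl, hn] at this
    have : n = d := by exact_mod_cast this
    rw [this]

/-- Purity of a fibre does not depend on an extension of the residue field. -/
theorem pureFibre_baseChange_iff {X' Y' : Scheme.{u}} {f : X ⟶ Y} [LocallyOfFiniteType f]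
    {f' : X' ⟶ Y'} {q : X' ⟶ X} {p : Y' ⟶ Y} (sq : IsPullback q f' f p) (d : ℕ) (y' : Y') :
    PureFibre f' d y' ↔ PureFibre f d (p y') := by
  haveI : LocallyOfFiniteType f' := MorphismProperty.of_isPullback sq ‹LocallyOfFiniteType f›
  refine ⟨fun h x hx hg => ?_, fun h t ht hg => ?_⟩
  · obtain ⟨v, hv1, hv2⟩ := Scheme.exists_preimage_of_isPullback sq x y' hx
    obtain ⟨v', hv', hmax⟩ : ∃ v', (f' v' = f' v ∧ v' ⤳ v) ∧ FibGen f' v' := by
      obtain ⟨z, hz, hz'⟩ := Groth.L23.exists_maximal_generization (f'.asFiber v)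
      refine ⟨f'.fiberι _ z, ⟨(f'.range_fiberι _).subset ⟨z, rfl⟩, ?_⟩, fibGen_of_maximal hz'⟩
      have := hz.map (f'.fiberι (f' v)).continuous
      rwa [f'.fiberι_asFiber] at this
    have e : q v' = x := by
      refine hg _ ?_ (hv1 ▸ hv'.2.map q.continuous)
      rw [← Scheme.Hom.comp_apply, sq.w, Scheme.Hom.comp_apply, hv'.1, hv2, hx]
    rw [← e, ← rtrdeg_baseChange sq hmax]
    exact h v' (hv'.1.trans hv2) hmax
  · rw [rtrdeg_baseChange sq hg]
    refine h _ ?_ (hg.of_baseChange sq)
    rw [← Scheme.Hom.comp_apply, sq.w, Scheme.Hom.comp_apply, ht]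

theorem components_dim_homeomorph {A B : Type*} [TopologicalSpace A] [TopologicalSpace B]
    (e : A ≃ₜ B) {d : WithBot ℕ∞}
    (h : ∀ T ∈ irreducibleComponents A, topologicalKrullDim T = d) :
    ∀ T ∈ irreducibleComponents B, topologicalKrullDim T = d := fun T hT => by
  have hne : (T ∩ Set.range e).Nonempty := by rw [e.surjective.range_eq, Set.inter_univ]; exact hT.1.1
  have := h _ (preimage_mem_irreducibleComponents hT e.isOpenEmbedding hne)
  rw [← this]
  exact (e.sets rfl).symm.isHomeomorph.topologicalKrullDim_eq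

theorem isLocallyConstructible_setOf_pureFibre (f : X ⟶ Y) [LocallyOfFinitePresentation f]
    [QuasiCompact f] [QuasiSeparated f] (d : ℕ) :
    IsLocallyConstructible {y | PureFibre f d y} := by
  let D : Y → Set (WithBot ℕ∞) := fun s =>
    (fun T : Set ↥(Set.univ ∩ ⇑f ⁻¹' {s}) => topologicalKrullDim ↥T) ''
      irreducibleComponents ↥(Set.univ ∩ ⇑f ⁻¹' {s})
  have e : {y | PureFibre f d y} = {y | D y = {(d : WithBot ℕ∞)}} ∪ {y | D y = ∅} := by
    ext y
    let h : ↥(f.fiber y) ≃ₜ ↥(Set.univ ∩ ⇑f ⁻¹' {y}) :=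
      (f.fiberHomeo y).trans (Homeomorph.setCongr (Set.univ_inter _).symm)
    simp only [Set.mem_ofPred_eq, Set.mem_union, pureFibre_iff_components, D,
      ← Set.subset_singleton_iff_eq, or_comm (a := _ = ({(d : WithBot ℕ∞)} : Set _)),
      Set.image_subset_iff]
    exact ⟨fun H T hT => components_dim_homeomorph h H T hT,
      fun H => components_dim_homeomorph h.symm fun T hT => H hT⟩
  rw [e]
  have hu : IsLocallyConstructible (Set.univ : Set X) :=
    IsConstructible.univ.isLocallyConstructible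
  exact (Groth.Agent.S4798.result f _ hu (fun s => isOpen_univ.isLocallyClosed) _).union
    (Groth.Agent.S4798.result f _ hu (fun s => isOpen_univ.isLocallyClosed) _)

theorem exists_stage_hasRelDim {I : Type u} [Category.{u} I] [IsCofiltered I]
    {D : I ⥤ Scheme.{u}} {c : Cone D} [∀ {i j} (f : i ⟶ j), IsAffineHom (D.map f)]
    (hc : IsLimit c) {i : I} {X₀ Y₀ : Scheme.{u}} (f₀ : X₀ ⟶ Y₀) (g₀ : Y₀ ⟶ D.obj i)
    [CompactSpace Y₀] [LocallyOfFinitePresentation f₀] [QuasiCompact f₀] [QuasiSeparated f₀]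
    {X Y : Scheme.{u}} {qY : Y ⟶ Y₀} {qX : X ⟶ X₀} {f : X ⟶ Y} {g : Y ⟶ c.pt}
    (hY : IsPullback qY g g₀ (c.π.app i)) (hX : IsPullback qX f f₀ qY) {d : ℕ}
    (hd : Cyc.HasRelDim f d) :
    ∃ (j : I) (φ : j ⟶ i) (Xj Yj : Scheme.{u}) (fj : Xj ⟶ Yj) (gj : Yj ⟶ D.obj j) (pY : Yj ⟶ Y₀)
      (pX : Xj ⟶ X₀), IsPullback pY gj g₀ (D.map φ) ∧ IsPullback pX fj f₀ pY ∧
        Cyc.HasRelDim fj d := by
  let J : Over i := Over.mk (𝟙 i)
  let w : (bcDiagram D g₀).obj J ⟶ Y₀ := pullback.snd (D.map J.hom) g₀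
  haveI : CompactSpace ((bcDiagram D g₀).obj J) :=
    QuasiCompact.compactSpace_of_compactSpace (X := pullback (D.map J.hom) g₀)
      (pullback.snd (D.map J.hom) g₀)
  haveI : LocallyOfFiniteType f := MorphismProperty.of_isPullback hX
    (inferInstanceAs (LocallyOfFiniteType f₀))
  obtain ⟨k, a, hk⟩ := exists_preimage_subset (isLimitSqCone hc hY) (i := J)
    (A := Set.univ) (B := w ⁻¹' {y | PureFibre f₀ d y}) cc_univ
    (by
      rw [← Set.preimage_compl]
      exact (cc_compl_of_isLocallyConstructible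
        (isLocallyConstructible_setOf_pureFibre f₀ d)).preimage w)
    (fun z _ => by
      show PureFibre f₀ d (w (toStage hY J z))
      rw [← Scheme.Hom.comp_apply, toStage_snd]
      exact (pureFibre_baseChange_iff hX d z).mp ((hasRelDim_iff_pureFibre f d).mp hd z))
  have hw : (bcDiagram D g₀).map a ≫ w = pullback.snd (D.map k.hom) g₀ :=
    (pullback.lift_snd ..).trans (Category.comp_id _)
  let pY : pullback (D.map k.hom) g₀ ⟶ Y₀ := pullback.snd _ _
  refine ⟨k.left, k.hom, _, _, pullback.snd f₀ pY, pullback.fst _ _, pY, pullback.fst f₀ pY,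
    (IsPullback.of_hasPullback (D.map k.hom) g₀).flip, IsPullback.of_hasPullback f₀ pY, ?_⟩
  haveI : LocallyOfFiniteType (pullback.snd f₀ pY) := MorphismProperty.pullback_snd f₀ pY
    (inferInstanceAs (LocallyOfFiniteType f₀))
  rw [hasRelDim_iff_pureFibre]
  intro z
  rw [pureFibre_baseChange_iff (IsPullback.of_hasPullback f₀ pY)]
  have := hk (Set.mem_univ z)
  rwa [Set.mem_preimage, Set.mem_preimage, ← Scheme.Hom.comp_apply, hw] at this

end Groth.L19.Limit
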