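import Groth.Agent.L19.Approx.Affine

/-!
# Recognising limits by sections on the affine opens of a base
-/

set_option backward.isDefEq.respectTransparency.types false
set_option backward.isDefEq.respectTransparency false
set_option backward.defeqAttrib.useBackward true
set_option linter.style.haveILetI false

universe u

open CategoryTheory CategoryTheory.Limits AlgebraicGeometry TopologicalSpace Opposite

namespace Groth.L19.Limit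

open Groth.L19.Approx

theorem nonempty_isLimit_of_sections {J : Type u} [Category.{u} J] [IsCofiltered J]
    {D : J ⥤ Scheme.{u}} [∀ {i j} (a : i ⟶ j), IsAffineHom (D.map a)] {P : Scheme.{u}}
    (t : ∀ j, D.obj j ⟶ P) (ht : ∀ {i j} (a : i ⟶ j), D.map a ≫ t j = t i)
    [∀ j, IsAffineHom (t j)] (c : Cone D) (f : c.pt ⟶ P) [IsAffineHom f]
    (hf : ∀ j, c.π.app j ≫ t j = f)
    (hsurj : ∀ (V : P.affineOpens) (s : Γ(c.pt, f ⁻¹ᵁ V.1)),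
      ∃ (j : J) (e : f ⁻¹ᵁ V.1 ≤ c.π.app j ⁻¹ᵁ (t j ⁻¹ᵁ V.1)) (x : Γ(D.obj j, t j ⁻¹ᵁ V.1)),
        (c.π.app j).appLE (t j ⁻¹ᵁ V.1) (f ⁻¹ᵁ V.1) e x = s)
    (hinj : ∀ (V : P.affineOpens) (j : J) (e : f ⁻¹ᵁ V.1 ≤ c.π.app j ⁻¹ᵁ (t j ⁻¹ᵁ V.1))
      (x : Γ(D.obj j, t j ⁻¹ᵁ V.1)), (c.π.app j).appLE (t j ⁻¹ᵁ V.1) (f ⁻¹ᵁ V.1) e x = 0 →
        ∃ (k : J) (a : k ⟶ j) (e' : t k ⁻¹ᵁ V.1 ≤ D.map a ⁻¹ᵁ (t j ⁻¹ᵁ V.1)),
          (D.map a).appLE (t j ⁻¹ᵁ V.1) (t k ⁻¹ᵁ V.1) e' x = 0) :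
    Nonempty (IsLimit c) := by
  haveI : HasLimit D := Limit.hasLimit D
  let L := limit.cone D
  have hL : IsLimit L := limit.isLimit D
  let φ : c.pt ⟶ L.pt := hL.lift c
  have hcone : ∀ j, φ ≫ L.π.app j = c.π.app j := fun j => hL.fac c j
  obtain ⟨i₀⟩ := IsCofiltered.nonempty (C := J)
  let πL : L.pt ⟶ P := L.π.app i₀ ≫ t i₀
  have hπL : ∀ i, L.π.app i ≫ t i = πL := fun i => by
    show _ = L.π.app i₀ ≫ _
    rw [← L.w (IsCofiltered.minToLeft i i₀), ← L.w (IsCofiltered.minToRight i i₀), Category.assoc,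
      Category.assoc, ht, ht]
  have hφ : φ ≫ πL = f := by
    show φ ≫ L.π.app i₀ ≫ _ = f
    rw [← Category.assoc, hcone, hf]
  haveI : ∀ i, IsAffineHom (L.π.app i) := fun i => isAffineHom_π_app D L hL i
  haveI : IsAffineHom πL := inferInstanceAs (IsAffineHom (L.π.app i₀ ≫ _))
  haveI : IsIso φ := by
    refine IsZariskiLocalAtTarget.of_iSup_eq_top (P := MorphismProperty.isomorphisms Scheme.{u})
      (fun V : P.affineOpens => πL ⁻¹ᵁ V.1) ?_ fun V => ?_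
    · rw [← Scheme.Hom.preimage_iSup, iSup_affineOpens_eq_top, Scheme.Hom.preimage_top]
    haveI : IsAffine (πL ⁻¹ᵁ V.1).toScheme := V.2.preimage πL
    have hpre : φ ⁻¹ᵁ (πL ⁻¹ᵁ V.1) = f ⁻¹ᵁ V.1 := by rw [← Scheme.Hom.comp_preimage, hφ]
    haveI : IsAffine (φ ⁻¹ᵁ (πL ⁻¹ᵁ V.1)).toScheme := hpre ▸ V.2.preimage f
    refine isIso_of_isIso_appTop (φ ∣_ (πL ⁻¹ᵁ V.1)) ?_
    suffices IsIso (φ.app (πL ⁻¹ᵁ V.1)) by
      rw [morphismRestrict_appTop]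
      haveI : IsIso (φ.app ((πL ⁻¹ᵁ V.1).ι ''ᵁ ⊤)) := by
        rw [Scheme.Opens.ι_image_top]; exact this
      infer_instance
    refine (ConcreteCategory.isIso_iff_bijective _).mpr
      ⟨(injective_iff_map_eq_zero (φ.app (πL ⁻¹ᵁ V.1)).hom).mpr fun z hz => ?_, fun s' => ?_⟩
    · -- injectivity
      let U₀ := t i₀ ⁻¹ᵁ V.1
      have hW₀ : L.π.app i₀ ⁻¹ᵁ U₀ = πL ⁻¹ᵁ V.1 := rfl
      obtain ⟨j, h, x, hx⟩ := Groth.L19.Approx.exists_appLE_eq hL i₀ (V.2.preimage (t i₀)) (show Γ(L.pt, L.π.app i₀ ⁻¹ᵁ U₀) from z)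
      have hU : t j.left ⁻¹ᵁ V.1 = D.map j.hom ⁻¹ᵁ U₀ := by
        rw [← Scheme.Hom.comp_preimage, ht]
      let x' : Γ(D.obj j.left, t j.left ⁻¹ᵁ V.1) := (D.obj j.left).presheaf.map (eqToHom hU).op x
      have e : f ⁻¹ᵁ V.1 ≤ c.π.app j.left ⁻¹ᵁ (t j.left ⁻¹ᵁ V.1) := by
        rw [← Scheme.Hom.comp_preimage, hf]
      have eL : πL ⁻¹ᵁ V.1 ≤ L.π.app j.left ⁻¹ᵁ (t j.left ⁻¹ᵁ V.1) := by
        rw [← Scheme.Hom.comp_preimage, hπL]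
      have hx' : (L.π.app j.left).appLE (t j.left ⁻¹ᵁ V.1) (πL ⁻¹ᵁ V.1) eL x' = z := by
        refine Eq.trans ?_ hx
        simp only [x', ← CommRingCat.comp_apply, Scheme.Hom.map_appLE]
        rfl
      have h0 : (c.π.app j.left).appLE (t j.left ⁻¹ᵁ V.1) (f ⁻¹ᵁ V.1) e x' = 0 := by
        rw [appLE_congr_hom (hcone j.left).symm, ← Scheme.Hom.appLE_comp_appLE φ (L.π.app j.left)
          (t j.left ⁻¹ᵁ V.1) (πL ⁻¹ᵁ V.1) (f ⁻¹ᵁ V.1) eL hpre.ge, CommRingCat.comp_apply]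
        refine (congrArg _ hx').trans ?_
        rw [Scheme.Hom.appLE, CommRingCat.comp_apply, hz, map_zero]
      obtain ⟨k, a, e', hk⟩ := hinj V j.left e x' h0
      have ek : πL ⁻¹ᵁ V.1 ≤ L.π.app k ⁻¹ᵁ (t k ⁻¹ᵁ V.1) := by
        rw [← Scheme.Hom.comp_preimage, hπL]
      rw [← hx', appLE_congr_hom (L.w a).symm,
        ← Scheme.Hom.appLE_comp_appLE (L.π.app k) (D.map a) (t j.left ⁻¹ᵁ V.1) (t k ⁻¹ᵁ V.1)
          (πL ⁻¹ᵁ V.1) e' ek, CommRingCat.comp_apply, hk, map_zero]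
    · -- surjectivity
      obtain ⟨j, e, x, hx⟩ := hsurj V (c.pt.presheaf.map (eqToHom hpre.symm).op s')
      have eL : πL ⁻¹ᵁ V.1 ≤ L.π.app j ⁻¹ᵁ (t j ⁻¹ᵁ V.1) := by
        rw [← Scheme.Hom.comp_preimage, hπL]
      refine ⟨(L.π.app j).appLE (t j ⁻¹ᵁ V.1) (πL ⁻¹ᵁ V.1) eL x, ?_⟩
      apply (ConcreteCategory.bijective_of_isIso (c.pt.presheaf.map (eqToHom hpre.symm).op)).1
      refine Eq.trans ?_ hx
      rw [appLE_congr_hom (hcone j).symm, ← Scheme.Hom.appLE_comp_appLE φ (L.π.app j)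
        (t j ⁻¹ᵁ V.1) (πL ⁻¹ᵁ V.1) (f ⁻¹ᵁ V.1) eL hpre.ge]
      rfl
  haveI : IsIso (hL.lift c) := inferInstanceAs (IsIso φ)
  exact ⟨IsLimit.ofPointIso hL⟩

end Groth.L19.Limit
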